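/-
In an odd order group acting fixed point freely every subgroup of prime order is normal.
-/
import Cfsg.Agent.Lib.Solvable.FixedPointFree
import Cfsg.Agent.Lib.Solvable.Coprime
import Cfsg.Agent.Lib.OddOrder.PlaneBasics
import Cfsg.Agent.Lib.OddOrder.Exceptional
import Cfsg.Agent.S1386
import Mathlib.GroupTheory.SpecificGroups.ZGroup

set_option autoImplicit false
set_option linter.style.haveILetI false
set_option linter.unusedSectionVars false

namespace Cfsg.Agent.OddChar.P14

open scoped IsMulCommutative commutatorElement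

universe u

variable {G : Type u} [Group G] [Finite G] {V E W : Subgroup G}

/-- A fixed point free group of odd order is a Z-group. -/
theorem isZGroup_of_fpf (hV : V ≠ ⊥) (hEV : E ≤ Subgroup.normalizer (V : Set G))
    (hfpf : ∀ e ∈ E, e ≠ 1 → V ⊓ Subgroup.centralizer ({e} : Set G) = ⊥) (hodd : Odd (Nat.card E)) :
    IsZGroup E := by
  refine ⟨fun p hp P => ?_⟩
  haveI := Fact.mk hp
  set A := (P : Subgroup E).map E.subtype with hA
  have hAE : A ≤ E := Subgroup.map_subtype_le _
  have hc : IsCyclic A := by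
    rcases FpfStruct.cyclic_or_quaternion (P.isPGroup'.map E.subtype)
      (FpfStruct.abCyclic hV (hAE.trans hEV) fun e he => hfpf e (hAE he)) with h | ⟨-, n, ⟨e⟩⟩
    · exact h
    · exfalso
      have h1 : Nat.card A = 4 * 2 ^ n := by
        rw [Nat.card_congr e.toEquiv, Nat.card_eq_fintype_card, QuaternionGroup.card]
      exact Nat.not_even_iff_odd.2 (hodd.of_dvd_nat (Subgroup.card_dvd_of_le hAE))
        (by rw [h1]; exact ⟨2 * 2 ^ n, by ring⟩)
  exact ((P : Subgroup E).equivMapOfInjective E.subtype E.subtype_injective).isCyclic.2 hc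

/-- The subgroups of prime order are normal. -/
theorem line_normal [IsMulCommutative V] (hV : V ≠ ⊥) (hEV : E ≤ Subgroup.normalizer (V : Set G))
    (hfpf : ∀ e ∈ E, e ≠ 1 → V ⊓ Subgroup.centralizer ({e} : Set G) = ⊥) (hodd : Odd (Nat.card E))
    {q : ℕ} (hq : q.Prime) (hWE : W ≤ E) (hW : Nat.card W = q) :
    E ≤ Subgroup.normalizer (W : Set G) := by
  classical
  haveI := Fact.mk hq
  haveI := isZGroup_of_fpf hV hEV hfpf hodd
  set D := (commutator E).map E.subtype with hD
  have hDE : D ≤ E := Subgroup.map_subtype_le _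
  have hDc : IsCyclic D :=
    ((commutator E).equivMapOfInjective E.subtype E.subtype_injective).isCyclic.1 (IsZGroup.isCyclic_commutator E)
  have hED : ∀ e ∈ E, ∀ x ∈ E, e * x * e⁻¹ * x⁻¹ ∈ D := fun e he x hx =>
    ⟨⁅(⟨e, he⟩ : E), ⟨x, hx⟩⁆, Subgroup.commutator_mem_commutator (Subgroup.mem_top _) (Subgroup.mem_top _), rfl⟩
  have hDn : ∀ e ∈ E, ∀ d ∈ D, e * d * e⁻¹ ∈ D := fun e he d hd => by
    have := D.mul_mem (hED e he d (hDE hd)) hd
    rwa [mul_assoc, inv_mul_cancel, mul_one] at this
  have hconj : ∀ X : Subgroup G, X ≤ D → ∀ e ∈ E, e ∈ Subgroup.normalizer (X : Set G) := fun X hX e he => by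
    refine Subgroup.mem_normalizer_iff_map_conj_eq.2 (S1386.eq_of_card_eq_of_cyclic _ _ D ?_ hX hDc
      (Subgroup.card_map_of_injective (MulAut.conj e).injective))
    rintro _ ⟨x, hx, rfl⟩
    exact hDn e he x (hX hx)
  have hcop : (Nat.card D).Coprime (D.relIndex E) := by
    rw [hD, Subgroup.card_map_of_injective E.subtype_injective, Subgroup.relIndex, Subgroup.subgroupOf,
      Subgroup.comap_map_eq_self_of_injective E.subtype_injective]
    exact IsZGroup.coprime_commutator_index E
  by_cases hqD : q ∣ Nat.card D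
  · have hWD : W ≤ D := by
      haveI : (D.subgroupOf E).Normal :=
        Subgroup.normal_subgroupOf_of_le_normalizer fun e he => hconj D le_rfl e he
      have h := OddOrder.Exceptional.le_of_coprime_index (N := D.subgroupOf E) (X := W.subgroupOf E) (by
        rw [Nat.card_congr (Subgroup.subgroupOfEquivOfLe hWE).toEquiv, hW]
        exact hcop.coprime_dvd_left hqD)
      exact fun w hw => Subgroup.mem_subgroupOf.1 (h (show (⟨w, hWE hw⟩ : E) ∈ W.subgroupOf E from hw))
    exact fun e he => hconj W hWD e he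
  have hcDW : (Nat.card W).Coprime (Nat.card D) := hW ▸ hq.coprime_iff_not_dvd.2 hqD
  haveI : IsMulCommutative D := by
    haveI := hDc
    infer_instance
  have hWD : W ≤ Subgroup.centralizer (D : Set G) := by
    refine CoprimeAct.le_centralizer_of_fix_prime (fun w hw => hconj D le_rfl w (hWE hw)) hcDW
      fun v hv hvp a ha => ?_
    set X := Subgroup.zpowers v with hX
    have hXD : X ≤ D := Subgroup.zpowers_le.2 hv
    have hWX : W ⊓ X = ⊥ := Subgroup.inf_eq_bot_of_coprime (hcDW.coprime_dvd_right (Subgroup.card_dvd_of_le hXD))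
    have hcard : Nat.card ↥(X ⊔ W) = orderOf v * q := by
      have h := SolvBasic.card_sup_mul_card_inf (N := X) (H := W) fun w hw => hconj X hXD w (hWE hw)
      rwa [inf_comm, hWX, Subgroup.card_bot, mul_one, hW, hX, Nat.card_zpowers] at h
    have hle : X ⊔ W ≤ E := sup_le (hXD.trans hDE) hWE
    haveI := FpfStruct.pq_cyclic hV (hle.trans hEV) (fun e he => hfpf e (hle he)) hvp hq hcard
    exact congrArg Subtype.val (mul_comm' (⟨a, Subgroup.mem_sup_right ha⟩ : ↥(X ⊔ W))
      ⟨v, Subgroup.mem_sup_left (Subgroup.mem_zpowers v)⟩)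
  intro e he
  refine OddOrder.ComplAbelian.mem_normalizer_of_map_le fun w hw => ?_
  set d := e * w * e⁻¹ * w⁻¹ with hd
  have hdD : d ∈ D := hED e he w (hWE hw)
  have hc : Commute d w := Subgroup.mem_centralizer_iff.1 (hWD hw) d hdD
  have hwq : w ^ q = 1 := orderOf_dvd_iff_pow_eq_one.1 (hW ▸ Subgroup.orderOf_dvd_natCard W hw)
  have hdq : d ^ q = 1 := by
    have h : (d * w) ^ q = 1 := by
      rw [hd, inv_mul_cancel_right, conj_pow, hwq, mul_one, mul_inv_cancel]
    rwa [hc.mul_pow, hwq, mul_one] at h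
  have hd1 : d = 1 := by
    rw [← orderOf_eq_one_iff]
    exact Nat.eq_one_of_dvd_coprimes (hq.coprime_iff_not_dvd.2 hqD)
      (orderOf_dvd_iff_pow_eq_one.2 hdq) (Subgroup.orderOf_dvd_natCard D hdD)
  rw [← show d * w = e * w * e⁻¹ by rw [hd, inv_mul_cancel_right], hd1, one_mul]
  exact hw

end Cfsg.Agent.OddChar.P14
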