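/-
Peterfalvi section 14 (S1549): a maximal subgroup over `N(U)` for `S` of Type II.
-/
import Cfsg.Agent.Lib.OddChar.P14.LineNormal
import Cfsg.Agent.Lib.OddChar.P13.OfPair
import Cfsg.Agent.Lib.OddOrder.ComplBasics
import Cfsg.Agent.Lib.CN.Basic
import Cfsg.Agent.S1385

set_option autoImplicit false
set_option linter.style.haveILetI false
set_option linter.unusedSectionVars false

namespace Cfsg.Agent.OddChar.P14

open scoped commutatorElement IsMulCommutative
open OddOrder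

universe u

variable {G : Type u} [Group G] [Finite G] {S T W₁ W₂ U V L : Subgroup G}
  (hG : Cfsg.IsMinSimpleOddOrder G)
include hG

theorem not_typeI_of_typeP {M A B C : Subgroup G} (hM : IsCoatom M) (hP : Cfsg.IsTypePWith M A B C) :
    ¬ Cfsg.IsOfTypeI M := fun hI => by
  obtain ⟨r, hr⟩ := Types.kappa_of_typeP hG hM hP
  rw [Types.typeI_kappa hG hM hI] at hr
  exact hr

/-- The two members of a pair are not conjugate. -/
theorem pair_not_conj (h : IsPairP G S T W₁ W₂ U V) (g : G) : T ≠ S.map (MulAut.conj g).toMonoidHom := by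
  intro e
  set f := (MulAut.conj g).toMonoidHom with hf
  have hfi : Function.Injective f := (MulAut.conj g).injective
  have hT := Compl.card_eq h.right.W₁_compl
  rw [e, ← Subgroup.map_commutator, Subgroup.card_map_of_injective hfi, Subgroup.card_map_of_injective hfi,
    Compl.card_eq h.left.W₁_compl] at hT
  have heq : Nat.card W₁ = Nat.card W₂ := Nat.eq_of_mul_eq_mul_left Nat.card_pos hT
  have hcop := (P13.coprime_W₁_H h.left).coprime_dvd_right (Subgroup.card_dvd_of_le (P13.W₂_le_H h.left))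
  rw [heq, Nat.coprime_self] at hcop
  exact h.left.selfNormalizing.2.1 (Subgroup.card_eq_one.1 hcop)

/-- A maximal subgroup that is not of Type I is conjugate to a member of the pair. -/
theorem conj_of_not_typeI (h : IsPairP G S T W₁ W₂ U V) (hL : IsCoatom L) (hI : ¬ Cfsg.IsOfTypeI L) :
    ∃ g : G, L = S.map (MulAut.conj g).toMonoidHom ∨ L = T.map (MulAut.conj g).toMonoidHom := by
  have hSI := not_typeI_of_typeP hG h.coatom_left h.left
  have hTI := not_typeI_of_typeP hG h.coatom_right h.right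
  rcases S1385.result hG with hall | ⟨-, -, A, B, -, -, -, -, -, -, -, -, -, hcl⟩
  · exact absurd (hall L hL) hI
  have hmov : ∀ {X Y : Subgroup G} {a b : G}, X = A.map (MulAut.conj a).toMonoidHom →
      Y = A.map (MulAut.conj b).toMonoidHom → Y = X.map (MulAut.conj (b * a⁻¹)).toMonoidHom := by
    intro X Y a b hX hY
    rw [hX, hY, Sigma.map_conj_map, inv_mul_cancel_right]
  have hmov' : ∀ {X Y : Subgroup G} {a b : G}, X = B.map (MulAut.conj a).toMonoidHom →
      Y = B.map (MulAut.conj b).toMonoidHom → Y = X.map (MulAut.conj (b * a⁻¹)).toMonoidHom := by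
    intro X Y a b hX hY
    rw [hX, hY, Sigma.map_conj_map, inv_mul_cancel_right]
  obtain ⟨a, ha⟩ := (hcl S h.coatom_left).resolve_left hSI
  obtain ⟨b, hb⟩ := (hcl T h.coatom_right).resolve_left hTI
  obtain ⟨c, hc⟩ := (hcl L hL).resolve_left hI
  rcases ha with ha | ha <;> rcases hb with hb | hb
  · exact absurd (hmov ha hb) (pair_not_conj hG h _)
  · rcases hc with hc | hc
    exacts [⟨_, Or.inl (hmov ha hc)⟩, ⟨_, Or.inr (hmov' hb hc)⟩]
  · rcases hc with hc | hc
    exacts [⟨_, Or.inr (hmov hb hc)⟩, ⟨_, Or.inl (hmov' ha hc)⟩]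
  · exact absurd (hmov' ha hb) (pair_not_conj hG h _)

/-- A maximal subgroup over `N(U)` is not conjugate to `S`. -/
theorem not_conj_left (hS : IsCoatom S) (hP : Cfsg.IsTypePWith S W₁ U W₂)
    (hN : ¬ Subgroup.normalizer (U : Set G) ≤ S) (hNL : Subgroup.normalizer (U : Set G) ≤ L) (g : G) :
    L ≠ S.map (MulAut.conj g).toMonoidHom := by
  intro e
  set f := (MulAut.conj g⁻¹).toMonoidHom with hf
  set X := U.map f with hX
  have hLS : L.map f = S := by rw [e, hf, Sigma.map_conj_map, inv_mul_cancel, Sigma.map_conj_one]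
  have hXS : X ≤ S := (Subgroup.map_mono (Subgroup.le_normalizer.trans hNL)).trans hLS.le
  have hXc : Nat.card X = Nat.card U := Subgroup.card_map_of_injective (MulAut.conj g⁻¹).injective
  have hDS := P13.derived_le hP
  set D := ⁅S, S⁆ with hD
  haveI : (D.subgroupOf S).Normal := by
    rw [Subgroup.subgroupOf, hD, show (⁅S, S⁆ : Subgroup G) = (commutator S).map S.subtype from
      (Subgroup.map_subtype_commutator S).symm, Subgroup.comap_map_eq_self_of_injective S.subtype_injective]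
    infer_instance
  have hXD : X ≤ D := fun x hx => by
    refine Subgroup.mem_subgroupOf.1 (Exceptional.le_of_coprime_index (N := D.subgroupOf S)
      (X := X.subgroupOf S) ?_ (show (⟨x, hXS hx⟩ : S) ∈ X.subgroupOf S from hx))
    rw [Nat.card_congr (Subgroup.subgroupOfEquivOfLe hXS).toEquiv, hXc,
      show (D.subgroupOf S).index = Nat.card W₁ from Compl.relIndex_left hP.W₁_compl]
    exact ((P13.coprime_W₁_derived hP).coprime_dvd_right (Subgroup.card_dvd_of_le hP.U_compl.2.1)).symm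
  set H := Cfsg.fittingHallOf S with hH
  have hXn : X ≤ Subgroup.normalizer (H : Set G) := hXS.trans (FHall.le_normalizer_fittingHallOf S)
  have hbot : H ⊓ X = ⊥ := Subgroup.inf_eq_bot_of_coprime (hXc ▸ TypeP.coprime_H_U hP)
  have hsup : H ⊔ X = D := by
    refine Subgroup.eq_of_le_of_card_ge (sup_le (P13.H_le hP) hXD) ?_
    have h := SolvBasic.card_sup_mul_card_inf hXn
    rw [hbot, Subgroup.card_bot, mul_one, hXc] at h
    rw [h, P13.card_derived hP]
  have hc : Cfsg.IsComplIn H X D := ⟨P13.H_le hP, hXD, hbot, fun m hm =>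
    (SolvBasic.mem_sup_iff_of_le_normalizer hXn).1 (hsup.ge hm)⟩
  obtain ⟨c, hcD, hcU⟩ := P13.compl_conj hG hS hP hc
  have hn : c * g⁻¹ ∈ L := hNL (Subgroup.mem_normalizer_iff_map_conj_eq.2 (by
    show U.map (MulAut.conj (c * g⁻¹)).toMonoidHom = U
    rw [← Sigma.map_conj_map]; exact hcU))
  have h1 : g⁻¹ * (c * g⁻¹) * g⁻¹⁻¹ ∈ S := hLS.le ⟨_, hn, rfl⟩
  have hgS : g ∈ S := by
    have h2 : g⁻¹ * c ∈ S := by simpa [mul_assoc] using h1
    have := S.mul_mem (hDS hcD) (S.inv_mem h2)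
    simpa [mul_assoc] using this
  refine hN (hNL.trans ?_)
  rw [e, Support.map_conj_of_mem hgS]

/-- A maximal subgroup over `N(U)` is not conjugate to `T`. -/
theorem not_conj_right (hT : IsCoatom T) (hP : Cfsg.IsTypePWith S W₁ U W₂) (hU : U ≠ ⊥)
    (hq : (Nat.card W₁).Prime) (helT : Cfsg.IsElementaryAbelian (Nat.card W₁) (Cfsg.fittingHallOf T))
    (hT1 : W₁ ≤ Cfsg.fittingHallOf T) (hNL : Subgroup.normalizer (U : Set G) ≤ L) (g : G) :
    L ≠ T.map (MulAut.conj g).toMonoidHom := by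
  intro e
  set φ := MulAut.conj g⁻¹ with hφ
  have hLT : L.map φ.toMonoidHom = T := by
    rw [e, hφ, Sigma.map_conj_map, inv_mul_cancel, Sigma.map_conj_one]
  obtain ⟨w, hw, hw1⟩ := (Subgroup.bot_or_exists_ne_one W₁).resolve_left hP.W₁_ne
  obtain ⟨u, hu, hu1⟩ := (Subgroup.bot_or_exists_ne_one U).resolve_left hU
  haveI := Fact.mk hq
  set q := Nat.card W₁ with hqdef
  set H := Cfsg.fittingHallOf T with hH
  have hwo : orderOf w = q := orderOf_eq_prime (orderOf_dvd_iff_pow_eq_one.1 (Subgroup.orderOf_dvd_natCard W₁ hw)) hw1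
  have hqH : q ∣ Nat.card H := Subgroup.card_dvd_of_le hT1
  have hwH : φ w ∈ H := P13.mem_H_of_orderOf hG hT hq hqH (hLT.le ⟨w, hNL (hP.U_normal hw), rfl⟩)
    ((MulEquiv.orderOf_eq φ w).trans hwo)
  have huT : φ u ∈ T := hLT.le ⟨u, hNL (Subgroup.le_normalizer hu), rfl⟩
  set c := w * u * w⁻¹ * u⁻¹ with hc
  have hcU : c ∈ U := U.mul_mem ((Subgroup.mem_normalizer_iff.1 (hP.U_normal hw) u).1 hu) (U.inv_mem hu)
  have hcH : φ c ∈ H := by
    rw [hc, map_mul, map_mul, map_mul, map_inv, map_inv, mul_assoc (φ w), mul_assoc (φ w)]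
    exact H.mul_mem hwH ((Subgroup.mem_normalizer_iff.1 (FHall.le_normalizer_fittingHallOf T huT) _).1
      (H.inv_mem hwH))
  have hcq : c ^ q = 1 := φ.injective (by rw [map_pow, map_one]; exact helT.2 _ hcH)
  have hqU : ¬ q ∣ Nat.card U := hq.coprime_iff_not_dvd.1
    ((P13.coprime_W₁_derived hP).coprime_dvd_right (Subgroup.card_dvd_of_le hP.U_compl.2.1))
  have hc1 : c = 1 := orderOf_eq_one_iff.1 (Nat.eq_one_of_dvd_coprimes (hq.coprime_iff_not_dvd.2 hqU)
    (orderOf_dvd_iff_pow_eq_one.2 hcq) (Subgroup.orderOf_dvd_natCard U hcU))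
  refine hu1 (P13.fpf hP hw hw1 hu ?_)
  exact mul_inv_eq_iff_eq_mul.1 (mul_inv_eq_one.1 hc1)

/-- An element of order coprime to a normal Hall subgroup's index lies in it. -/
theorem mem_kernel (hL : IsCoatom L) {r : ℕ} (hr : r.Prime) (hrH : r ∣ Nat.card (Cfsg.fittingHallOf L))
    {y : G} (hy : y ∈ L) (hyo : orderOf y = r) : y ∈ Cfsg.fittingHallOf L :=
  P13.mem_H_of_orderOf hG hL hr hrH hy hyo

/-- S1549 from the earlier results. -/
theorem normalizerUMaximal (hfr : TypeOneFrobenius G) (hpf : PairFacts G) (hpn : PairNormalizer G) :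
    NormalizerUMaximal G := by
  intro S T W₁ W₂ U V h hII L hL hNL
  classical
  have hS := h.coatom_left
  have hT := h.coatom_right
  have hP := h.left
  obtain ⟨hU, hq, hab, hN, -, -⟩ := P13.typeII_facts hG hS hP hII
  haveI := hab
  haveI := Fact.mk hq
  obtain ⟨-, -, helT, -, -, -⟩ := hpf T S W₂ W₁ V U h.symm
  obtain ⟨hNC, hCW⟩ := hpn S T W₁ W₂ U V h
  have hT1 : W₁ ≤ Cfsg.fittingHallOf T := P13.W₂_le_H h.right
  have hI : Cfsg.IsOfTypeI L := by
    by_contra hI
    obtain ⟨g, hg | hg⟩ := conj_of_not_typeI hG h hL hI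
    · exact not_conj_left hG hS hP hN hNL g hg
    · exact not_conj_right hG hT hP hU hq helT hT1 hNL g hg
  have hfix := hfr L hL hI
  obtain ⟨heσ, -⟩ := Types.decomp_of_kappa_empty hG hL (Types.typeI_kappa hG hL hI)
  set H := Cfsg.fittingHallOf L with hH
  set q := Nat.card W₁ with hqdef
  have hUL : U ≤ L := Subgroup.le_normalizer.trans hNL
  have hW1L : W₁ ≤ L := hP.U_normal.trans hNL
  have hLn : L ≤ Subgroup.normalizer (H : Set G) := FHall.le_normalizer_fittingHallOf L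
  haveI := FHall.fittingHallOf_nilpotent L
  obtain ⟨w, hw, hw1⟩ := (Subgroup.bot_or_exists_ne_one W₁).resolve_left hP.W₁_ne
  have hwo : orderOf w = q := orderOf_eq_prime (orderOf_dvd_iff_pow_eq_one.1 (Subgroup.orderOf_dvd_natCard W₁ hw)) hw1
  have hqU : q.Coprime (Nat.card U) :=
    (P13.coprime_W₁_derived hP).coprime_dvd_right (Subgroup.card_dvd_of_le hP.U_compl.2.1)
  -- `q` does not divide `|H|`
  have hqH : ¬ q ∣ Nat.card H := by
    intro hd
    have hwH : w ∈ H := mem_kernel hG hL hq hd (hW1L hw) hwo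
    by_cases hUH : U ⊓ H = ⊥
    · obtain ⟨u, hu, hu1⟩ := (Subgroup.bot_or_exists_ne_one U).resolve_left hU
      have hc : w * u * w⁻¹ * u⁻¹ ∈ U ⊓ H := by
        refine ⟨U.mul_mem ((Subgroup.mem_normalizer_iff.1 (hP.U_normal hw) u).1 hu) (U.inv_mem hu), ?_⟩
        rw [mul_assoc w, mul_assoc w]
        exact H.mul_mem hwH ((Subgroup.mem_normalizer_iff.1 (hLn (hUL hu)) _).1 (H.inv_mem hwH))
      rw [hUH, Subgroup.mem_bot] at hc
      exact hu1 (P13.fpf hP hw hw1 hu (mul_inv_eq_iff_eq_mul.1 (mul_inv_eq_one.1 hc)))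
    · obtain ⟨u, hu, hu1⟩ := (Subgroup.bot_or_exists_ne_one _).resolve_left hUH
      refine hu1 (P13.fpf hP hw hw1 hu.1 ?_)
      exact (CN.commute_of_coprime (FHall.fittingHallOf_nilpotent L) hwH hu.2
        (hwo ▸ hqU.coprime_dvd_right (Subgroup.orderOf_dvd_natCard U hu.1))).eq
  have hW1H : H ⊓ W₁ = ⊥ := Subgroup.inf_eq_bot_of_coprime (hq.coprime_iff_not_dvd.2 hqH).symm
  -- complements
  have hodd : ∀ X : Subgroup G, Odd (Nat.card X) := fun X => hG.1.of_dvd_nat X.card_subgroup_dvd_card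
  set Z := (Subgroup.center H).map H.subtype with hZ
  have hH1 : H ≠ ⊥ := heσ ▸ Kappa.sigmaCore_ne_bot hG hL
  haveI : IsMulCommutative Z := by rw [hZ]; infer_instance
  have hZ1 : Z ≠ ⊥ := by
    haveI : Nontrivial H := H.nontrivial_iff_ne_bot.2 hH1
    intro e
    exact Group.IsNilpotent.center_ne_bot (G := H)
      ((Subgroup.map_eq_bot_iff_of_injective _ H.subtype_injective).1 e)
  have hline : ∀ F : Subgroup G, Cfsg.IsComplIn F (Cfsg.sigmaCore L) L → W₁ ≤ F →
      F ≤ Subgroup.normalizer (W₁ : Set G) := by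
    intro F hF hWF
    refine line_normal (V := Z) hZ1 ((hF.1.trans hLn).trans (NTI.normalizer_le_normalizer_char inferInstance))
      (fun e he he1 => (Subgroup.eq_bot_iff_forall _).2 fun z ⟨hz, hzc⟩ => ?_) (hodd F) hq hWF rfl
    by_contra hz1
    have hzH : z ∈ H := Subgroup.map_subtype_le _ hz
    refine he1 (Subgroup.mem_bot.1 (hF.2.2.1.le ⟨he, heσ.le (hfix z hzH hz1 ⟨hF.1 he, ?_⟩)⟩))
    exact Subgroup.mem_centralizer_singleton_iff.2 (Subgroup.mem_centralizer_singleton_iff.1 hzc).symm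
  -- `U ≤ H`
  have hprimes : ∀ r : ℕ, r.Prime → r ∣ Nat.card U → r ∣ Nat.card H := by
    intro r hr hrU
    by_contra hrH
    haveI := Fact.mk hr
    let X : Subgroup G :=
      { carrier := {x | x ∈ U ∧ x ^ r = 1}
        mul_mem' := fun {a b} ha hb => ⟨U.mul_mem ha.1 hb.1, by
          rw [(show Commute a b from congrArg Subtype.val (mul_comm' (⟨a, ha.1⟩ : U) ⟨b, hb.1⟩)).mul_pow,
            ha.2, hb.2, one_mul]⟩
        one_mem' := ⟨U.one_mem, one_pow r⟩
        inv_mem' := fun {a} ha => ⟨U.inv_mem ha.1, by rw [inv_pow, ha.2, inv_one]⟩ }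
    have hXU : X ≤ U := fun x hx => hx.1
    have hWX : W₁ ≤ Subgroup.normalizer (X : Set G) := fun a ha => by
      refine ComplAbelian.mem_normalizer_of_map_le fun x hx => ?_
      exact ⟨(Subgroup.mem_normalizer_iff.1 (hP.U_normal ha) x).1 hx.1, by
        rw [conj_pow, hx.2, mul_one, mul_inv_cancel]⟩
    have hXp : IsPGroup r X := fun x => ⟨1, by
      rw [pow_one]; exact Subtype.ext (by rw [Subgroup.coe_pow]; exact x.2.2)⟩
    obtain ⟨k, hk⟩ := IsPGroup.iff_card.1 hXp
    have hcop : (Nat.card ↥(X ⊔ W₁)).Coprime (Nat.card (Cfsg.sigmaCore L)) := by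
      refine Nat.Coprime.coprime_dvd_left (Dvd.intro _ (SolvBasic.card_sup_mul_card_inf hWX)) ?_
      rw [← heσ, hk]
      exact Nat.Coprime.mul_left ((hr.coprime_iff_not_dvd.2 hrH).pow_left k) (hq.coprime_iff_not_dvd.2 hqH)
    obtain ⟨F, hF, hXF⟩ := ComplBasics.exists_complement_containing hG hL
      (sup_le (hXU.trans hUL) hW1L) hcop
    obtain ⟨y, hy⟩ := exists_prime_orderOf_dvd_card' (G := U) r hrU
    have hy1 : (y : G) ≠ 1 := fun e => by
      rw [← Subgroup.orderOf_coe, e, orderOf_one] at hy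
      exact hr.ne_one hy.symm
    have hyX : (y : G) ∈ X := ⟨y.2, by rw [← hy, ← Subgroup.coe_pow, pow_orderOf_eq_one]; rfl⟩
    have hc : w * y * w⁻¹ * (y : G)⁻¹ ∈ U ⊓ W₁ := by
      refine ⟨U.mul_mem ((Subgroup.mem_normalizer_iff.1 (hP.U_normal hw) _).1 y.2) (U.inv_mem y.2), ?_⟩
      rw [mul_assoc w, mul_assoc w]
      exact W₁.mul_mem hw ((Subgroup.mem_normalizer_iff.1
        (hline F hF (le_sup_right.trans hXF) (hXF (Subgroup.mem_sup_left hyX))) _).1 (W₁.inv_mem hw))
    rw [P13.U_inf_W₁ hP, Subgroup.mem_bot] at hc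
    exact hy1 (P13.fpf hP hw hw1 y.2 (mul_inv_eq_iff_eq_mul.1 (mul_inv_eq_one.1 hc)))
  have hUH : U ≤ H := by
    haveI : (H.subgroupOf L).Normal := Subgroup.normal_subgroupOf_of_le_normalizer hLn
    intro x hx
    refine Subgroup.mem_subgroupOf.1 (Exceptional.le_of_coprime_index (N := H.subgroupOf L)
      (X := U.subgroupOf L) ?_ (show (⟨x, hUL hx⟩ : L) ∈ U.subgroupOf L from hx))
    rw [Nat.card_congr (Subgroup.subgroupOfEquivOfLe hUL).toEquiv]
    exact Nat.coprime_of_dvd fun r hr h1 h2 =>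
      hr.ne_one (Nat.eq_one_of_dvd_coprimes (FHall.fittingHallOf_coprime L) (hprimes r hr h1) h2)
  refine ⟨hfix, hUH, ?_⟩
  -- the complement over `W₁`
  obtain ⟨E, hE, hWE⟩ := ComplBasics.exists_complement_containing hG hL hW1L
    (heσ ▸ hq.coprime_iff_not_dvd.2 hqH)
  have hEN := hline E hE hWE
  rw [hNC, hCW] at hEN
  have hHE : H ⊓ E = ⊥ := by rw [heσ, inf_comm]; exact hE.2.2.1
  have hHEL : H ⊔ E = L := by rw [heσ, sup_comm]; exact Compl.sup_eq hE
  set F := Cfsg.fittingHallOf T with hF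
  haveI := helT.1
  have hW2T : W₂ ≤ T := h.right.W₁_compl.2.1
  have hBn : W₂ ≤ Subgroup.normalizer (F : Set G) := hW2T.trans (FHall.le_normalizer_fittingHallOf T)
  have hBn' : F ⊔ W₂ ≤ Subgroup.normalizer (F : Set G) := sup_le Subgroup.le_normalizer hBn
  have hEF : F ⊓ E = W₁ := by
    haveI hz := isZGroup_of_fpf (V := Z) hZ1 ((hE.1.trans hLn).trans (NTI.normalizer_le_normalizer_char inferInstance))
      (fun e he he1 => (Subgroup.eq_bot_iff_forall _).2 fun z ⟨hz, hzc⟩ => by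
        by_contra hz1
        refine he1 (Subgroup.mem_bot.1 (hE.2.2.1.le ⟨he, heσ.le (hfix z (Subgroup.map_subtype_le _ hz) hz1 ⟨hE.1 he, ?_⟩)⟩))
        exact Subgroup.mem_centralizer_singleton_iff.2 (Subgroup.mem_centralizer_singleton_iff.1 hzc).symm) (hodd E)
    set A := F ⊓ E with hA
    haveI : IsZGroup A := @IsZGroup.of_injective _ _ _ _ (Subgroup.inclusion (inf_le_right : A ≤ E)) hz (Subgroup.inclusion_injective (inf_le_right : A ≤ E))
    have hAp : IsPGroup q A := fun x => ⟨1, by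
      rw [pow_one]; exact Subtype.ext (by rw [Subgroup.coe_pow]; exact helT.2 _ x.2.1)⟩
    haveI := hAp.isNilpotent
    haveI : IsCyclic A := inferInstance
    refine (Subgroup.eq_of_le_of_card_ge (le_inf hT1 hWE) ?_).symm
    rw [← IsCyclic.exponent_eq_card]
    refine Nat.le_of_dvd hq.pos (Monoid.exponent_dvd_of_forall_pow_eq_one fun x => Subtype.ext ?_)
    rw [Subgroup.coe_pow]
    exact helT.2 _ x.2.1
  by_cases hEF' : E ≤ F
  · left
    have : E = W₁ := by rw [← hEF]; exact (inf_eq_right.2 hEF').symm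
    exact ⟨this ▸ hHE, this ▸ hHEL⟩
  right
  set p := Nat.card W₂ with hpdef
  have hWF : F ⊓ W₂ = ⊥ := by
    rw [inf_comm]
    exact le_bot_iff.1 ((inf_le_inf_left W₂ h.right.U_compl.1).trans (le_of_eq (inf_comm _ _ |>.trans h.right.W₁_compl.2.2.1)))
  have hcardB : Nat.card ↥(F ⊔ W₂) = Nat.card F * p := by
    have h' := SolvBasic.card_sup_mul_card_inf hBn
    rwa [hWF, Subgroup.card_bot, mul_one] at h'
  have hcardE : Nat.card ↥(F ⊔ E) * q = Nat.card F * Nat.card E := by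
    have h' := SolvBasic.card_sup_mul_card_inf (hEN.trans hBn')
    rwa [hEF] at h'
  have hp : p.Prime := by
    rcases (hpf T S W₂ W₁ V U h.symm).1 with h' | h'
    exacts [(P13.typeII_facts hG hT h.right h').2.1, (P13.typeIII_facts hG hT h.right h').2.1]
  have hEcard : Nat.card E = q * p := by
    have hle : F ⊔ E ≤ F ⊔ W₂ := sup_le le_sup_left hEN
    have hd1 := Subgroup.card_dvd_of_le hle
    obtain ⟨m, hm⟩ := Subgroup.card_dvd_of_le (le_sup_left : F ≤ F ⊔ E)
    rw [hcardB, hm] at hd1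
    have hm2 := Nat.dvd_of_mul_dvd_mul_left Nat.card_pos hd1
    rcases (Nat.dvd_prime hp).1 hm2 with rfl | rfl
    · exfalso
      rw [mul_one] at hm
      exact hEF' ((le_sup_right : E ≤ F ⊔ E).trans (Subgroup.eq_of_le_of_card_ge le_sup_left hm.le).ge)
    · rw [hm, mul_assoc] at hcardE
      rw [← Nat.eq_of_mul_eq_mul_left Nat.card_pos hcardE, mul_comm]
  haveI := Fact.mk hp
  obtain ⟨e, he⟩ := exists_prime_orderOf_dvd_card' (G := E) p (hEcard ▸ dvd_mul_left p q)
  set Y := Subgroup.zpowers (e : G) with hY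
  have hYc : Nat.card Y = p := by rw [Nat.card_zpowers, Subgroup.orderOf_coe, he]
  have hYE : Y ≤ E := Subgroup.zpowers_le.2 e.2
  have hpF : ¬ p ∣ Nat.card F := hp.coprime_iff_not_dvd.1 (P13.coprime_W₁_H h.right)
  set B := F ⊔ W₂ with hB
  have hsyl : ∀ X : Subgroup G, X ≤ B → Nat.card X = p → ∃ P : Sylow p B, (P : Subgroup B).map B.subtype = X := by
    intro X hXB hXc
    refine ⟨((IsPGroup.of_card (hXc.trans (pow_one p).symm)).of_equiv
      (Subgroup.subgroupOfEquivOfLe hXB).symm).toSylow ?_, Subgroup.map_subgroupOf_eq_of_le hXB⟩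
    intro hd
    apply hpF
    have h1 := (X.subgroupOf B).index_mul_card
    rw [Nat.card_congr (Subgroup.subgroupOfEquivOfLe hXB).toEquiv, hXc, hB, hcardB] at h1
    rwa [← Nat.eq_of_mul_eq_mul_right hp.pos h1]
  obtain ⟨P₀, hP₀⟩ := hsyl W₂ le_sup_right rfl
  obtain ⟨P₁, hP₁⟩ := hsyl Y (hYE.trans hEN) hYc
  obtain ⟨b, hb, hbY⟩ := Sigma.exists_sylow_conj P₀ P₁
  rw [hP₀, hP₁] at hbY
  obtain ⟨t, ht, s, hs, rfl⟩ := (SolvBasic.mem_sup_iff_of_le_normalizer hBn).1 hb
  refine ⟨t, ht, ?_⟩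
  have hbY' : W₂.map (MulAut.conj t).toMonoidHom = Y := by
    rw [hbY, ← Sigma.map_conj_map, Support.map_conj_of_mem hs]
  rw [hbY']
  have hqp : q.Coprime p := (P13.coprime_W₁_H hP).coprime_dvd_right (Subgroup.card_dvd_of_le (P13.W₂_le_H hP))
  have hWY : W₁ ⊔ Y = E := by
    refine Subgroup.eq_of_le_of_card_ge (sup_le hWE hYE) ?_
    have h1 : q * p ∣ Nat.card ↥(W₁ ⊔ Y) := hqp.mul_dvd_of_dvd_of_dvd (Subgroup.card_dvd_of_le le_sup_left)
      (hYc ▸ Subgroup.card_dvd_of_le le_sup_right)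
    rw [hEcard]
    exact Nat.le_of_dvd Nat.card_pos h1
  exact ⟨hWY ▸ hHE, hWY ▸ hHEL⟩

end Cfsg.Agent.OddChar.P14
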