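/-
Peterfalvi section 14: the arithmetic of the orders `u`, `v` and of the kernel over `U`.
-/
import Mathlib.Algebra.Order.Ring.GeomSum
import Mathlib.FieldTheory.Finite.Basic
import Mathlib.Tactic.Linarith
import Mathlib.Tactic.IntervalCases
import Mathlib.Tactic.NormNum.Prime

set_option autoImplicit false

namespace Cfsg.Agent.OddChar.P14.Arith

open Finset

variable {p q : ℕ}

theorem eq_geom {u j : ℕ} (hp : 2 ≤ p) (h : u * j * (p - 1) = p ^ q - 1) :
    u * j = ∑ i ∈ range q, p ^ i := by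
  have hd : p - 1 ∣ p ^ q - 1 := by simpa using Nat.sub_dvd_pow_sub_pow p 1 q
  rw [Nat.geomSum_eq hp, ← h, Nat.mul_div_cancel _ (by omega)]

theorem geom_ge (hq : 2 ≤ q) : p ^ (q - 1) + 1 ≤ ∑ i ∈ range q, p ^ i := by
  obtain ⟨m, rfl⟩ : ∃ m, q = m + 1 := ⟨q - 1, by omega⟩
  rw [sum_range_succ, Nat.add_sub_cancel]
  have : p ^ 0 ≤ ∑ i ∈ range m, p ^ i :=
    single_le_sum (f := fun i => p ^ i) (fun i _ => Nat.zero_le _) (mem_range.2 (by omega))
  rw [pow_zero] at this
  omega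

theorem geom_mod_base (hp : 2 ≤ p) (hq : 1 ≤ q) : (∑ i ∈ range q, p ^ i) % p = 1 := by
  obtain ⟨m, rfl⟩ : ∃ m, q = m + 1 := ⟨q - 1, by omega⟩
  rw [sum_range_succ', pow_zero]
  have : p ∣ ∑ i ∈ range m, p ^ (i + 1) := dvd_sum fun i _ => dvd_pow_self p (by omega)
  obtain ⟨c, hc⟩ := this
  rw [hc, Nat.mul_add_mod]
  exact Nat.mod_eq_of_lt (by omega)

/-- `(p ^ q - 1) / (p - 1)` is congruent to `1` or to `0` modulo `q`. -/
theorem geom_mod_exp (hq : q.Prime) (hp : 2 ≤ p) :
    (q ∣ p - 1 → q ∣ ∑ i ∈ range q, p ^ i) ∧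
      (¬ q ∣ p - 1 → (∑ i ∈ range q, p ^ i) % q = 1) := by
  haveI := Fact.mk hq
  constructor
  · intro h
    rw [← ZMod.natCast_eq_zero_iff] at h ⊢
    rw [Nat.cast_sub (by omega), sub_eq_zero, Nat.cast_one] at h
    push_cast
    simp [h]
  · intro h
    have h1 : ((∑ i ∈ range q, p ^ i : ℕ) : ZMod q) * ((p : ZMod q) - 1) = (p : ZMod q) - 1 := by
      push_cast
      rw [geom_sum_mul, ZMod.pow_card]
    have h2 : (p : ZMod q) - 1 ≠ 0 := fun e => h (by
      rw [← ZMod.natCast_eq_zero_iff, Nat.cast_sub (by omega), Nat.cast_one]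
      exact e)
    have h3 : ((∑ i ∈ range q, p ^ i : ℕ) : ZMod q) = ((1 : ℕ) : ZMod q) := by
      rw [Nat.cast_one]
      exact mul_right_cancel₀ h2 (h1.trans (one_mul _).symm)
    rw [ZMod.natCast_eq_natCast_iff'] at h3
    rw [h3, Nat.one_mod_eq_one.2 hq.ne_one]

theorem mod_one_of_mul {r a b : ℕ} (ha : a % r = 1) (hab : a * b % r = 1) : b % r = 1 := by
  rw [Nat.mul_mod, ha, one_mul, Nat.mod_mod] at hab
  exact hab

/-- An odd number congruent to one modulo the odd `m` is `1` or at least `2 m + 1`. -/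
theorem one_or_large {a m : ℕ} (ha : Odd a) (hm : Odd m) (h : a % m = 1) : a = 1 ∨ 2 * m + 1 ≤ a := by
  obtain ⟨k, hk⟩ : ∃ k, a = m * k + 1 := ⟨a / m, by rw [← h]; exact (Nat.div_add_mod a m).symm⟩
  subst hk
  rcases Nat.lt_or_ge k 2 with hk | hk
  · have hcases : k = 0 ∨ k = 1 := by omega
    rcases hcases with rfl | rfl
    · exact Or.inl (by simp)
    · exfalso
      rw [mul_one] at ha
      exact Nat.not_odd_iff_even.2 hm.add_one ha
  · exact Or.inr (by nlinarith)

theorem not_odd_mod {a m : ℕ} (hm : m % 2 = 1) (ha : a % 2 = 1) (h : a % m = 1) : a = 1 ∨ 2 * m + 1 ≤ a :=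
  one_or_large (Nat.odd_iff.2 ha) (Nat.odd_iff.2 hm) h

theorem three_le (hp : p.Prime) (hpo : Odd p) : 3 ≤ p := by
  have := hp.two_le
  obtain ⟨k, hk⟩ := hpo
  omega

theorem coprime_pq (hp : p.Prime) (hq : q.Prime) (hlt : q < p) : q.Coprime p :=
  (Nat.coprime_primes hq hp).2 hlt.ne

/-- The bounds on the order of a kernel over `U` force equality. -/
theorem final {j u v h : ℕ} (hp : p.Prime) (hq : q.Prime) (hpo : Odd p) (hqo : Odd q) (hlt : q < p)
    (hu : u * j * (p - 1) = p ^ q - 1) (hj : j = 1 ∨ (j = q ∧ q ∣ p - 1)) (hu1 : u % q = 1)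
    (hv : v * (q - 1) = q ^ p - 1) (hd : u ∣ h) (hh1 : h % (q * p) = 1) (hodd : Odd h)
    (hb : h ≤ p * (u - 1) + 1 ∨ h ≤ q * p * (q * p + 1) + 1 ∨ (q = 3 ∧ p = 5 ∧ h ≤ q * (v - 1) + 1)) :
    h = u := by
  have hp3 := three_le hp hpo
  have hq3 := three_le hq hqo
  obtain ⟨i, rfl⟩ := hd
  have hN := eq_geom (q := q) (by omega) hu
  have hNp := geom_mod_base (p := p) (q := q) (by omega) (by omega)
  rw [← hN] at hNp
  have hiq : i % q = 1 := mod_one_of_mul hu1 (by
    have := congrArg (· % q) hh1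
    simpa [Nat.mod_mul_right_mod, Nat.one_mod_eq_one.2 hq.ne_one] using this)
  have hip' : u * i % p = 1 := by
    have := congrArg (· % p) hh1
    simpa [Nat.mod_mul_left_mod, Nat.one_mod_eq_one.2 hp.ne_one] using this
  have hio : Odd i := (Nat.odd_mul.1 hodd).2
  rcases hj with rfl | ⟨hjq, hqp⟩
  · rw [mul_one] at hNp hN hu
    have hip : i % p = 1 := mod_one_of_mul hNp hip'
    have hipq : i % (q * p) = 1 := by
      have h1 : i ≡ 1 [MOD q * p] := (Nat.modEq_and_modEq_iff_modEq_mul (coprime_pq hp hq hlt)).1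
        ⟨by rw [Nat.ModEq, hiq, Nat.one_mod_eq_one.2 hq.ne_one],
          by rw [Nat.ModEq, hip, Nat.one_mod_eq_one.2 hp.ne_one]⟩
      rw [Nat.ModEq, Nat.one_mod_eq_one.2 (by nlinarith)] at h1
      exact h1
    rcases one_or_large hio (hqo.mul hpo) hipq with rfl | hi
    · exact mul_one u
    exfalso
    have hu2 : p ^ (q - 1) + 1 ≤ u := hN ▸ geom_ge (by omega)
    have hu3 : p ^ 2 ≤ p ^ (q - 1) := Nat.pow_le_pow_right (by omega) (by omega)
    have hqpp : q * p < p ^ 2 := by nlinarith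
    rcases hb with h | h | ⟨rfl, rfl, h⟩
    · have h1 : p * (u - 1) ≤ p * u := Nat.mul_le_mul_left _ (Nat.sub_le _ _)
      nlinarith [Nat.mul_le_mul_left u hi, Nat.mul_le_mul_right u (show p + 1 ≤ 2 * (q * p) + 1 by nlinarith)]
    · nlinarith [Nat.mul_le_mul (show q * p + 2 ≤ u by omega) hi]
    · have hu4 : u = 31 := by rw [hN]; decide
      have hv4 : v = 121 := by omega
      subst hu4 hv4
      omega
  · -- `j = q` and `p ≡ 1 [MOD q]`
    rw [hjq] at hNp hN hu
    exfalso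
    obtain ⟨m, hm⟩ : ∃ m, p = q * m + 1 := by
      obtain ⟨m, hm⟩ := hqp
      exact ⟨m, by omega⟩
    -- `i ≡ q` modulo `p`
    have hipmod : i % p = q := by
      have h2 : (u * q * i) % p = i % p := by rw [Nat.mul_mod, hNp, one_mul, Nat.mod_mod]
      have h3 : (u * i * q) % p = q := by rw [Nat.mul_mod, hip', one_mul, Nat.mod_mod, Nat.mod_eq_of_lt hlt]
      rw [← h2, show u * q * i = u * i * q by ring, h3]
    obtain ⟨k, hk⟩ : ∃ k, i = p * k + q := ⟨i / p, by rw [← hipmod]; exact (Nat.div_add_mod i p).symm⟩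
    have hkq : k % q = 1 := by
      rw [hk, Nat.add_mod_right] at hiq
      exact mod_one_of_mul (by rw [hm, Nat.mul_add_mod, Nat.one_mod_eq_one.2 hq.ne_one]) hiq
    have hko : k % 2 = 0 := by
      by_contra hh
      have h1 : Odd (p * k) := hpo.mul (Nat.odd_iff.2 (by omega))
      rw [hk] at hio
      exact Nat.not_odd_iff_even.2 (h1.add_odd hqo) hio
    have hk1 : q + 1 ≤ k := by
      by_contra hh
      rcases Nat.lt_or_ge k q with h1 | h1
      · rw [Nat.mod_eq_of_lt h1] at hkq; omega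
      · rw [show k = q by omega, Nat.mod_self] at hkq; omega
    have hi : p * (q + 1) + q ≤ i := hk ▸ Nat.add_le_add_right (Nat.mul_le_mul_left p hk1) q
    have hu2 : p ^ (q - 1) + 1 ≤ u * q := hN ▸ geom_ge (by omega)
    have hu3 : p ^ 2 ≤ p ^ (q - 1) := Nat.pow_le_pow_right (by omega) (by omega)
    rcases hb with h | h | ⟨rfl, rfl, -⟩
    · have h1 : p * (u - 1) ≤ p * u := Nat.mul_le_mul_left _ (Nat.sub_le _ _)
      have hu0 : 0 < u := Nat.pos_of_ne_zero fun e => by rw [e] at hu2; omega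
      nlinarith [Nat.mul_le_mul_left u hi, Nat.mul_le_mul hu0 (show p + 1 ≤ p * q by nlinarith)]
    · rcases Nat.lt_or_ge q 5 with hq5 | hq5
      · obtain rfl : q = 3 := by
          rcases Nat.eq_or_lt_of_le hq3 with h | h
          · exact h.symm
          · exfalso
            obtain ⟨t, ht⟩ := hqo
            omega
        have hp7 : 7 ≤ p := by
          rcases hpo with ⟨t, ht⟩
          by_contra hh
          have : p = 5 := by omega
          subst this
          omega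
        rw [show ∑ i ∈ range 3, p ^ i = 1 + p + p ^ 2 by simp [sum_range_succ]] at hN
        nlinarith [Nat.mul_le_mul_left (u * 3) hi, Nat.mul_le_mul_left (p ^ 2) hp7, Nat.mul_le_mul_left p hp7]
      · have hu4 : p ^ 4 ≤ p ^ (q - 1) := Nat.pow_le_pow_right (by omega) (by omega)
        have h5 : p ^ 4 * (p * (q + 1) + q) ≤ u * q * i := Nat.mul_le_mul (by omega) hi
        have h6 : u * i * q ≤ (q * p * (q * p + 1) + 1) * q := Nat.mul_le_mul_right q h
        have h7 : q * p + 1 ≤ p ^ 2 := by nlinarith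
        have h8 : q * p * (q * p + 1) + 1 < p ^ 4 + p ^ 2 := by
          have h9 := Nat.mul_le_mul (show q * p ≤ p ^ 2 by omega) h7
          nlinarith
        nlinarith [Nat.mul_le_mul (show p ^ 2 ≤ p ^ 4 from Nat.pow_le_pow_right (by omega) (by omega)) hp3,
          Nat.mul_le_mul_left (p ^ 4) (show 2 * q ≤ p * (q + 1) + q by nlinarith)]
    · omega

/-- The bound on the kernel over `V` forces equality. -/
theorem same_class {v h : ℕ} (hp : p.Prime) (hq : q.Prime) (hpo : Odd p) (hqo : Odd q) (hlt : q < p)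
    (hv : v * (q - 1) = q ^ p - 1) (hd : v ∣ h) (hh1 : h % (q * p) = 1) (hodd : Odd h)
    (hb : h ≤ q * (v - 1) + 1) : h = v := by
  have hp3 := three_le hp hpo
  have hq3 := three_le hq hqo
  obtain ⟨i, rfl⟩ := hd
  have hN : v = ∑ k ∈ range p, q ^ k := by simpa using eq_geom (u := v) (j := 1) (by omega) (by simpa using hv)
  have hvq : v % q = 1 := hN ▸ geom_mod_base (by omega) (by omega)
  have hvp : v % p = 1 := hN ▸ (geom_mod_exp hp (by omega)).2 (fun h =>
    absurd (Nat.le_of_dvd (by omega) h) (by omega))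
  have hiq : i % q = 1 := mod_one_of_mul hvq (by
    have := congrArg (· % q) hh1
    simpa [Nat.mod_mul_right_mod, Nat.one_mod_eq_one.2 hq.ne_one] using this)
  have hip : i % p = 1 := mod_one_of_mul hvp (by
    have := congrArg (· % p) hh1
    simpa [Nat.mod_mul_left_mod, Nat.one_mod_eq_one.2 hp.ne_one] using this)
  have hipq : i % (q * p) = 1 := by
    have h1 : i ≡ 1 [MOD q * p] := (Nat.modEq_and_modEq_iff_modEq_mul (coprime_pq hp hq hlt)).1
      ⟨by rw [Nat.ModEq, hiq, Nat.one_mod_eq_one.2 hq.ne_one],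
        by rw [Nat.ModEq, hip, Nat.one_mod_eq_one.2 hp.ne_one]⟩
    rw [Nat.ModEq, Nat.one_mod_eq_one.2 (by nlinarith)] at h1
    exact h1
  rcases one_or_large (Nat.odd_mul.1 hodd).2 (hqo.mul hpo) hipq with rfl | hi
  · exact mul_one v
  exfalso
  have h1 : q * (v - 1) ≤ q * v := Nat.mul_le_mul_left _ (Nat.sub_le _ _)
  have hv1 : 1 ≤ v := Nat.pos_of_ne_zero fun e => by rw [e] at hvq; simp at hvq
  nlinarith [Nat.mul_le_mul_left v hi, Nat.mul_le_mul hv1 (show q + 1 ≤ 2 * (q * p) + 1 by nlinarith)]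

theorem sq_le_three_pow : ∀ n, 4 ≤ n → (n + 3) ^ 2 ≤ 3 ^ n := by
  intro n hn
  induction n, hn using Nat.le_induction with
  | base => norm_num
  | succ n hn ih => rw [pow_succ 3 n]; nlinarith

/-- `v` is large. -/
theorem v_gt {v : ℕ} (hp : p.Prime) (hq : q.Prime) (hpo : Odd p) (hqo : Odd q) (hlt : q < p)
    (hv : v * (q - 1) = q ^ p - 1) :
    p * p * q < v - 1 ∧ (¬ (q = 3 ∧ p = 5) → p * q * (p * q - (p - 1)) < v - 1) := by
  have hp3 := three_le hp hpo
  have hq3 := three_le hq hqo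
  have hp5 : 5 ≤ p := by rcases hpo with ⟨t, ht⟩; rcases hqo with ⟨s, hs⟩; omega
  have hN : v = ∑ k ∈ range p, q ^ k := by simpa using eq_geom (u := v) (j := 1) (by omega) (by simpa using hv)
  have hge : q ^ (p - 1) + 1 ≤ v := hN ▸ geom_ge (by omega)
  by_cases hcase : q = 3 ∧ p = 5
  · obtain ⟨rfl, rfl⟩ := hcase
    refine ⟨by norm_num at hge; omega, fun h => absurd ⟨rfl, rfl⟩ h⟩
  have hp7 : 7 ≤ p := by
    by_contra hh
    obtain ⟨t, ht⟩ := hpo
    obtain ⟨s, hs⟩ := hqo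
    exact hcase ⟨by omega, by omega⟩
  have hbig : p * p * (q * q) ≤ q ^ (p - 1) := by
    have h1 : p ^ 2 ≤ 3 ^ (p - 3) := by
      have := sq_le_three_pow (p - 3) (by omega)
      rwa [show p - 3 + 3 = p by omega] at this
    have h2 : 3 ^ (p - 3) ≤ q ^ (p - 3) := Nat.pow_le_pow_left hq3 _
    calc p * p * (q * q) = p ^ 2 * q ^ 2 := by ring
      _ ≤ q ^ (p - 3) * q ^ 2 := Nat.mul_le_mul_right _ (h1.trans h2)
      _ = q ^ (p - 1) := by rw [← pow_add]; congr 1; omega
  have h2 : p * q - (p - 1) < p * q := by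
    have := Nat.mul_le_mul hp3 hq3
    omega
  refine ⟨?_, fun _ => ?_⟩
  · calc p * p * q < p * p * (q * q) := (Nat.mul_lt_mul_left (Nat.mul_pos (by omega) (by omega))).2 (by nlinarith)
      _ ≤ v - 1 := by omega
  · calc p * q * (p * q - (p - 1)) < p * q * (p * q) := (Nat.mul_lt_mul_left (Nat.mul_pos (by omega) (by omega))).2 h2
      _ = p * p * (q * q) := by ring
      _ ≤ v - 1 := by omega

end Cfsg.Agent.OddChar.P14.Arith
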