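/-
Peterfalvi section 14, tools: uniqueness and Galois behaviour of the family `η`, orthogonality of
short functions to it, the parity of inner products of real virtual characters, mass on a set.
-/
import Cfsg.Agent.Lib.OddChar.P13.Induced
import Cfsg.Agent.Lib.Char.FHT.Norm

set_option autoImplicit false
set_option linter.unusedSectionVars false
set_option linter.style.haveILetI false

namespace Cfsg.Agent.OddChar.P14

open scoped ComplexConjugate
open Cfsg.Agent.Char Cfsg.Agent.Char.CyclicTI Cfsg.Agent.OddChar.P13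

universe u v

variable {G : Type u} [Group G] [Fintype G]

/-! ## Virtual characters -/

theorem gen_inv {f : G → ℂ} (hf : Cfsg.IsGeneralizedCharacter G f) (g : G) : f g⁻¹ = conj (f g) := by
  obtain ⟨χ, ψ, hχ, hψ, rfl⟩ := hf
  rw [Pi.sub_apply, Pi.sub_apply, map_sub, IsCharacter.inv hχ, IsCharacter.inv hψ]

theorem gen_int_symm {a b : G → ℂ} (ha : Cfsg.IsGeneralizedCharacter G a)
    (hb : Cfsg.IsGeneralizedCharacter G b) : Cfsg.classInner a b = Cfsg.classInner b a := by
  obtain ⟨n, hn⟩ := IsGeneralizedCharacter.exists_classInner_int ha hb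
  rw [← classInner_conj_symm a b, hn, map_intCast]

/-- Automorphisms of `ℂ` commute with the inner product of virtual characters. -/
theorem inner_twist (σ : ℂ ≃+* ℂ) {f g : G → ℂ} (hf : Cfsg.IsGeneralizedCharacter G f)
    (hg : Cfsg.IsGeneralizedCharacter G g) (hσg : Cfsg.IsGeneralizedCharacter G fun x => σ (g x)) :
    Cfsg.classInner (fun x => σ (f x)) (fun x => σ (g x)) = Cfsg.classInner f g := by
  obtain ⟨n, hn⟩ := IsGeneralizedCharacter.exists_classInner_int hf hg
  have h : σ (Cfsg.classInner f g) = Cfsg.classInner f g := by rw [hn, map_intCast]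
  conv_rhs => rw [← h]
  simp only [Cfsg.classInner, map_mul, map_inv₀, map_natCast, map_sum]
  refine congrArg _ (Finset.sum_congr rfl fun x _ => ?_)
  rw [← gen_inv hg x, ← gen_inv hσg x]

theorem conjFun_conjFun {X : Type v} (f : X → ℂ) : Cfsg.conjFun (Cfsg.conjFun f) = f :=
  funext fun x => by simp [Cfsg.conjFun]

theorem inner_conjFun (a b : G → ℂ) :
    Cfsg.classInner (Cfsg.conjFun a) (Cfsg.conjFun b) = conj (Cfsg.classInner a b) := by
  simp [Cfsg.classInner, Cfsg.conjFun]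

theorem inner_disjoint {f g : G → ℂ} (h : ∀ x, f x = 0 ∨ g x = 0) : Cfsg.classInner f g = 0 := by
  rw [Cfsg.classInner, Finset.sum_eq_zero, mul_zero]
  intro x _
  rcases h x with h | h <;> simp [h]

/-- A member of a sign pair that is orthogonal to the difference is orthogonal to both members. -/
theorem signIrr_orth {w μ : G → ℂ} (hw : SignIrr w) (hμ : SignIrr μ) (hwne : Cfsg.conjFun w ≠ w)
    (hwne' : Cfsg.conjFun w ≠ -w)
    (h : Cfsg.classInner (w - Cfsg.conjFun w) (μ - Cfsg.conjFun μ) = 0) :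
    Cfsg.classInner w μ = 0 := by
  by_contra hne
  have hn : ∀ a : G → ℂ, SignIrr a → Cfsg.classInner a a = 1 := by
    rintro a (ha | ha)
    · exact classInner_self_irr ha
    · have := classInner_self_irr ha
      rwa [classInner_neg_left, classInner_neg_right, neg_neg] at this
  have hc : SignIrr (Cfsg.conjFun w) := SignIrr.twist hw Complex.conjAe.toRingEquiv
  have h0 : Cfsg.classInner w (Cfsg.conjFun w) = 0 := by
    by_contra h0
    rcases hw.eq_or_neg hc h0 with e | e
    · exact hwne e.symm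
    · exact hwne' (neg_eq_iff_eq_neg.mp e.symm)
  have h0' : Cfsg.classInner (Cfsg.conjFun w) w = 0 := by
    rw [← classInner_conj_symm w (Cfsg.conjFun w), h0, map_zero]
  have key : Cfsg.classInner (w - Cfsg.conjFun w) (w - Cfsg.conjFun w) = 2 := by
    rw [classInner_sub_left, classInner_sub_right, classInner_sub_right, hn w hw, hn _ hc, h0, h0']
    norm_num
  rcases hw.eq_or_neg hμ hne with e | e
  · rw [← e, key] at h; norm_num at h
  · rw [show μ = -w from by rw [e, neg_neg],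
      show -w - Cfsg.conjFun (-w) = -(w - Cfsg.conjFun w) from funext fun x => by
        simp [Cfsg.conjFun]; ring,
      classInner_neg_right, key] at h
    norm_num at h

/-- In a group of odd order the inner product of two real virtual characters is congruent modulo
`2` to the product of their principal coefficients. -/
theorem inner_real_even (hodd : Odd (Nat.card G)) {X Y : G → ℂ}
    (hX : Cfsg.IsGeneralizedCharacter G X) (hY : Cfsg.IsGeneralizedCharacter G Y)
    (hXr : Cfsg.conjFun X = X) (hYr : Cfsg.conjFun Y = Y) {x y n : ℤ}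
    (hx : Cfsg.classInner X (fun _ => 1) = x) (hy : Cfsg.classInner Y (fun _ => 1) = y)
    (hn : Cfsg.classInner X Y = n) : Even (n - x * y) := by
  classical
  obtain ⟨c, hc, hcψ⟩ := IsGeneralizedCharacter.exists_coeff hX
  obtain ⟨d, hd, hdψ⟩ := IsGeneralizedCharacter.exists_coeff hY
  have hXY : Cfsg.classInner X Y = ∑ ψ, (c ψ : ℂ) * d ψ := by
    conv_lhs => rw [hc]
    rw [classInner_sum_left]
    refine Finset.sum_congr rfl fun ψ _ => ?_
    rw [classInner_smul_left, ← classInner_conj_symm Y, hdψ, map_intCast]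
  have hn' : n = ∑ ψ, c ψ * d ψ := by
    rw [hn] at hXY
    exact_mod_cast hXY
  have hbar : ∀ (Z : G → ℂ), Cfsg.conjFun Z = Z → ∀ e : Cfsg.IrrCharacter G → ℤ,
      (∀ ψ : Cfsg.IrrCharacter G, Cfsg.classInner Z ψ = e ψ) → ∀ ψ, e (RealChar.bar ψ) = e ψ := by
    intro Z hZ e he ψ
    have h1 := he (RealChar.bar ψ)
    rw [show ((RealChar.bar ψ : Cfsg.IrrCharacter G) : G → ℂ) = Cfsg.conjFun (ψ : G → ℂ) from rfl,
      ← hZ, inner_conjFun, he, map_intCast] at h1
    exact_mod_cast h1.symm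
  have hcb := hbar X hXr c hcψ
  have hdb := hbar Y hYr d hdψ
  have hp : ((principal G : Cfsg.IrrCharacter G) : G → ℂ) = fun _ => 1 := rfl
  have hc1 : c (principal G) = x := by
    have := hcψ (principal G)
    rw [hp, hx] at this
    exact_mod_cast this.symm
  have hd1 : d (principal G) = y := by
    have := hdψ (principal G)
    rw [hp, hy] at this
    exact_mod_cast this.symm
  rw [← ZMod.intCast_eq_zero_iff_even, hn', ← Finset.add_sum_erase _ _ (Finset.mem_univ (principal G)),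
    hc1, hd1, add_sub_cancel_left, Int.cast_sum]
  refine Finset.sum_involution (fun θ _ => RealChar.bar θ) ?_ ?_ ?_ (fun θ _ => FHT.bar_bar θ)
  · intro θ _
    rw [hcb, hdb]
    exact CharTwo.add_self_eq_zero _
  · intro θ hθ _ h
    exact Finset.ne_of_mem_erase hθ (FHT.bar_eq_self hodd h)
  · intro θ hθ
    refine Finset.mem_erase.mpr ⟨fun h => Finset.ne_of_mem_erase hθ ?_, Finset.mem_univ _⟩
    rw [← FHT.bar_bar θ, h, FHT.bar_principal]

/-! ## Mass on a set -/

/-- The mean square of `f` over the elements of `s`, normalised by `|G|`. -/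
noncomputable def mass (s : Finset G) (f : G → ℂ) : ℝ := (Nat.card G : ℝ)⁻¹ * ∑ g ∈ s, ‖f g‖ ^ 2

theorem mass_nonneg (s : Finset G) (f : G → ℂ) : 0 ≤ mass s f :=
  mul_nonneg (inv_nonneg.mpr (Nat.cast_nonneg _)) (Finset.sum_nonneg fun _ _ => sq_nonneg _)

theorem mass_univ (f : G → ℂ) : mass Finset.univ f = (Cfsg.classInner f f).re := by
  have h : Cfsg.classInner f f = ((mass Finset.univ f : ℝ) : ℂ) := by
    simp only [Cfsg.classInner, mass, Complex.mul_conj, Complex.normSq_eq_norm_sq]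
    push_cast
    rfl
  rw [h, Complex.ofReal_re]

theorem mass_add_le {s t : Finset G} (h : Disjoint s t) (f : G → ℂ) :
    mass s f + mass t f ≤ (Cfsg.classInner f f).re := by
  classical
  rw [← mass_univ, mass, mass, mass, ← mul_add, ← Finset.sum_union h]
  exact mul_le_mul_of_nonneg_left
    (Finset.sum_le_sum_of_subset_of_nonneg (Finset.subset_univ _) fun _ _ _ => sq_nonneg _)
    (inv_nonneg.mpr (Nat.cast_nonneg _))

/-- Cauchy-Schwarz on a set. -/
theorem inner_sq_le (s : Finset G) (f F : G → ℂ) (hF : ∀ g ∉ s, F g = 0) :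
    ‖Cfsg.classInner f F‖ ^ 2 ≤ mass s f * (Cfsg.classInner F F).re := by
  classical
  set N : ℝ := (Nat.card G : ℝ) with hN
  have hN0 : 0 < N := by rw [hN]; exact_mod_cast Nat.card_pos
  have hsum : ∑ g : G, f g * conj (F g) = ∑ g ∈ s, f g * conj (F g) :=
    (Finset.sum_subset (Finset.subset_univ s) fun g _ hg => by simp [hF g hg]).symm
  have h1 : ‖Cfsg.classInner f F‖ ≤ N⁻¹ * ∑ g ∈ s, ‖f g‖ * ‖F g‖ := by
    rw [Cfsg.classInner, norm_mul, norm_inv, Complex.norm_natCast, hsum]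
    refine mul_le_mul_of_nonneg_left ((norm_sum_le _ _).trans (le_of_eq ?_)) (inv_nonneg.mpr hN0.le)
    simp [Complex.norm_conj]
  have h2 : ∑ g ∈ s, ‖F g‖ ^ 2 ≤ ∑ g : G, ‖F g‖ ^ 2 :=
    Finset.sum_le_sum_of_subset_of_nonneg (Finset.subset_univ _) fun _ _ _ => sq_nonneg _
  have h3 := Finset.sum_mul_sq_le_sq_mul_sq s (fun g => ‖f g‖) (fun g => ‖F g‖)
  calc ‖Cfsg.classInner f F‖ ^ 2 ≤ (N⁻¹ * ∑ g ∈ s, ‖f g‖ * ‖F g‖) ^ 2 :=
        pow_le_pow_left₀ (norm_nonneg _) h1 2
    _ = N⁻¹ ^ 2 * (∑ g ∈ s, ‖f g‖ * ‖F g‖) ^ 2 := mul_pow _ _ _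
    _ ≤ N⁻¹ ^ 2 * ((∑ g ∈ s, ‖f g‖ ^ 2) * ∑ g : G, ‖F g‖ ^ 2) := by
        refine mul_le_mul_of_nonneg_left (h3.trans ?_) (sq_nonneg _)
        exact mul_le_mul_of_nonneg_left h2 (Finset.sum_nonneg fun _ _ => sq_nonneg _)
    _ = mass s f * (Cfsg.classInner F F).re := by
        rw [← mass_univ, mass, mass]; ring

/-! ## Probes -/

/-- A virtual character `Φ` and a signed irreducible `μ` with `Φ + μ` real, supported (up to
conjugating `μ`) on a set `A`: what the parity argument uses of a maximal subgroup. -/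
structure Probe (A : Set G) (N : ℕ) (Φ μ : G → ℂ) : Prop where
  sign : SignIrr μ
  conj_ne : Cfsg.conjFun μ ≠ μ
  conj_ne_neg : Cfsg.conjFun μ ≠ -μ
  gen : Cfsg.IsGeneralizedCharacter G Φ
  real : Cfsg.conjFun (Φ + μ) = Φ + μ
  one : Cfsg.classInner Φ (fun _ => 1) = 1
  norm : (Cfsg.classInner Φ Φ).re ≤ N
  supp : ∀ g, g ∉ A → Φ g = 0
  supp_diff : ∀ g, g ∉ A → (μ - Cfsg.conjFun μ) g = 0

/-- For two probes with disjoint sets one of the two cross coefficients is odd. -/
theorem Probe.parity (hodd : Odd (Nat.card G)) {A A' : Set G} (hA : Disjoint A A') {N N' : ℕ}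
    {Φ μ Φ' μ' : G → ℂ} (h : Probe A N Φ μ) (h' : Probe A' N' Φ' μ') :
    (∃ k : ℤ, Odd k ∧ Cfsg.classInner Φ μ' = k) ∨ ∃ k : ℤ, Odd k ∧ Cfsg.classInner μ Φ' = k := by
  have hone : ∀ (w : G → ℂ), SignIrr w → Cfsg.conjFun w ≠ w →
      Cfsg.classInner w (fun _ => 1) = 0 := by
    intro w hw hne
    by_contra hn
    rcases hw.eq_or_neg (Or.inl isIrrCharacter_one) hn with e | e <;>
      exact hne (by rw [e]; funext x; simp [Cfsg.conjFun])
  have hμμ : Cfsg.classInner μ μ' = 0 := by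
    refine signIrr_orth h.sign h'.sign h.conj_ne h.conj_ne_neg (inner_disjoint fun x => ?_)
    by_cases hx : x ∈ A
    · exact Or.inr (h'.supp_diff x (Set.disjoint_left.mp hA hx))
    · exact Or.inl (h.supp_diff x hx)
  have hΦΦ : Cfsg.classInner Φ Φ' = 0 := inner_disjoint fun x => by
    by_cases hx : x ∈ A
    · exact Or.inr (h'.supp x (Set.disjoint_left.mp hA hx))
    · exact Or.inl (h.supp x hx)
  obtain ⟨x, hx⟩ := IsGeneralizedCharacter.exists_classInner_int h.gen (SignIrr_isGen h'.sign)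
  obtain ⟨y, hy⟩ := IsGeneralizedCharacter.exists_classInner_int (SignIrr_isGen h.sign) h'.gen
  have he := inner_real_even hodd (IsGeneralizedCharacter.add h.gen (SignIrr_isGen h.sign))
    (IsGeneralizedCharacter.add h'.gen (SignIrr_isGen h'.sign)) h.real h'.real (x := 1) (y := 1)
    (n := x + y) (by rw [classInner_add_left, h.one, hone μ h.sign h.conj_ne]; simp)
    (by rw [classInner_add_left, h'.one, hone μ' h'.sign h'.conj_ne]; simp)
    (by rw [classInner_add_left, classInner_add_right, classInner_add_right, hΦΦ, hμμ, hx, hy]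
        push_cast; ring)
  rw [one_mul, Int.even_sub, Int.even_add] at he
  simp only [Int.not_even_one, iff_false] at he
  by_cases hxo : Even x
  · exact Or.inr ⟨y, Int.not_even_iff_odd.mp fun hye => he ⟨fun _ => hye, fun _ => hxo⟩, hy⟩
  · exact Or.inl ⟨x, Int.not_even_iff_odd.mp hxo, hx⟩

/-! ## The family `η` -/

variable {W₁ W₂ : Subgroup G} {η : (W₁ →* ℂˣ) → (W₂ →* ℂˣ) → G → ℂ}

theorem three_le_hom {W : Subgroup G} [IsMulCommutative W] (hodd : Odd (Nat.card G)) (h : W ≠ ⊥) :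
    3 ≤ Nat.card (W →* ℂˣ) := by
  rw [card_hom (H := W)]
  have h1 : Nat.card W ≠ 1 := fun e => h (Subgroup.eq_bot_of_card_eq _ e)
  obtain ⟨k, hk⟩ := hodd.of_dvd_nat (Subgroup.card_subgroup_dvd_card W)
  omega

theorem exists_third {A : Type v} (hA : 3 ≤ Nat.card A) (a b : A) : ∃ c, c ≠ a ∧ c ≠ b := by
  classical
  haveI : Finite A := Nat.finite_of_card_ne_zero (by omega)
  haveI : Fintype A := Fintype.ofFinite A
  obtain ⟨c, -, hc⟩ := Finset.exists_mem_notMem_of_card_lt_card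
    (show ({a, b} : Finset A).card < (Finset.univ : Finset A).card by
      rw [Finset.card_univ, ← Nat.card_eq_fintype_card]
      exact lt_of_le_of_lt Finset.card_le_two (by omega))
  exact ⟨c, fun e => hc (by simp [e]), fun e => hc (by simp [e])⟩

/-- An additive table with at most two non-zero entries vanishes. -/
theorem corner {A : Type v} {B : Type v} [One A] [One B] (hA : 3 ≤ Nat.card A) (hB : 3 ≤ Nat.card B)
    (c : A → B → ℂ) (hadd : ∀ a b, c a b = c a 1 + c 1 b - c 1 1) (a a₀ : A) (b b₀ : B)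
    (hsupp : ∀ a' b', c a' b' ≠ 0 → (a' = a ∧ b' = b) ∨ (a' = a₀ ∧ b' = b₀)) : c a b = 0 := by
  obtain ⟨a', ha1, ha2⟩ := exists_third hA a a₀
  obtain ⟨b', hb1, hb2⟩ := exists_third hB b b₀
  have z : ∀ x y, ¬ (x = a ∧ y = b) → ¬ (x = a₀ ∧ y = b₀) → c x y = 0 := fun x y h1 h2 => by
    by_contra h
    rcases hsupp x y h with h' | h'
    exacts [h1 h', h2 h']
  have z1 := z a b' (fun h => hb1 h.2) (fun h => hb2 h.2)
  have z2 := z a' b (fun h => ha1 h.1) (fun h => ha2 h.1)
  have z3 := z a' b' (fun h => ha1 h.1) (fun h => ha2 h.1)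
  linear_combination hadd a b - hadd a b' - hadd a' b + hadd a' b' + z1 + z2 - z3

variable (F : Fam W₁ W₂ η) (hW : Cfsg.IsSelfNormalizingCyclic W₁ W₂) (hodd : Odd (Nat.card G))
include F

theorem eta_gen (a : W₁ →* ℂˣ) (b : W₂ →* ℂˣ) : Cfsg.IsGeneralizedCharacter G (η a b) :=
  SignIrr_isGen (F.sign a b)

open Classical in
theorem inner_eta (a a' : W₁ →* ℂˣ) (b b' : W₂ →* ℂˣ) :
    Cfsg.classInner (η a b) (η a' b') = if a = a' ∧ b = b' then 1 else 0 := by
  by_cases h : a = a' ∧ b = b'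
  · obtain ⟨rfl, rfl⟩ := h
    rw [if_pos ⟨rfl, rfl⟩, F.norm]
  · rw [if_neg h, (F.orth a b a' b').resolve_left h]

include hW hodd

/-- A member of the family is determined by its values on the regular part of `W₁ W₂`. -/
theorem eq_eta {θ : G → ℂ} (hθ : SignIrr θ) (a : W₁ →* ℂˣ) (b : W₂ →* ℂˣ)
    (h : ∀ (x : W₁) (y : W₂), x ≠ 1 → y ≠ 1 → θ ((x : G) * y) = (a x : ℂ) * (b y : ℂ)) :
    θ = η a b := by
  classical
  haveI := isMulCommutative1 hW
  haveI := isMulCommutative2 hW
  by_contra hne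
  set c : (W₁ →* ℂˣ) → (W₂ →* ℂˣ) → ℂ := fun a' b' => Cfsg.classInner (θ - η a b) (η a' b') with hc
  have hcls : Cfsg.IsClassFunction G (θ - η a b) :=
    IsClassFunction.sub (SignIrr.isClassFunction hθ) (SignIrr.isClassFunction (F.sign a b))
  have hadd := F.grid _ hcls fun x y hx hy => by
    rw [Pi.sub_apply, h x y hx hy, F.value a b x y hx hy, sub_self]
  have hcval : ∀ a' b', c a' b' =
      Cfsg.classInner θ (η a' b') - if a = a' ∧ b = b' then 1 else 0 := fun a' b' => by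
    rw [hc]
    simp only [classInner_sub_left, inner_eta F]
  have hab : c a b ≠ 0 := by
    rw [hcval, if_pos ⟨rfl, rfl⟩]
    intro e
    rcases hθ.eq_or_neg (F.sign a b) (by rw [sub_eq_zero.mp e]; exact one_ne_zero) with e' | e'
    · exact hne e'
    · rw [e', classInner_neg_left, F.norm] at e
      norm_num at e
  obtain ⟨a₀, b₀, hsupp⟩ : ∃ a₀ b₀, ∀ a' b', c a' b' ≠ 0 → (a' = a ∧ b' = b) ∨ (a' = a₀ ∧ b' = b₀) := by
    by_cases hex : ∃ a₀ b₀, ¬ (a₀ = a ∧ b₀ = b) ∧ c a₀ b₀ ≠ 0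
    · obtain ⟨a₀, b₀, h0, hc0⟩ := hex
      refine ⟨a₀, b₀, fun a' b' h' => ?_⟩
      by_contra hn
      push Not at hn
      have h1 : Cfsg.classInner θ (η a' b') ≠ 0 := by
        rw [hcval, if_neg (fun e => hn.1 e.1.symm e.2.symm), sub_zero] at h'
        exact h'
      have h2 : Cfsg.classInner θ (η a₀ b₀) ≠ 0 := by
        rw [hcval, if_neg (fun e => h0 ⟨e.1.symm, e.2.symm⟩), sub_zero] at hc0
        exact hc0
      have horth : Cfsg.classInner (η a' b') (η a₀ b₀) = 0 :=
        (F.orth a' b' a₀ b₀).resolve_left fun e => hn.2 e.1 e.2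
      rcases hθ.eq_or_neg (F.sign a' b') h1 with e | e
      · exact h2 (by rw [e]; exact horth)
      · exact h2 (by rw [e, classInner_neg_left, horth, neg_zero])
    · push Not at hex
      exact ⟨a, b, fun a' b' h' => Or.inl (by
        by_contra hn
        exact h' (hex a' b' fun e1 e2 => hn ⟨e1, e2⟩))⟩
  exact hab (corner (three_le_hom hodd hW.1) (three_le_hom hodd hW.2.1) c
    (fun a' b' => hadd a' b') a a₀ b b₀ hsupp)

theorem eta_twist (σ : ℂ ≃+* ℂ) {a a' : W₁ →* ℂˣ} {b b' : W₂ →* ℂˣ}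
    (ha : ∀ x, σ (a x : ℂ) = (a' x : ℂ)) (hb : ∀ y, σ (b y : ℂ) = (b' y : ℂ)) :
    (fun g => σ (η a b g)) = η a' b' :=
  eq_eta F hW hodd (SignIrr.twist (F.sign a b) σ) a' b' fun x y hx hy => by
    rw [F.value a b x y hx hy, map_mul, ha, hb]

theorem eta_conj (a : W₁ →* ℂˣ) (b : W₂ →* ℂˣ) : Cfsg.conjFun (η a b) = η a⁻¹ b⁻¹ := by
  refine eq_eta F hW hodd (SignIrr.twist (F.sign a b) Complex.conjAe.toRingEquiv) a⁻¹ b⁻¹
    fun x y hx hy => ?_
  show conj (η a b ((x : G) * y)) = _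
  rw [F.value a b x y hx hy, map_mul, lf_inv, lf_inv, MonoidHom.inv_apply, MonoidHom.inv_apply,
    map_inv, map_inv]

/-- A virtual character of norm at most `2` vanishing on the regular part is orthogonal to `η`. -/
theorem orth_eta {f : G → ℂ} (hf : Cfsg.IsGeneralizedCharacter G f)
    (hV : ∀ (x : W₁) (y : W₂), x ≠ 1 → y ≠ 1 → f ((x : G) * y) = 0)
    (hn : (Cfsg.classInner f f).re ≤ 2) (a : W₁ →* ℂˣ) (b : W₂ →* ℂˣ) :
    Cfsg.classInner f (η a b) = 0 := by
  classical
  haveI := isMulCommutative1 hW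
  haveI := isMulCommutative2 hW
  haveI := finite_dual W₁
  haveI := finite_dual W₂
  haveI : Fintype (W₁ →* ℂˣ) := Fintype.ofFinite _
  haveI : Fintype (W₂ →* ℂˣ) := Fintype.ofFinite _
  set c : (W₁ →* ℂˣ) × (W₂ →* ℂˣ) → ℂ := fun i => Cfsg.classInner f (η i.1 i.2) with hc
  set s := Finset.univ.filter fun i => c i ≠ 0 with hs
  have hcard : s.card ≤ 2 := by
    have hb := F.bessel f ∅ (by simp) (by simp)
    rw [Finset.sum_empty, add_zero, ← Fintype.sum_prod_type
      (f := fun i : (W₁ →* ℂˣ) × (W₂ →* ℂˣ) => ‖c i‖ ^ 2)] at hb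
    have h1 : ∀ i ∈ s, (1 : ℝ) ≤ ‖c i‖ ^ 2 := fun i hi => by
      obtain ⟨n, hn'⟩ := IsGeneralizedCharacter.exists_classInner_int hf (eta_gen F i.1 i.2)
      have hne : c i ≠ 0 := (Finset.mem_filter.mp hi).2
      rw [show c i = (n : ℂ) from hn'] at hne ⊢
      have : (n : ℤ) ≠ 0 := fun e => hne (by simp [e])
      rw [Complex.norm_intCast, sq_abs]
      exact_mod_cast (one_le_sq_iff_one_le_abs n).mpr (Int.one_le_abs this)
    have h2 := Finset.sum_le_sum h1
    rw [Finset.sum_const, nsmul_eq_mul, mul_one] at h2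
    have h3 : (s.card : ℝ) ≤ 2 := h2.trans ((Finset.sum_le_sum_of_subset_of_nonneg (Finset.subset_univ s)
      fun i _ _ => sq_nonneg _).trans (hb.trans hn))
    exact_mod_cast h3
  by_contra hab
  have hm : (a, b) ∈ s := Finset.mem_filter.mpr ⟨Finset.mem_univ _, hab⟩
  obtain ⟨i₀, hi₀⟩ : ∃ i₀, ∀ i ∈ s, i = (a, b) ∨ i = i₀ := by
    by_cases hex : ∃ i ∈ s, i ≠ (a, b)
    · obtain ⟨i₀, h0, h1⟩ := hex
      refine ⟨i₀, fun i hi => ?_⟩
      by_contra hn'
      push Not at hn'
      have h3 : ({(a, b), i₀, i} : Finset _) ⊆ s := by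
        simp [Finset.insert_subset_iff, hm, h0, hi]
      have := Finset.card_le_card h3
      rw [Finset.card_insert_of_notMem (by simp [Ne.symm h1, Ne.symm hn'.1]),
        Finset.card_pair (Ne.symm hn'.2)] at this
      omega
    · push Not at hex
      exact ⟨(a, b), fun i hi => Or.inl (hex i hi)⟩
  refine hab (corner (three_le_hom hodd hW.1) (three_le_hom hodd hW.2.1) (fun x y => c (x, y))
    (fun x y => F.grid f (IsGeneralizedCharacter.isClassFunction hf) hV x y) a i₀.1 b i₀.2 ?_)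
  intro x y hxy
  rcases hi₀ (x, y) (Finset.mem_filter.mpr ⟨Finset.mem_univ _, hxy⟩) with e | e
  · exact Or.inl (by simpa using e)
  · exact Or.inr ⟨by rw [← e], by rw [← e]⟩

/-- A sign pair with difference vanishing on the regular part is orthogonal to `η`. -/
theorem pair_orth_eta {μ : G → ℂ} (hμ : SignIrr μ) (hne : Cfsg.conjFun μ ≠ μ)
    (hne' : Cfsg.conjFun μ ≠ -μ)
    (hV : ∀ (x : W₁) (y : W₂), x ≠ 1 → y ≠ 1 → (μ - Cfsg.conjFun μ) ((x : G) * y) = 0)
    (a : W₁ →* ℂˣ) (b : W₂ →* ℂˣ) : Cfsg.classInner μ (η a b) = 0 := by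
  have hc : SignIrr (Cfsg.conjFun μ) := SignIrr.twist hμ Complex.conjAe.toRingEquiv
  have hn1 : ∀ f : G → ℂ, SignIrr f → Cfsg.classInner f f = 1 := by
    rintro f (hf | hf)
    · exact classInner_self_irr hf
    · have := classInner_self_irr hf
      rwa [classInner_neg_left, classInner_neg_right, neg_neg] at this
  have h0 : Cfsg.classInner μ (Cfsg.conjFun μ) = 0 := by
    by_contra h0
    rcases hμ.eq_or_neg hc h0 with e | e
    · exact hne e.symm
    · exact hne' (neg_eq_iff_eq_neg.mp e.symm)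
  have h0' : Cfsg.classInner (Cfsg.conjFun μ) μ = 0 := by
    rw [← classInner_conj_symm μ (Cfsg.conjFun μ), h0, map_zero]
  have h := orth_eta F hW hodd (IsGeneralizedCharacter.sub (SignIrr_isGen hμ) (SignIrr_isGen hc)) hV
    (by rw [classInner_sub_left, classInner_sub_right, classInner_sub_right, hn1 μ hμ, hn1 _ hc, h0, h0']
        norm_num) a b
  by_contra hn
  have h2 : Cfsg.classInner (Cfsg.conjFun μ) (η a b) = 0 := by
    rcases hμ.eq_or_neg (F.sign a b) hn with e | e
    · rw [← e, h0']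
    · rw [show η a b = -μ from by rw [e, neg_neg], classInner_neg_right, h0', neg_zero]
  rw [classInner_sub_left, h2, sub_zero] at h
  exact hn h

/-- A class function orthogonal to `η` vanishes on the regular part. -/
theorem zero_on_V {θ : G → ℂ} (hθ : Cfsg.IsClassFunction G θ)
    (h : ∀ a b, Cfsg.classInner θ (η a b) = 0) (x₀ : W₁) (y₀ : W₂) (hx : x₀ ≠ 1) (hy : y₀ ≠ 1) :
    θ ((x₀ : G) * y₀) = 0 := by
  classical
  haveI := isMulCommutative1 hW
  haveI := isMulCommutative2 hW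
  haveI := finite_dual W₁
  haveI := finite_dual W₂
  haveI : Fintype (W₁ →* ℂˣ) := Fintype.ofFinite _
  haveI : Fintype (W₂ →* ℂˣ) := Fintype.ofFinite _
  haveI : Fintype W₁ := Fintype.ofFinite _
  haveI : Fintype W₂ := Fintype.ofFinite _
  have S := split_of hW
  set emb : W₁ × W₂ → G := fun i => (i.1 : G) * i.2 with hemb
  have hinj : Function.Injective emb := fun i j e => by
    have : prodIso S i = prodIso S j := Subtype.ext e
    exact (prodIso S).injective this
  set q : ℂ := (Nat.card W₁ : ℂ)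
  set p : ℂ := (Nat.card W₂ : ℂ)
  have hzero : ∀ (a : W₁ →* ℂˣ) (b : W₂ →* ℂˣ),
      ∑ i : W₁ × W₂, θ (emb i) * ((1 - conj (a i.1 : ℂ)) * (1 - conj (b i.2 : ℂ))) = 0 := by
    intro a b
    let f : G → ℂ := fun z => ∑ i : W₁ × W₂,
      if emb i = z then (1 - (a i.1 : ℂ)) * (1 - (b i.2 : ℂ)) else 0
    have hf : ∀ (x : W₁) (y : W₂), f ((x : G) * y) = (1 - (a x : ℂ)) * (1 - (b y : ℂ)) := by
      intro x y
      simp only [f]
      rw [Finset.sum_eq_single (x, y)]
      · rw [if_pos rfl]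
      · intro i _ hi
        rw [if_neg fun e => hi (hinj e)]
      · simp
    have hf0 : ∀ z : G, (∀ (x : W₁) (y : W₂), z ≠ (x : G) * y) → f z = 0 := fun z hz =>
      Finset.sum_eq_zero fun i _ => if_neg fun e => hz i.1 i.2 e.symm
    set k : G → ℂ := fun g => ∑ x : G, f (x⁻¹ * g * x) with hk
    have hI : Cfsg.classInner θ k = 0 := by
      have e : k = (q * p) • ((fun _ => 1) - η a 1 - η 1 b + η a b) := by
        funext g
        have := F.ind a b f hf hf0 g
        rw [Pi.smul_apply, smul_eq_mul]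
        simp only [Pi.sub_apply, Pi.add_apply]
        rw [← this, ← mul_assoc, mul_inv_cancel₀ (mul_ne_zero
          (Nat.cast_ne_zero.mpr Nat.card_pos.ne') (Nat.cast_ne_zero.mpr Nat.card_pos.ne')), one_mul]
      rw [e, classInner_smul_right, classInner_add_right, classInner_sub_right, classInner_sub_right,
        ← F.one, h, h, h, h]
      simp
    rw [Cfsg.classInner] at hI
    have hN : (Nat.card G : ℂ) ≠ 0 := Nat.cast_ne_zero.mpr Nat.card_pos.ne'
    have hI' := (mul_eq_zero.mp hI).resolve_left (inv_ne_zero hN)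
    simp only [hk, map_sum, Finset.mul_sum] at hI'
    rw [Finset.sum_comm] at hI'
    have hx1 : ∀ x : G, ∑ g : G, θ g * conj (f (x⁻¹ * g * x)) = ∑ z : G, θ z * conj (f z) := by
      intro x
      refine Fintype.sum_equiv (MulAut.conj x⁻¹).toEquiv _ _ fun g => ?_
      show _ = θ (x⁻¹ * g * x⁻¹⁻¹) * conj (f (x⁻¹ * g * x⁻¹⁻¹))
      rw [hθ g x⁻¹, inv_inv]
    rw [Finset.sum_congr rfl fun x _ => hx1 x, Finset.sum_const, nsmul_eq_mul, mul_eq_zero] at hI'
    have hz := hI'.resolve_left (Nat.cast_ne_zero.mpr (by simp))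
    rw [← hz]
    simp only [f, map_sum, Finset.mul_sum]
    rw [Finset.sum_comm]
    refine Finset.sum_congr rfl fun i _ => ?_
    simp only [apply_ite conj, map_zero, mul_ite, mul_zero, Finset.sum_ite_eq, Finset.mem_univ,
      if_true, map_mul, map_sub, map_one]
  have key : ∀ {W : Subgroup G} [IsMulCommutative W] [Fintype W] [Fintype (W →* ℂˣ)] (x z : W), z ≠ 1 →
      ∑ a : W →* ℂˣ, (a z : ℂ) * (1 - conj (a x : ℂ)) =
        if x = z then -(Nat.card W : ℂ) else 0 := by
    intro W _ _ _ x z hz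
    have e : ∀ a : W →* ℂˣ, (a z : ℂ) * (1 - conj (a x : ℂ)) = (a z : ℂ) - (a (z * x⁻¹) : ℂ) := by
      intro a
      rw [lf_inv, map_mul, Units.val_mul]; ring
    rw [Finset.sum_congr rfl fun a _ => e a, Finset.sum_sub_distrib, sum_hom, sum_hom, if_neg hz]
    by_cases hxz : x = z
    · simp [hxz]
    · rw [if_neg hxz, if_neg fun e => hxz (mul_inv_eq_one.mp e).symm, sub_zero]
  have h1 : ∑ a : W₁ →* ℂˣ, ∑ b : W₂ →* ℂˣ, ((a x₀ : ℂ) * (b y₀ : ℂ)) *
      ∑ i : W₁ × W₂, θ (emb i) * ((1 - conj (a i.1 : ℂ)) * (1 - conj (b i.2 : ℂ))) = 0 :=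
    Finset.sum_eq_zero fun a _ => Finset.sum_eq_zero fun b _ => by rw [hzero, mul_zero]
  have h2 : ∑ i : W₁ × W₂, θ (emb i) *
      ((∑ a : W₁ →* ℂˣ, (a x₀ : ℂ) * (1 - conj (a i.1 : ℂ))) *
        ∑ b : W₂ →* ℂˣ, (b y₀ : ℂ) * (1 - conj (b i.2 : ℂ))) = 0 := by
    rw [← h1]
    simp only [Finset.mul_sum, Finset.sum_mul]
    conv_rhs => enter [2, a]; rw [Finset.sum_comm]
    rw [Finset.sum_comm (s := (Finset.univ : Finset (W₁ →* ℂˣ)))]
    refine Finset.sum_congr rfl fun i _ => ?_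
    rw [Finset.sum_comm]
    exact Finset.sum_congr rfl fun a _ => Finset.sum_congr rfl fun b _ => by ring
  rw [Finset.sum_eq_single (x₀, y₀)] at h2
  · rw [key x₀ x₀ hx, key y₀ y₀ hy, if_pos rfl, if_pos rfl] at h2
    have hp : (Nat.card W₂ : ℂ) ≠ 0 := Nat.cast_ne_zero.mpr Nat.card_pos.ne'
    have hq : (Nat.card W₁ : ℂ) ≠ 0 := Nat.cast_ne_zero.mpr Nat.card_pos.ne'
    simpa [hp, hq] using h2
  · intro i _ hi
    rw [key i.1 x₀ hx, key i.2 y₀ hy]
    by_cases h' : i.1 = x₀
    · rw [if_neg (fun e : i.2 = y₀ => hi (Prod.ext h' e))]; simp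
    · rw [if_neg h']; simp
  · simp

/-- `η a 1` takes one value for all `a ≠ 1` at an element of order prime to `|W₁|`. -/
theorem eta_eq_of_coprime (hq : (Nat.card W₁).Prime) {a a' : W₁ →* ℂˣ} (ha : a ≠ 1) (ha' : a' ≠ 1)
    {g : G} (hg : Nat.Coprime (orderOf g) (Nat.card W₁)) : η a 1 g = η a' 1 g := by
  haveI := isMulCommutative1 hW
  haveI : Fact (Nat.card W₁).Prime := ⟨hq⟩
  haveI := finite_dual W₁
  obtain ⟨j, hj⟩ := mem_powers_iff_mem_zpowers.mpr
    (mem_zpowers_of_prime_card (g := a) (g' := a') (card_hom (H := W₁)) ha)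
  have hj' : a ^ j = a' := hj
  have hjq : Nat.Coprime j (Nat.card W₁) := by
    rw [Nat.coprime_comm, hq.coprime_iff_not_dvd]
    rintro ⟨m, rfl⟩
    refine ha' (hj'.symm.trans (MonoidHom.ext fun x => ?_))
    rw [MonoidHom.pow_apply, pow_mul, ← map_pow, pow_card_eq_one', map_one, one_pow]
    rfl
  obtain ⟨r, hr1, hr2⟩ := Nat.chineseRemainder hg.symm j 1
  have hr : r.Coprime (Nat.card W₁ * orderOf g) := by
    refine Nat.Coprime.mul_right ?_ ?_
    · unfold Nat.Coprime
      rw [Nat.ModEq.gcd_eq hr1]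
      exact hjq
    · unfold Nat.Coprime
      rw [Nat.ModEq.gcd_eq hr2, Nat.gcd_one_left]
  haveI : NeZero (Nat.card G) := ⟨Nat.card_pos.ne'⟩
  obtain ⟨v, hv⟩ := ZMod.unitsMap_surjective
    (hg.symm.mul_dvd_of_dvd_of_dvd (Subgroup.card_subgroup_dvd_card W₁) (orderOf_dvd_natCard g))
    (ZMod.unitOfCoprime r hr)
  set k := (v : ZMod (Nat.card G)).val
  have hk : k.Coprime (Nat.card G) := ZMod.val_coe_unit_coprime v
  have hmod : k ≡ r [MOD Nat.card W₁ * orderOf g] := by
    rw [← ZMod.natCast_eq_natCast_iff]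
    have := congrArg Units.val hv
    rw [ZMod.unitsMap_val, ZMod.coe_unitOfCoprime, ZMod.cast_eq_val] at this
    exact this
  obtain ⟨σ, hσ⟩ := CharGalois.exists_galoisAut (Nat.card_pos (α := G)).ne' hk
  have hgk : g ^ k = g := by
    conv_rhs => rw [← pow_one g]
    exact pow_eq_pow_iff_modEq.mpr ((hmod.of_mul_left _).trans hr2)
  have htw := eta_twist F hW hodd σ (a := a) (a' := a') (b := 1) (b' := 1) (fun x => by
    have hx : (a x : ℂ) ^ Nat.card W₁ = 1 := by
      rw [← Units.val_pow_eq_pow_val, ← map_pow, pow_card_eq_one', map_one, Units.val_one]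
    rw [hσ _ (by
      obtain ⟨m, hm⟩ := Subgroup.card_subgroup_dvd_card W₁
      rw [hm, pow_mul, hx, one_pow]), pow_eq_pow_mod _ hx, (hmod.of_mul_right _).trans hr1,
      ← pow_eq_pow_mod _ hx, ← Units.val_pow_eq_pow_val, ← MonoidHom.pow_apply, hj'])
    (fun y => by simp)
  have h1 : σ (η a 1 g) = η a 1 g := by
    conv_rhs => rw [← hgk]
    exact SignIrr.map_value (F.sign a 1) σ.toRingHom hσ g
  rw [← congrFun htw g, h1]

end Cfsg.Agent.OddChar.P14
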