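/-
Peterfalvi section 14: what coherence gives for a Frobenius maximal subgroup `L` of Type I: the
images `w` of the irreducible characters that are not trivial on the kernel and the virtual
character `Φ = (Ind_H^L 1 - ζ) ^ τ`.
-/
import Cfsg.Agent.Lib.OddChar.P14.Base
import Cfsg.Agent.Lib.OddChar.P12TypeOne

set_option autoImplicit false
set_option linter.unusedSectionVars false
set_option linter.style.haveILetI false

namespace Cfsg.Agent.OddChar.P14

open scoped ComplexConjugate
open Cfsg.Agent.Char Cfsg.Agent.Char.CyclicTI Cfsg.Agent.OddChar.P13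

universe u

variable {G : Type u} [Group G] [Fintype G]

/-- `L̃`. -/
def tilde (L : Subgroup G) : Set G := Cfsg.tildeOf L ((Cfsg.sigmaCore L : Set G) \ {1})

open Classical in
/-- `L̃` as a finite set. -/
noncomputable def tildeFin (L : Subgroup G) : Finset G := Finset.univ.filter fun g => g ∈ tilde L

open Classical in
/-- The data given by coherence: `d i` are the degrees divided by `e = |L : H|`, `d i₀ = 1`, and
`w i` are the images. -/
structure Block (L : Subgroup G) (e h : ℕ) {ι : Type u} [Fintype ι] (d : ι → ℕ) (i₀ : ι)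
    (w : ι → G → ℂ) (Φ : G → ℂ) : Prop where
  e_lt : e < h
  d_zero : d i₀ = 1
  sum_sq : e * (∑ i, d i ^ 2) + 1 = h
  sign : ∀ i, SignIrr (w i)
  orth : ∀ i j, Cfsg.classInner (w i) (w j) = if i = j then 1 else 0
  gen : Cfsg.IsGeneralizedCharacter G Φ
  one : Cfsg.classInner Φ (fun _ => 1) = 1
  norm : Cfsg.classInner Φ Φ = (e : ℂ) + 1
  supp : ∀ g ∉ tilde L, Φ g = 0
  supp_diff : ∀ i, ∀ g ∉ tilde L, w i g = (d i : ℂ) * w i₀ g
  cconj : ∀ i, ∃ j, j ≠ i ∧ Cfsg.conjFun (w i) = w j
  real : Cfsg.conjFun (Φ + w i₀) = Φ + w i₀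
  coef : ∀ i, Cfsg.classInner Φ (w i) =
    (d i : ℂ) * Cfsg.classInner Φ (w i₀) + d i - if i = i₀ then 1 else 0
  galois : ∀ σ : ℂ ≃+* ℂ, ∃ j, (fun g => σ (Φ g)) = Φ + w i₀ - w j
  mass : Cfsg.classInner Φ (w i₀) = -1 → 1 - (e : ℝ) / h ≤ P14.mass (tildeFin L) (w i₀)

omit [Fintype G] in
theorem signIrr_norm [Fintype G] {f : G → ℂ} (hf : SignIrr f) : Cfsg.classInner f f = 1 := by
  rcases hf with h | h
  · exact classInner_self_irr h
  · have := classInner_self_irr h
    rwa [classInner_neg_left, classInner_neg_right, neg_neg] at this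

theorem conjFun_ne_neg {f : G → ℂ} (hf : SignIrr f) : Cfsg.conjFun f ≠ -f := by
  intro e
  have key : ∀ μ : G → ℂ, Cfsg.IsIrrCharacter G μ → Cfsg.conjFun μ = -μ → False := by
    intro μ hμ e
    have h1 := congrFun e 1
    rw [Coherence.conjFun_one hμ, Pi.neg_apply] at h1
    exact IsIrrCharacter.one_ne_zero hμ (by linear_combination h1 / 2)
  rcases hf with h | h
  · exact key f h e
  · refine key (-f) h (funext fun x => ?_)
    have := congrFun e x
    simp only [Cfsg.conjFun, Pi.neg_apply, map_neg, neg_neg] at this ⊢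
    rw [this, neg_neg]

variable (hG : Cfsg.IsMinSimpleOddOrder G) {L : Subgroup G} [Fintype L] (hL : P12.FrobOne L)
include hG hL

theorem not_mem_coset {g : G} (hg : g ∉ tilde L) :
    ∀ a ∈ Cfsg.typeA L, g ∉ Dade.coset (Cfsg.supportR L) a := by
  intro a ha hc
  obtain ⟨u, hu, x, hx⟩ := Dade.mem_coset.1 hc
  obtain ⟨haH, ha1⟩ := (P12.mem_typeA_iff hG hL).1 ha
  exact hg ⟨a, ⟨P12.fitting_eq_sigma hG hL ▸ haH, ha1⟩, u, hu, x⁻¹, by rw [← hx]; group⟩

/-- The block of a Frobenius maximal subgroup of Type I. -/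
theorem exists_block {e h : ℕ} (hh : Nat.card (Cfsg.fittingHallOf L) = h) (he : Nat.card L = e * h) :
    ∃ (ι : Type u) (_ : Fintype ι) (d : ι → ℕ) (i₀ : ι) (w : ι → G → ℂ) (Φ : G → ℂ),
      Block L e h d i₀ w Φ := by
  classical
  set K := Cfsg.fittingHall L with hK
  have hKh : Nat.card K = h := by
    rw [← hh, Cfsg.fittingHallOf, Subgroup.card_map_of_injective L.subtype_injective]
  have hKe : K.index = e := by
    have := K.index_mul_card
    rw [hKh, he] at this
    exact Nat.eq_of_mul_eq_mul_right (hKh ▸ Nat.card_pos) this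
  have hF : ∀ k ∈ K, k ≠ 1 → Subgroup.centralizer ({k} : Set L) ≤ K := P12.kernel_frob hG hL
  have hoddL : Odd (Nat.card L) := hG.1.of_dvd_nat (Subgroup.card_subgroup_dvd_card L)
  haveI : Fintype K := Fintype.ofFinite K
  set S := Cfsg.inducedIrrAbove K ⊥ with hS
  set τ := Cfsg.dadeIsometry (Cfsg.typeA L) L (Cfsg.supportR L) with hτ
  have hD := P12.dade_hyp hG hL
  obtain ⟨-, τ₁, hτ₁, hag⟩ := P12.coherent hG hL
  have hτ₁' : Cfsg.IsLinearIsometryOn (↑(Submodule.span ℤ S) : Set (L → ℂ)) τ₁ := hτ₁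
  have hirr : ∀ φ ∈ S, Cfsg.IsIrrCharacter L φ := fun φ hφ => Feit.above_irr K hF hφ
  set T : Finset (L → ℂ) :=
    (IndSet.over K ⊥).image fun θ : Cfsg.IrrCharacter K => Cfsg.indFun K (θ : K → ℂ) with hT
  have hTS : ∀ {φ : L → ℂ}, φ ∈ T ↔ φ ∈ S := fun {φ} => by
    rw [hT, Finset.mem_image, hS]
    exact (IndSet.mem_above_iff_exists K).symm
  have hdeg : ∀ i : T, ∃ n : ℕ, (i : L → ℂ) 1 = (e : ℂ) * n := by
    intro i
    obtain ⟨θ, -, hθ⟩ := Finset.mem_image.1 i.2
    refine ⟨Cfsg.charDegree (θ : K → ℂ), ?_⟩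
    rw [← hθ, IndSet.indFun_degree K (IsIrrCharacter.isCharacter θ.2), hKe, Nat.cast_mul]
  choose d hd using hdeg
  haveI := Feit.nilpotent K hF (P12.kernel_ne_top hG hL)
  obtain ⟨θ₀, hθ₀, hθ₀1⟩ := IndSet.exists_linear K (A := (⊥ : Subgroup L)) inferInstance
    (fun hle => P12.kernel_ne_bot hG hL (le_bot_iff.1 hle))
  set i₀ : T := ⟨_, Finset.mem_image_of_mem
    (fun θ : Cfsg.IrrCharacter K => Cfsg.indFun K (θ : K → ℂ)) hθ₀⟩ with hi₀
  set ζ : L → ℂ := (i₀ : L → ℂ) with hζ
  have hζ1 : ζ 1 = (e : ℂ) := by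
    show Cfsg.indFun K (θ₀ : K → ℂ) 1 = _
    rw [indFun_one_apply, hθ₀1, mul_one, hKe]
  have he0 : (e : ℂ) ≠ 0 := by
    rw [← hKe]; exact Nat.cast_ne_zero.2 Subgroup.index_ne_zero_of_finite
  have hd0 : d i₀ = 1 := by
    have h1 := hd i₀
    rw [← hζ, hζ1] at h1
    have h2 : ((1 : ℕ) : ℂ) = (d i₀ : ℂ) := mul_left_cancel₀ he0 (by rw [Nat.cast_one, mul_one]; exact h1)
    exact_mod_cast h2.symm
  have hmemS : ∀ i : T, (i : L → ℂ) ∈ S := fun i => hTS.1 i.2
  have hsp : ∀ i : T, (i : L → ℂ) ∈ Submodule.span ℤ S := fun i => Submodule.subset_span (hmemS i)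
  have hoff : ∀ φ ∈ S, ∀ x : L, x ∉ K → φ x = 0 := fun φ hφ x hx =>
    (CohTI.zspan_vanish K (Coherence.subset_zspan hφ)).1 x hx
  have hA : ∀ {f : L → ℂ}, (∀ x : L, x ∉ K → f x = 0) → f 1 = 0 →
      ∀ x : L, (x : G) ∉ Cfsg.typeA L → f x = 0 := by
    intro f h1 h2 x hx
    by_cases hxK : x ∈ K
    · rcases eq_or_ne x 1 with rfl | hx1
      · exact h2
      · refine absurd ((P12.mem_typeA_iff hG hL).2 ⟨?_, fun e => hx1 (Subtype.ext e)⟩) hx
        rwa [hK, P12.fitting_eq_subgroupOf, Subgroup.mem_subgroupOf] at hxK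
    · exact h1 x hxK
  -- `Ind 1` and `Ψ`
  set π : L → ℂ := Cfsg.indFun K (fun _ => 1) with hπ
  have hπv : ∀ x, π x = if x ∈ K then (e : ℂ) else 0 := by
    intro x
    by_cases hx : x ∈ K
    · rw [if_pos hx, hπ, indFun_apply,
        Finset.sum_congr rfl (fun y _ => extendByZero_mem K _
          (show y⁻¹ * x * y ∈ K from by simpa using (inferInstance : K.Normal).conj_mem x hx y⁻¹)),
        Finset.sum_const, Finset.card_univ, nsmul_eq_mul, mul_one, ← Nat.card_eq_fintype_card,
        ← K.index_mul_card, hKe, Nat.cast_mul]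
      field_simp
    · rw [if_neg hx, hπ, indFun_eq_zero_of_not_mem K _ hx]
  have hπg : Cfsg.IsGeneralizedCharacter L π :=
    IsGeneralizedCharacter.of_isCharacter (isCharacter_indFun _ isCharacter_one)
  have hgenS : ∀ φ ∈ S, Cfsg.IsGeneralizedCharacter L φ := fun φ hφ =>
    IsGeneralizedCharacter.of_isCharacter (IsIrrCharacter.isCharacter (hirr φ hφ))
  set Ψ := π - ζ with hΨ
  have hΨg : Cfsg.IsGeneralizedCharacter L Ψ := IsGeneralizedCharacter.sub hπg (hgenS _ (hmemS i₀))
  have hΨA : ∀ x : L, (x : G) ∉ Cfsg.typeA L → Ψ x = 0 := hA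
    (fun x hx => by rw [hΨ, Pi.sub_apply, hπv, if_neg hx, hoff ζ (hmemS i₀) x hx, sub_zero])
    (by rw [hΨ, Pi.sub_apply, hπv, if_pos K.one_mem, hζ1, sub_self])
  have hπφ : ∀ φ ∈ S, Cfsg.classInner π φ = 0 := by
    rintro φ ⟨θ, hθ, hθ1, -, rfl⟩
    rw [hπ, classInner_indFun_normal K isIrrCharacter_one hθ]
    haveI : IsEmpty {g : L // conjChar K g (fun _ : K => (1 : ℂ)) = θ} :=
      ⟨fun g => hθ1 (g.2.symm.trans (IndSet.conjChar_const K g.1))⟩
    rw [@Nat.card_of_isEmpty _ this, Nat.cast_zero, mul_zero]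
  have hπ1 : Cfsg.classInner π (fun _ => 1) = 1 := by
    rw [hπ, classInner_indFun_left K _ (fun _ _ => rfl)]
    exact classInner_self_irr isIrrCharacter_one
  have hππ : Cfsg.classInner π π = (e : ℂ) := by
    rw [hπ, classInner_indFun_left K _ (isClassFunction_indFun _ _)]
    have h1 : (fun k : K => Cfsg.indFun K (fun _ => (1 : ℂ)) (k : L)) = (e : ℂ) • (fun _ : K => (1 : ℂ)) :=
      funext fun k => by rw [← hπ, hπv, if_pos k.2, Pi.smul_apply, smul_eq_mul, mul_one]
    rw [h1, classInner_smul_right, classInner_self_irr isIrrCharacter_one, map_natCast, mul_one]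
  have hortS : ∀ i j : T, Cfsg.classInner (i : L → ℂ) (j : L → ℂ) = if i = j then 1 else 0 := by
    intro i j
    rw [classInner_irr (hirr _ (hmemS i)) (hirr _ (hmemS j))]
    simp [Subtype.coe_inj]
  have hS1 : ∀ φ ∈ S, Cfsg.classInner φ (fun _ => 1) = 0 := by
    intro φ hφ
    rw [classInner_irr (hirr φ hφ) isIrrCharacter_one, if_neg]
    intro he'
    obtain ⟨-, k, -, hk⟩ := (Set.ext_iff.1 (Feit.above_bot_eq K hF) φ).1 hφ
    exact hk (by rw [he'])
  -- the images
  set w : T → G → ℂ := fun i => τ₁ (i : L → ℂ) with hw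
  have horth : ∀ i j, Cfsg.classInner (w i) (w j) = if i = j then 1 else 0 := fun i j => by
    rw [hw, Coherence.iso_inner hτ₁' (hsp i) (hsp j), hortS]
  have hsign : ∀ i, SignIrr (w i) := fun i =>
    IsGeneralizedCharacter.of_norm_one (Coherence.iso_gen hτ₁' (hsp i)) (by rw [horth, if_pos rfl])
  have hsub : ∀ (i j : T) (n : ℕ), (i : L → ℂ) 1 = (n : ℂ) * (j : L → ℂ) 1 →
      τ ((i : L → ℂ) - (n : ℤ) • (j : L → ℂ)) = w i - (n : ℤ) • w j := by
    intro i j n h1
    have hmem : (i : L → ℂ) - (n : ℤ) • (j : L → ℂ) ∈ Cfsg.zspanOn S ({1}ᶜ : Set L) :=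
      Coherence.mem_zspanOn_one.2 ⟨Submodule.sub_mem _ (hsp i) (Submodule.smul_mem _ _ (hsp j)), by
        rw [Pi.sub_apply, Pi.smul_apply, zsmul_eq_mul, h1]; push_cast; ring⟩
    rw [hτ, ← hag _ hmem, Coherence.iso_sub hτ₁' (hsp i) (Submodule.smul_mem _ _ (hsp j)),
      Coherence.iso_zsmul hτ₁' (hsp j)]
  set dif : T → L → ℂ := fun i => (i : L → ℂ) - (d i : ℤ) • ζ with hdifdef
  have hdif : ∀ i, τ (dif i) = w i - (d i : ℤ) • w i₀ := fun i =>
    hsub i i₀ (d i) (by rw [hd, ← hζ, hζ1, mul_comm])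
  have hdifg : ∀ i, Cfsg.IsGeneralizedCharacter L (dif i) := fun i =>
    IsGeneralizedCharacter.sub (hgenS _ (hmemS i)) (IsGeneralizedCharacter.zsmul (hgenS _ (hmemS i₀)) _)
  have hdifA : ∀ i, ∀ x : L, (x : G) ∉ Cfsg.typeA L → dif i x = 0 := fun i => hA
    (fun x hx => by
      simp only [hdifdef]
      rw [Pi.sub_apply, Pi.smul_apply, hoff _ (hmemS i) x hx, hoff ζ (hmemS i₀) x hx,
        smul_zero, sub_zero])
    (by simp only [hdifdef]; rw [Pi.sub_apply, Pi.smul_apply, zsmul_eq_mul, hd, hζ1]; push_cast; ring)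
  have hzero : ∀ (f : L → ℂ) {g : G}, g ∉ tilde L → τ f g = 0 := fun f g hg =>
    Dade.dadeIsometry_zero hD (not_mem_coset hG hL hg)
  set Φ := τ Ψ with hΦ
  have hΦg : Cfsg.IsGeneralizedCharacter G Φ := Dade.isGeneralizedCharacter_dade hD hΨg hΨA
  have hnorm : Cfsg.classInner Φ Φ = (e : ℂ) + 1 := by
    rw [hΦ, hτ, (S1500.result _ L _ hD Ψ (IsGeneralizedCharacter.isClassFunction hΨg) hΨA).1 Ψ
      (IsGeneralizedCharacter.isClassFunction hΨg) hΨA, hΨ, classInner_sub_left, classInner_sub_right,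
      classInner_sub_right, hππ, hπφ _ (hmemS i₀), ← classInner_conj_symm π ζ, hπφ _ (hmemS i₀),
      map_zero, hζ, hortS, if_pos rfl]
    ring
  have hone : Cfsg.classInner Φ (fun _ => 1) = 1 := by
    rw [hΦ, hτ, (S1500.result _ L _ hD Ψ (IsGeneralizedCharacter.isClassFunction hΨg) hΨA).2
      (fun _ => 1) (fun _ => 1) (fun _ _ => rfl) fun a _ => by
        rw [finsum_mem_eq_finite_toFinset_sum _ (Set.toFinite _), Finset.sum_const, nsmul_eq_mul, mul_one,
          ← Nat.card_eq_card_finite_toFinset]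
        exact (inv_mul_cancel₀ (Nat.cast_ne_zero.mpr Nat.card_pos.ne')).symm,
      hΨ, classInner_sub_left, hπ1, hS1 _ (hmemS i₀), sub_zero]
  have hcoef : ∀ i, Cfsg.classInner Φ (w i) =
      (d i : ℂ) * Cfsg.classInner Φ (w i₀) + d i - if i = i₀ then 1 else 0 := by
    intro i
    have h1 : Cfsg.classInner Φ (τ (dif i)) = Cfsg.classInner Ψ (dif i) := by
      rw [hΦ, hτ]
      exact (S1500.result _ L _ hD Ψ (IsGeneralizedCharacter.isClassFunction hΨg) hΨA).1 _
        (IsGeneralizedCharacter.isClassFunction (hdifg i)) (hdifA i)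
    rw [hdif, classInner_sub_right, Coherence.classInner_zsmul_right] at h1
    have h2 : Cfsg.classInner Ψ (dif i) = (d i : ℂ) - if i = i₀ then 1 else 0 := by
      rw [hΨ, hdifdef, classInner_sub_left, classInner_sub_right, classInner_sub_right,
        Coherence.classInner_zsmul_right, Coherence.classInner_zsmul_right, hπφ _ (hmemS i),
        hπφ _ (hmemS i₀), hζ, hortS, hortS, if_pos rfl]
      simp only [eq_comm (a := i₀) (b := i)]
      push_cast
      ring
    rw [h2] at h1
    push_cast at h1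
    linear_combination h1
  have htw : ∀ (σ : ℂ ≃+* ℂ) (i : T), ∃ j : T, (j : L → ℂ) = fun x => σ ((i : L → ℂ) x) := by
    intro σ i
    refine ⟨⟨_, hTS.2 ?_⟩, rfl⟩
    rw [hS, Feit.above_bot_eq K hF]
    obtain ⟨-, k, hk, hne⟩ := (Set.ext_iff.1 (Feit.above_bot_eq K hF) _).1 (hmemS i)
    exact ⟨CharGalois.IsIrrCharacter.twist (hirr _ (hmemS i)) σ, k, hk, fun he' => hne (σ.injective he')⟩
  have hmap : ∀ (σ : ℂ ≃+* ℂ) (f : L → ℂ), (fun g => σ (τ f g)) = τ fun x => σ (f x) := by
    intro σ f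
    funext g
    simp only [hτ, Cfsg.dadeIsometry]
    split
    · rfl
    · exact map_zero σ
  have hgal : ∀ (σ : ℂ ≃+* ℂ) (j : T), ((j : L → ℂ) = fun x => σ (ζ x)) →
      (fun g => σ (Φ g)) = Φ + w i₀ - w j := by
    intro σ j hj
    have hdj : d j = 1 := by
      have h1 := hd j
      rw [hj] at h1
      simp only [hζ1, map_natCast] at h1
      have h2 : ((1 : ℕ) : ℂ) = (d j : ℂ) := mul_left_cancel₀ he0 (by rw [Nat.cast_one, mul_one]; exact h1)
      exact_mod_cast h2.symm
    have e1 : (fun x => σ (Ψ x)) = Ψ + -dif j := by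
      funext x
      simp only [hΨ, hdifdef, hdj, hj, Pi.add_apply, Pi.neg_apply, Pi.sub_apply, Nat.cast_one, one_smul,
        map_sub, hπv]
      split_ifs <;> simp <;> ring
    have e2 : -dif j = (-1 : ℤ) • dif j := (neg_one_zsmul _).symm
    rw [hΦ, hmap, e1, hτ, P12.dade_add, e2, P12.dade_zsmul, ← hτ, hdif, hdj, neg_one_zsmul]
    simp only [Nat.cast_one, one_smul]
    abel
  have hconj : ∀ i j : T, (j : L → ℂ) = Cfsg.conjFun (i : L → ℂ) → j ≠ i ∧ Cfsg.conjFun (w i) = w j := by
    intro i j hj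
    have hne : j ≠ i := by
      intro e'
      rw [e'] at hj
      have h1 := eq_one_of_real hoddL (hirr _ (hmemS i)) fun g => (congrFun hj g).symm
      obtain ⟨-, k, -, hk⟩ := (Set.ext_iff.1 (Feit.above_bot_eq K hF) _).1 (hmemS i)
      exact hk (by rw [h1])
    refine ⟨hne, ?_⟩
    have h1 : (i : L → ℂ) 1 = ((1 : ℕ) : ℂ) * (j : L → ℂ) 1 := by
      rw [Nat.cast_one, one_mul, hj, Coherence.conjFun_one (hirr _ (hmemS i))]
    have hij := hsub i j 1 h1
    simp only [Nat.cast_one, one_smul] at hij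
    set C := Cfsg.conjFun (w i) with hC
    set D' := Cfsg.conjFun (w j) with hD'
    have hCD : C - D' = w j - w i := by
      have h2 : (fun g => Complex.conjAe.toRingEquiv (τ ((i : L → ℂ) - (j : L → ℂ)) g)) = C - D' := by
        rw [hij]
        funext g
        simp [hC, hD', Cfsg.conjFun]
      rw [← h2, hmap, show (fun x => Complex.conjAe.toRingEquiv (((i : L → ℂ) - (j : L → ℂ)) x)) =
          (-1 : ℤ) • ((i : L → ℂ) - (j : L → ℂ)) by
        funext x; simp [hj, Cfsg.conjFun], hτ, P12.dade_zsmul, ← hτ, hij, neg_one_zsmul, neg_sub]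
    have hsC : SignIrr C := SignIrr.twist (hsign i) Complex.conjAe.toRingEquiv
    have hsD : SignIrr D' := SignIrr.twist (hsign j) Complex.conjAe.toRingEquiv
    have hCDo : Cfsg.classInner C D' = 0 := by
      rw [hC, hD', inner_conjFun, horth, if_neg (Ne.symm hne), map_zero]
    have h3 : Cfsg.classInner C (w i) - Cfsg.classInner D' (w i) = -1 := by
      rw [← classInner_sub_left, hCD, classInner_sub_left, horth, horth, if_neg hne, if_pos rfl, zero_sub]
    have hCi : Cfsg.classInner C (w i) = 0 := by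
      by_contra hn
      rcases hsC.eq_or_neg (hsign i) hn with e' | e'
      · rw [e', horth, if_pos rfl] at h3
        have h4 : Cfsg.classInner D' (w i) = 0 := by
          rw [← e', ← classInner_conj_symm C D', hCDo, map_zero]
        rw [h4] at h3
        norm_num at h3
      · exact conjFun_ne_neg (hsign i) e'
    rw [hCi, zero_sub] at h3
    have hDi : D' = w i := by
      rcases hsD.eq_or_neg (hsign i) (by rw [neg_inj.1 h3]; exact one_ne_zero) with e' | e'
      · exact e'
      · rw [e', classInner_neg_left, horth, if_pos rfl] at h3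
        norm_num at h3
    rw [hDi] at hCD
    linear_combination (norm := abel) hCD
  have hsumNat : e * (∑ i : T, d i ^ 2) + 1 = h := by
    have hsum := IndSet.sum_above K (⊥ : Subgroup L) Cfsg.charDegree (fun _ => 1)
      (fun φ hφ => CharX.deg_spec (IsIrrCharacter.isCharacter (hirr φ hφ)))
      (fun φ hφ => by rw [classInner_self_irr (hirr φ hφ), Nat.cast_one])
    rw [← hT, ← Finset.sum_coe_sort T, Subgroup.relIndex_bot_left, hKh, hKe] at hsum
    have hcd : ∀ i : T, (Cfsg.charDegree (i : L → ℂ) : ℝ) = (e : ℝ) * d i := by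
      intro i
      have h1 := CharX.deg_spec (IsIrrCharacter.isCharacter (hirr _ (hmemS i)))
      rw [hd] at h1
      exact_mod_cast h1.symm
    simp only [hcd, Nat.cast_one, div_one, mul_pow, ← Finset.mul_sum] at hsum
    have heR : (e : ℝ) ≠ 0 := by exact_mod_cast he0
    have h2 : (e : ℝ) * (∑ i : T, (d i : ℝ) ^ 2) + 1 = (h : ℝ) := by
      have : (e : ℝ) * ((e : ℝ) * (∑ i : T, (d i : ℝ) ^ 2)) = (e : ℝ) * ((h : ℝ) - 1) := by
        rw [← hsum]; ring
      have := mul_left_cancel₀ heR this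
      linarith
    exact_mod_cast h2
  have hlt : e < h := by
    have h1 : 1 ≤ ∑ i : T, d i ^ 2 := by
      calc 1 = d i₀ ^ 2 := by rw [hd0, one_pow]
        _ ≤ _ := Finset.single_le_sum (fun i _ => Nat.zero_le (d i ^ 2)) (Finset.mem_univ i₀)
    have := Nat.le_mul_of_pos_right e h1
    omega
  have hm : (e : ℂ) * ∑ i : T, (d i : ℂ) ^ 2 = (h : ℂ) - 1 := by
    rw [← hsumNat]; push_cast; ring
  refine ⟨T, inferInstance, d, i₀, w, Φ, ?_⟩
  refine { e_lt := hlt, d_zero := hd0, sum_sq := ?_, sign := hsign, orth := ?_, gen := hΦg, one := hone,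
           norm := hnorm, supp := fun g hg => hzero _ hg, supp_diff := ?_, cconj := ?_, real := ?_,
           coef := ?_, galois := ?_, mass := ?_ }
  · exact hsumNat
  · intro i j
    rw [horth i j]
    split_ifs <;> rfl
  · intro i g hg
    have := congrFun (hdif i) g
    rw [hzero _ hg, Pi.sub_apply, Pi.smul_apply, zsmul_eq_mul, Int.cast_natCast] at this
    linear_combination -this
  · intro i
    obtain ⟨j, hj⟩ := htw Complex.conjAe.toRingEquiv i
    exact ⟨j, hconj i j hj⟩
  · obtain ⟨j, hj⟩ := htw Complex.conjAe.toRingEquiv i₀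
    have h1 : Cfsg.conjFun Φ = Φ + w i₀ - w j := hgal Complex.conjAe.toRingEquiv j hj
    rw [show Cfsg.conjFun (Φ + w i₀) = Cfsg.conjFun Φ + Cfsg.conjFun (w i₀) from
      funext fun x => by simp [Cfsg.conjFun], h1, (hconj i₀ j hj).2, sub_add_cancel]
  · intro i
    refine (hcoef i).trans ?_
    congr 1
    split_ifs <;> rfl
  · intro σ
    obtain ⟨j, hj⟩ := htw σ i₀
    exact ⟨j, hgal σ j hj⟩
  · intro hk
    set Z : L → ℂ := Ψ + ∑ i : T, (((e * d i : ℕ) : ℤ)) • dif i with hZ
    have hZg : Cfsg.IsGeneralizedCharacter L Z := IsGeneralizedCharacter.add hΨg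
      (isGeneralizedCharacter_sum _ fun i _ => IsGeneralizedCharacter.zsmul (hdifg i) _)
    have hZA : ∀ x : L, (x : G) ∉ Cfsg.typeA L → Z x = 0 := fun x hx => by
      rw [hZ, Pi.add_apply, hΨA x hx, Finset.sum_apply, zero_add]
      exact Finset.sum_eq_zero fun i _ => by rw [Pi.smul_apply, hdifA i x hx, smul_zero]
    have hτZ : τ Z = Φ + ∑ i : T, (((e * d i : ℕ) : ℤ)) • (w i - (d i : ℤ) • w i₀) := by
      rw [hZ, hτ, P12.dade_add, ← hτ, ← hΦ]
      congr 1
      have hsumτ : ∀ s : Finset T, τ (∑ i ∈ s, (((e * d i : ℕ) : ℤ)) • dif i) =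
          ∑ i ∈ s, (((e * d i : ℕ) : ℤ)) • (w i - (d i : ℤ) • w i₀) := by
        intro s
        induction s using Finset.induction_on with
        | empty =>
          rw [Finset.sum_empty, Finset.sum_empty, ← zero_smul ℤ (0 : L → ℂ), hτ, P12.dade_zsmul,
            zero_smul]
        | insert i s hi ih =>
          rw [Finset.sum_insert hi, Finset.sum_insert hi, hτ, P12.dade_add, P12.dade_zsmul, ← hτ, ih, hdif]
      exact hsumτ _
    have hinner : Cfsg.classInner (w i₀) (τ Z) = (e : ℂ) - h := by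
      rw [hτZ, classInner_add_right, ← classInner_conj_symm Φ (w i₀), hk, classInner_sum_right,
        Finset.sum_congr rfl (g := fun i => (e : ℂ) * ((if i₀ = i then (d i : ℂ) else 0) - (d i : ℂ) ^ 2))
          (fun i _ => by
            rw [Coherence.classInner_zsmul_right, classInner_sub_right, Coherence.classInner_zsmul_right,
              horth, horth, if_pos rfl]
            push_cast
            split_ifs <;> ring),
        ← Finset.mul_sum, Finset.sum_sub_distrib, Finset.sum_ite_eq, if_pos (Finset.mem_univ _), hd0,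
        map_neg, map_one, mul_sub, hm]
      push_cast
      ring
    have hZZ : Cfsg.classInner (τ Z) (τ Z) = (h : ℂ) * ((h : ℂ) - e) := by
      rw [hτ, (S1500.result _ L _ hD Z (IsGeneralizedCharacter.isClassFunction hZg) hZA).1 Z
        (IsGeneralizedCharacter.isClassFunction hZg) hZA]
      have hZe : Z = π + ((∑ i : T, ((e : ℂ) * d i) • (i : L → ℂ)) - (h : ℂ) • ζ) := by
        have h1 : ∀ i : T, (((e * d i : ℕ) : ℤ)) • dif i =
            ((e : ℂ) * d i) • (i : L → ℂ) - ((e : ℂ) * (d i : ℂ) ^ 2) • ζ := fun i => funext fun x => by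
          simp only [hdifdef, Pi.smul_apply, Pi.sub_apply, zsmul_eq_mul, smul_eq_mul, Pi.mul_apply, Pi.intCast_apply, Pi.natCast_apply, Int.cast_natCast]
          push_cast
          ring
        rw [hZ, Finset.sum_congr rfl (fun i _ => h1 i), Finset.sum_sub_distrib, ← Finset.sum_smul,
          ← Finset.mul_sum, hm, hΨ, sub_smul, one_smul]
        abel
      set X : L → ℂ := (∑ i : T, ((e : ℂ) * d i) • (i : L → ℂ)) - (h : ℂ) • ζ with hX
      have hπX : Cfsg.classInner π X = 0 := by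
        rw [hX, classInner_sub_right, classInner_sum_right, classInner_smul_right, hπφ _ (hmemS i₀),
          mul_zero, sub_zero]
        exact Finset.sum_eq_zero fun i _ => by rw [classInner_smul_right, hπφ _ (hmemS i), mul_zero]
      have hXi : ∀ i : T, Cfsg.classInner X (i : L → ℂ) =
          (e : ℂ) * d i - (if i₀ = i then (h : ℂ) else 0) := by
        intro i
        rw [hX, classInner_sub_left, classInner_sum_left, classInner_smul_left, hζ, hortS,
          Finset.sum_eq_single i]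
        · rw [classInner_smul_left, hortS, if_pos rfl]
          split_ifs <;> ring
        · intro j _ hj
          rw [classInner_smul_left, hortS, if_neg hj, mul_zero]
        · exact fun hn => absurd (Finset.mem_univ i) hn
      have hXX : Cfsg.classInner X X = (e : ℂ) ^ 2 * ∑ i : T, (d i : ℂ) ^ 2 - 2 * e * h + (h : ℂ) ^ 2 := by
        conv_lhs => arg 2; rw [hX]
        rw [classInner_sub_right, classInner_sum_right, classInner_smul_right, hζ, hXi i₀, if_pos rfl, hd0,
          Finset.sum_congr rfl (g := fun i => (e : ℂ) ^ 2 * (d i : ℂ) ^ 2 -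
              (e : ℂ) * ((if i₀ = i then (d i : ℂ) * h else 0))) (fun i _ => by
            rw [classInner_smul_right, hXi i, map_mul, map_natCast, map_natCast]
            split_ifs <;> ring),
          Finset.sum_sub_distrib, ← Finset.mul_sum, ← Finset.mul_sum, Finset.sum_ite_eq,
          if_pos (Finset.mem_univ _), hd0, map_natCast]
        push_cast
        ring
      rw [hZe, classInner_add_left, classInner_add_right, classInner_add_right, hππ, hπX,
        ← classInner_conj_symm π X, hπX, map_zero, hXX]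
      linear_combination (e : ℂ) * hm
    have hcs := inner_sq_le (tildeFin L) (w i₀) (τ Z) fun g hg => hzero Z (by
      simpa [tildeFin] using hg)
    rw [hinner, hZZ] at hcs
    have hR1 : ((h : ℂ) * ((h : ℂ) - e)).re = (h : ℝ) * ((h : ℝ) - e) := by simp
    have hR2 : ‖(e : ℂ) - h‖ ^ 2 = ((h : ℝ) - e) ^ 2 := by
      rw [show (e : ℂ) - h = (((e : ℝ) - h : ℝ) : ℂ) by push_cast; rfl, Complex.norm_real,
        Real.norm_eq_abs, sq_abs]
      ring
    rw [hR1, hR2] at hcs
    have hpos : (0 : ℝ) < (h : ℝ) - e := sub_pos.2 (by exact_mod_cast hlt)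
    have hh0 : (0 : ℝ) < (h : ℝ) := lt_of_le_of_lt (Nat.cast_nonneg e) (by exact_mod_cast hlt)
    rw [show 1 - (e : ℝ) / h = ((h : ℝ) - e) / h by field_simp, div_le_iff₀ hh0]
    exact le_of_mul_le_mul_right (by linarith [sq ((h : ℝ) - e)]) hpos

end Cfsg.Agent.OddChar.P14
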