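/-
Peterfalvi section 14: the real virtual character `R = Ind_P^G (1 - φ_ψ) + ∑_a η a ψ` of one side of
a pair, with the congruence of its coefficients modulo `q` and the bound on their squares.
-/
import Cfsg.Agent.Lib.OddChar.P14.Base
import Cfsg.Agent.Lib.OddChar.P13.Coef

set_option autoImplicit false
set_option linter.unusedSectionVars false
set_option linter.unusedVariables false
set_option linter.deprecated false
set_option linter.style.haveILetI false

namespace Cfsg.Agent.OddChar.P14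

open scoped ComplexConjugate IsMulCommutative
open Cfsg.Agent.Char Cfsg.Agent.Char.CyclicTI Cfsg.Agent.OddChar.P13

universe u

variable {G : Type u} [Group G] [Fintype G] {S P U W₁ W₂ : Subgroup G}

theorem conjFun_indFun (H : Subgroup G) (θ : H → ℂ) :
    Cfsg.conjFun (Cfsg.indFun H θ) = Cfsg.indFun H (Cfsg.conjFun θ) := by
  classical
  funext g
  simp only [Cfsg.conjFun, indFun_apply, map_mul, map_inv₀, map_natCast, map_sum]
  refine congrArg _ (Finset.sum_congr rfl fun x _ => ?_)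
  by_cases hx : x⁻¹ * g * x ∈ H
  · rw [extendByZero_mem _ _ hx, extendByZero_mem _ _ hx]; rfl
  · rw [extendByZero_not_mem _ _ hx, extendByZero_not_mem _ _ hx, map_zero]

variable (D : Side S P U W₁ W₂) (hC : cpart P U = ⊥)
include D

theorem bf_one_apply (θ φ : hall P U →* ℂˣ) : bf θ φ 1 = 0 := by
  classical
  rw [bf, indFun_one_apply]
  simp [lf]

theorem phi_ne {ψ : W₂ →* ℂˣ} (hψ : ψ ≠ 1) : D.phi ψ ≠ 1 := fun h => hψ (by
  rw [← D.res₂_phi ψ, h]; rfl)

/-- The function `Ind_H^G (1 - φ_ψ)`. -/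
noncomputable def gfun (ψ : W₂ →* ℂˣ) : G → ℂ := bf (1 : hall P U →* ℂˣ) (D.phi ψ)

theorem conj_gfun (ψ : W₂ →* ℂˣ) : Cfsg.conjFun (gfun D ψ) = gfun D ψ⁻¹ := by
  rw [gfun, gfun, bf, bf, conjFun_indFun, D.phi_inv]
  refine congrArg _ (funext fun h => ?_)
  simp only [Cfsg.conjFun, Pi.sub_apply, map_sub, MonoidHom.one_apply, Units.val_one, map_one, lf]
  rw [lf_inv, MonoidHom.inv_apply, map_inv]

theorem gfun_one {ψ : W₂ →* ℂˣ} (hψ : ψ ≠ 1) :
    Cfsg.classInner (gfun D ψ) (fun _ => 1) = 1 := by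
  classical
  haveI : Fintype ↥(hall P U) := Fintype.ofFinite _
  rw [gfun, bf, classInner_indFun_left _ _ (fun _ _ => rfl), classInner_sub_left]
  have h1 : Cfsg.classInner (lf (D.phi ψ)) (fun _ => 1) = 0 := by
    simp [Cfsg.classInner, sum_lin (phi_ne D hψ), lf]
  rw [h1, sub_zero]
  simp [Cfsg.classInner, lf, Nat.card_eq_fintype_card]

include hC in
theorem gfun_norm {ψ : W₂ →* ℂˣ} (hψ : ψ ≠ 1) :
    Cfsg.classInner (gfun D ψ) (gfun D ψ) = (Nat.card U : ℂ) * Nat.card W₁ + Nat.card W₁ := by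
  have h0 : fixCount (hall P U) S (D.phi ψ) (1 : hall P U →* ℂˣ) = 0 := by
    refine fixCount_eq_zero fun s hs e => phi_ne D hψ ?_
    have := congrArg (cj (hall P U) s⁻¹) e
    rwa [cj_inv_cancel (D.mem_norm hs), cj_map_one] at this
  have h1 : fixCount (hall P U) S (1 : hall P U →* ℂˣ) (D.phi ψ) = 0 :=
    (fixCount_symm D.self_le_hall_norm _ _).trans h0
  have h2 : fixCount (hall P U) S (1 : hall P U →* ℂˣ) 1 = Nat.card S :=
    fixCount_self le_rfl fun s hs => ⟨fun _ => hs, fun _ => cj_map_one s⟩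
  rw [gfun, D.inner_bf, h0, h1, h2, D.fixCount_phi hψ]
  have hh : Nat.card ↥(hall P U) = Nat.card P := by rw [hall, hC, sup_bot_eq]
  rw [D.card_S, hh]
  have : (Nat.card P : ℂ) ≠ 0 := Nat.cast_ne_zero.mpr Nat.card_pos.ne'
  push_cast
  field_simp
  ring

variable {η : (W₁ →* ℂˣ) → (W₂ →* ℂˣ) → G → ℂ} (F : Fam W₁ W₂ η)
include F

/-- `R`. -/
noncomputable def rfun (D : Side S P U W₁ W₂) (η : (W₁ →* ℂˣ) → (W₂ →* ℂˣ) → G → ℂ)
    [Fintype (W₁ →* ℂˣ)] (ψ : W₂ →* ℂˣ) : G → ℂ :=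
  gfun D ψ + ∑ a, η a ψ

theorem rfun_eq [Fintype (W₁ →* ℂˣ)] {ψ ψ' : W₂ →* ℂˣ} (hψ : ψ ≠ 1) (hψ' : ψ' ≠ 1) :
    rfun D η ψ = rfun D η ψ' := by
  by_cases h : ψ = ψ'
  · rw [h]
  have h1 := D.bf_phi_phi F hψ hψ' h
  have h2 : gfun D ψ' - gfun D ψ = bf (D.phi ψ) (D.phi ψ') := by
    rw [gfun, gfun, ← bf_add (D.phi ψ) 1 (D.phi ψ')]
    have : bf (D.phi ψ) (1 : hall P U →* ℂˣ) = -bf (1 : hall P U →* ℂˣ) (D.phi ψ) := by
      rw [bf, bf, ← indFun_neg]
      exact congrArg _ (neg_sub _ _).symm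
    rw [this]
    abel
  rw [h1, Finset.sum_sub_distrib] at h2
  rw [rfun, rfun]
  linear_combination (norm := abel) -h2

theorem rfun_real [Fintype (W₁ →* ℂˣ)] (hodd : Odd (Nat.card G)) {ψ : W₂ →* ℂˣ} (hψ : ψ ≠ 1) :
    Cfsg.conjFun (rfun D η ψ) = rfun D η ψ := by
  have h : Cfsg.conjFun (rfun D η ψ) = rfun D η ψ⁻¹ := by
    funext g
    have hg := congrFun (conj_gfun D ψ) g
    simp only [Cfsg.conjFun] at hg
    simp only [Cfsg.conjFun, rfun, Pi.add_apply, Finset.sum_apply, map_add, map_sum, hg]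
    refine congrArg _ (Fintype.sum_equiv (Equiv.inv (W₁ →* ℂˣ)) _ _ fun a => ?_)
    exact congrFun (eta_conj F D.selfN hodd a ψ) g
  rw [h]
  exact rfun_eq D F (fun e => hψ (hom_inv_one.mp e)) hψ

theorem rfun_one [Fintype (W₁ →* ℂˣ)] {ψ : W₂ →* ℂˣ} (hψ : ψ ≠ 1) :
    Cfsg.classInner (rfun D η ψ) (fun _ => 1) = 1 := by
  rw [rfun, classInner_add_left, gfun_one D hψ, classInner_sum_left, Finset.sum_eq_zero, add_zero]
  intro a _
  rw [← F.one]
  exact (F.orth a ψ 1 1).resolve_left fun e => hψ e.2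

omit F in
open Classical in
/-- `Ind_H^G (1 - φ_ψ)` against `χ`, modulo `q`. -/
theorem gfun_congr {ψ : W₂ →* ℂˣ} (hψ : ψ ≠ 1) {χ : G → ℂ} (hχ : Cfsg.IsGeneralizedCharacter G χ)
    [Fintype W₁] [Fintype W₂] :
    ∃ n m : ℤ, Cfsg.classInner (gfun D ψ) χ = n ∧
      (Nat.card W₁ : ℂ) * m = n + (Nat.card W₂ : ℂ)⁻¹ *
        ∑ x ∈ Finset.univ.filter (fun x : W₁ => x ≠ 1),
          ∑ y : W₂, χ ((x : G) * y) * (1 - conj (ψ y : ℂ)) := by
  classical
  haveI := isMulCommutative2 D.selfN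
  haveI : IsMulCommutative ↥(hall P U) :=
    ⟨⟨fun a b => Subtype.ext (D.hall_comm a a.2 b b.2)⟩⟩
  haveI := finite_dual ↥(hall P U)
  haveI := finite_dual W₂
  haveI : Fintype (hall P U →* ℂˣ) := Fintype.ofFinite _
  haveI : Fintype (W₂ →* ℂˣ) := Fintype.ofFinite _
  haveI : Fintype ↥(hall P U) := Fintype.ofFinite _
  haveI : Fintype ↥(W₁ ⊔ W₂) := Fintype.ofFinite _
  haveI : Fact (Nat.card W₁).Prime := ⟨D.q_prime⟩
  choose m hm using fun θ : hall P U →* ℂˣ => coef_int hχ θ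
  have hcls := IsGeneralizedCharacter.isClassFunction hχ
  -- the coefficients at the fixed characters
  have hn : Cfsg.classInner (gfun D ψ) χ = ((m 1 - m (D.phi ψ) : ℤ) : ℂ) := by
    have h := coef_sub hcls (1 : hall P U →* ℂˣ) (D.phi ψ)
    rw [hm, hm] at h
    have h' := congrArg conj h
    rw [Complex.conj_conj, map_sub, map_intCast, map_intCast] at h'
    rw [gfun, ← h']
    push_cast
    rfl
  have hinv : ∀ s ∈ S, ∀ θ, m (cj (hall P U) s θ) = m θ := by
    intro s hs θ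
    have h1 := coef_sub hcls (cj (hall P U) s θ) 1
    rw [D.bf_conj θ 1 hs, ← coef_sub hcls θ 1, hm, hm, hm] at h1
    exact_mod_cast (sub_left_inj.mp h1)
  -- restriction to `W₂`
  have hres : ∀ χ₂ : W₂ →* ℂˣ, Cfsg.classInner (fun y : W₂ => χ (y : G)) (lf χ₂) =
      ((∑ θ ∈ Finset.univ.filter (fun θ => D.res₂ θ = χ₂), m θ : ℤ) : ℂ) := by
    intro χ₂
    have e : (fun y : W₂ => χ (y : G)) = ∑ θ : hall P U →* ℂˣ, (m θ : ℂ) • lf (D.res₂ θ) := by
      funext y
      have := inversion (fun h : hall P U => χ (h : G)) (Subgroup.inclusion (D.W₂_le.trans D.P_le_hall) y)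
      rw [Finset.sum_apply]
      refine this.trans (Finset.sum_congr rfl fun θ _ => ?_)
      show coef χ θ * _ = _
      rw [hm]
      rfl
    rw [e, classInner_sum_left, Int.cast_sum, Finset.sum_filter]
    refine Finset.sum_congr rfl fun θ _ => ?_
    rw [classInner_smul_left, classInner_lin]
    split_ifs <;> simp
  have hmod : ∀ χ₂ : W₂ →* ℂˣ, ((Nat.card W₁ : ℤ)) ∣
      (∑ θ ∈ Finset.univ.filter (fun θ => D.res₂ θ = χ₂), m θ) - m (D.phi χ₂) := by
    intro χ₂
    set T := Finset.univ.filter (fun θ : hall P U →* ℂˣ => D.res₂ θ = χ₂) with hT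
    rw [← ZMod.intCast_zmod_eq_zero_iff_dvd, Int.cast_sub, Int.cast_sum, sub_eq_zero,
      ← Finset.sum_fiberwise_of_maps_to (g := m) (t := T.image m) (fun θ h => Finset.mem_image_of_mem m h)]
    have hphi : D.phi χ₂ ∈ T := Finset.mem_filter.mpr ⟨Finset.mem_univ _, D.res₂_phi χ₂⟩
    rw [Finset.sum_eq_single (m (D.phi χ₂))]
    rotate_left
    · intro v _ hv
      rw [Finset.sum_congr rfl (g := fun _ => (v : ZMod (Nat.card W₁))) (fun θ hθ => by
        rw [(Finset.mem_filter.mp hθ).2]), Finset.sum_const, nsmul_eq_mul]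
      suffices ((T.filter fun θ => m θ = v).card : ZMod (Nat.card W₁)) = 0 by rw [this, zero_mul]
      rw [ZMod.natCast_eq_zero_iff]
      set X := {θ // θ ∈ T.filter fun θ => m θ = v}
      have hcl : ∀ w : W₁, ∀ θ, θ ∈ (T.filter fun θ => m θ = v) →
          cj (hall P U) (w : G) θ ∈ (T.filter fun θ => m θ = v) := by
        intro w θ hθ
        simp only [hT, Finset.mem_filter, Finset.mem_univ, true_and] at hθ ⊢
        refine ⟨?_, by rw [hinv _ (D.W₁_le w.2), hθ.2]⟩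
        refine Eq.trans (MonoidHom.ext fun y => ?_) hθ.1
        refine cj_apply' (D.mem_norm (D.W₁_le w.2)) θ _ _ ?_
        show (y : G) = (w : G) * y * (w : G)⁻¹
        rw [D.selfN.2.2.2.1 w w.2 y y.2, mul_inv_cancel_right]
      letI : MulAction W₁ X :=
        { smul := fun w x => ⟨cj (hall P U) ((w⁻¹ : W₁) : G) x.1, hcl w⁻¹ x.1 x.2⟩
          one_smul := fun x => Subtype.ext (by
            show cj (hall P U) (((1 : W₁)⁻¹ : W₁) : G) x.1 = x.1
            rw [inv_one, Subgroup.coe_one, cj_one])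
          mul_smul := fun a b x => Subtype.ext (by
            show cj (hall P U) (((a * b)⁻¹ : W₁) : G) x.1 =
              cj (hall P U) ((a⁻¹ : W₁) : G) (cj (hall P U) ((b⁻¹ : W₁) : G) x.1)
            rw [mul_inv_rev, Subgroup.coe_mul,
              cj_mul (D.mem_norm (D.W₁_le (b⁻¹).2)) (D.mem_norm (D.W₁_le (a⁻¹).2))]) }
      have hp : IsPGroup (Nat.card W₁) W₁ := IsPGroup.of_card (pow_one _).symm
      have h := hp.card_modEq_card_fixedPoints X
      haveI : IsEmpty (MulAction.fixedPoints W₁ X) := ⟨fun x => by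
        have hfix : D.IsFixed x.1.1 := fun w hw => by
          have := congrArg Subtype.val (x.2 (⟨w, hw⟩ : W₁)⁻¹)
          have e : cj (hall P U) (((⟨w, hw⟩ : W₁)⁻¹⁻¹ : W₁) : G) x.1.1 = x.1.1 := this
          rwa [inv_inv] at e
        have h2 := x.1.2
        simp only [hT, Finset.mem_filter, Finset.mem_univ, true_and] at h2
        refine hv ?_
        rw [← h2.2, D.eq_phi hfix, h2.1]⟩
      rw [@Nat.card_of_isEmpty (MulAction.fixedPoints W₁ X) _, Nat.card_eq_finsetCard] at h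
      exact Nat.modEq_zero_iff_dvd.mp h
    · intro h
      exact absurd (Finset.mem_image_of_mem m hphi) h
    rw [Finset.sum_congr rfl (g := fun _ => (m (D.phi χ₂) : ZMod (Nat.card W₁))) (fun θ hθ => by
      rw [(Finset.mem_filter.mp hθ).2]), Finset.sum_const, nsmul_eq_mul]
    suffices ((T.filter fun θ => m θ = m (D.phi χ₂)).card : ZMod (Nat.card W₁)) = 1 by
      rw [this, one_mul]
    rw [← Nat.cast_one, ZMod.natCast_eq_natCast_iff]
    set X := {θ // θ ∈ T.filter fun θ => m θ = m (D.phi χ₂)}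
    have hcl : ∀ w : W₁, ∀ θ, θ ∈ (T.filter fun θ => m θ = m (D.phi χ₂)) →
        cj (hall P U) (w : G) θ ∈ (T.filter fun θ => m θ = m (D.phi χ₂)) := by
      intro w θ hθ
      simp only [hT, Finset.mem_filter, Finset.mem_univ, true_and] at hθ ⊢
      refine ⟨?_, by rw [hinv _ (D.W₁_le w.2), hθ.2]⟩
      refine Eq.trans (MonoidHom.ext fun y => ?_) hθ.1
      refine cj_apply' (D.mem_norm (D.W₁_le w.2)) θ _ _ ?_
      show (y : G) = (w : G) * y * (w : G)⁻¹
      rw [D.selfN.2.2.2.1 w w.2 y y.2, mul_inv_cancel_right]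
    letI : MulAction W₁ X :=
      { smul := fun w x => ⟨cj (hall P U) ((w⁻¹ : W₁) : G) x.1, hcl w⁻¹ x.1 x.2⟩
        one_smul := fun x => Subtype.ext (by
          show cj (hall P U) (((1 : W₁)⁻¹ : W₁) : G) x.1 = x.1
          rw [inv_one, Subgroup.coe_one, cj_one])
        mul_smul := fun a b x => Subtype.ext (by
          show cj (hall P U) (((a * b)⁻¹ : W₁) : G) x.1 =
            cj (hall P U) ((a⁻¹ : W₁) : G) (cj (hall P U) ((b⁻¹ : W₁) : G) x.1)
          rw [mul_inv_rev, Subgroup.coe_mul,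
            cj_mul (D.mem_norm (D.W₁_le (b⁻¹).2)) (D.mem_norm (D.W₁_le (a⁻¹).2))]) }
    have hp : IsPGroup (Nat.card W₁) W₁ := IsPGroup.of_card (pow_one _).symm
    have h := hp.card_modEq_card_fixedPoints X
    have hpm : D.phi χ₂ ∈ T.filter fun θ => m θ = m (D.phi χ₂) :=
      Finset.mem_filter.mpr ⟨hphi, rfl⟩
    have hone : Nat.card (MulAction.fixedPoints W₁ X) = 1 := by
      rw [Nat.card_eq_one_iff_unique]
      refine ⟨⟨fun x x' => ?_⟩, ⟨⟨⟨_, hpm⟩, fun w => Subtype.ext (D.phi_fixed χ₂ _ (w⁻¹).2)⟩⟩⟩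
      have key : ∀ x : MulAction.fixedPoints W₁ X, x.1.1 = D.phi χ₂ := fun x => by
        have hfix : D.IsFixed x.1.1 := fun w hw => by
          have := congrArg Subtype.val (x.2 (⟨w, hw⟩ : W₁)⁻¹)
          have e : cj (hall P U) (((⟨w, hw⟩ : W₁)⁻¹⁻¹ : W₁) : G) x.1.1 = x.1.1 := this
          rwa [inv_inv] at e
        have h2 := x.1.2
        simp only [hT, Finset.mem_filter, Finset.mem_univ, true_and] at h2
        rw [D.eq_phi hfix, h2.1]
      exact Subtype.ext (Subtype.ext ((key x).trans (key x').symm))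
    rw [hone, Nat.card_eq_finsetCard] at h
    exact h
  obtain ⟨k₁, hk₁⟩ := hmod 1
  obtain ⟨k₂, hk₂⟩ := hmod ψ
  rw [D.phi_one] at hk₁
  -- integrality on `W₁ W₂`
  have Sp := split_of D.selfN
  obtain ⟨r, hr⟩ := IsGeneralizedCharacter.exists_classInner_int
    (IsGeneralizedCharacter.restrict hχ (W₁ ⊔ W₂))
    (IsGeneralizedCharacter.sub
      (IsGeneralizedCharacter.of_isCharacter (IsIrrCharacter.isCharacter
        (isIrrCharacter_linear (1 : ↥(W₁ ⊔ W₂) →* ℂˣ))))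
      (IsGeneralizedCharacter.of_isCharacter (IsIrrCharacter.isCharacter
        (isIrrCharacter_linear (pull2 Sp ψ)))))
  have hW : (Nat.card W₁ : ℂ) * Nat.card W₂ * r =
      ∑ x : W₁, ∑ y : W₂, χ ((x : G) * y) * (1 - conj (ψ y : ℂ)) := by
    have hne : (Nat.card ↥(W₁ ⊔ W₂) : ℂ) ≠ 0 := Nat.cast_ne_zero.mpr Nat.card_pos.ne'
    rw [← hr, ← Nat.cast_mul, ← Nat.card_prod, Nat.card_congr (prodIso Sp).toEquiv, Cfsg.classInner,
      ← mul_assoc, mul_inv_cancel₀ hne, one_mul, ← Fintype.sum_prod_type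
        (f := fun z : W₁ × W₂ => χ ((z.1 : G) * z.2) * (1 - conj (ψ z.2 : ℂ)))]
    refine (Fintype.sum_equiv (prodIso Sp).toEquiv _ _ fun z => ?_).symm
    have e : ((prodIso Sp z : ↥(W₁ ⊔ W₂)) : G) = (z.1 : G) * z.2 := rfl
    have e2 : pull2 Sp ψ (prodIso Sp z) = ψ z.2 := by
      rw [show prodIso Sp z = inc1 W₁ W₂ z.1 * inc2 W₁ W₂ z.2 from Subtype.ext e, map_mul]
      simp [pull2]
    show _ = χ ((prodIso Sp z : ↥(W₁ ⊔ W₂)) : G) * _
    simp only [Pi.sub_apply, lf, MulEquiv.toEquiv_eq_coe, EquivLike.coe_coe, MonoidHom.one_apply,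
      Units.val_one, e2, map_sub, map_one]
    rw [e]
  have hS : ∑ y : W₂, χ (y : G) * (1 - conj (ψ y : ℂ)) = (Nat.card W₂ : ℂ) *
      ((((m 1 : ℤ) : ℂ) + (Nat.card W₁ : ℂ) * k₁) - ((m (D.phi ψ) : ℤ) + (Nat.card W₁ : ℂ) * k₂)) := by
    have h1 := hres 1
    have h2 := hres ψ
    rw [show (∑ θ ∈ Finset.univ.filter (fun θ => D.res₂ θ = 1), m θ) =
      m 1 + (Nat.card W₁ : ℤ) * k₁ by linear_combination hk₁] at h1
    rw [show (∑ θ ∈ Finset.univ.filter (fun θ => D.res₂ θ = ψ), m θ) =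
      m (D.phi ψ) + (Nat.card W₁ : ℤ) * k₂ by linear_combination hk₂] at h2
    push_cast at h1 h2
    rw [← h1, ← h2, Cfsg.classInner, Cfsg.classInner, ← mul_sub, ← Finset.sum_sub_distrib, ← mul_assoc,
      mul_inv_cancel₀ (Nat.cast_ne_zero.mpr Nat.card_pos.ne'), one_mul]
    refine Finset.sum_congr rfl fun y _ => ?_
    simp [lf]
    ring
  refine ⟨m 1 - m (D.phi ψ), r - k₁ + k₂, hn, ?_⟩
  rw [← Finset.add_sum_erase _ _ (Finset.mem_univ (1 : W₁))] at hW
  rw [show Finset.univ.filter (fun x : W₁ => x ≠ 1) = Finset.univ.erase 1 by ext x; simp]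
  simp only [Subgroup.coe_one, one_mul] at hW
  rw [hS] at hW
  have hp0 : (Nat.card W₂ : ℂ) ≠ 0 := Nat.cast_ne_zero.mpr Nat.card_pos.ne'
  push_cast
  field_simp
  linear_combination hW

/-- Coefficients on functions orthogonal to the family: multiples of `q`, with bounded squares. -/
theorem gfun_bound (hC : cpart P U = ⊥) (hodd : Odd (Nat.card G)) {ψ : W₂ →* ℂˣ} (hψ : ψ ≠ 1)
    {ι : Type*} [Fintype ι] [DecidableEq ι] (w : ι → G → ℂ) (hw : ∀ i, SignIrr (w i))
    (horth : ∀ i j, Cfsg.classInner (w i) (w j) = if i = j then 1 else 0)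
    (hwη : ∀ i a b, Cfsg.classInner (w i) (η a b) = 0) :
    (∀ i, ∃ n : ℤ, Cfsg.classInner (gfun D ψ) (w i) = (((Nat.card W₁ : ℤ) * n : ℤ) : ℂ)) ∧
      ∑ i, ‖Cfsg.classInner (gfun D ψ) (w i)‖ ^ 2 ≤
        (Nat.card W₁ : ℝ) * (Nat.card U : ℝ) - (Nat.card W₁ : ℝ) := by
  classical
  haveI := isMulCommutative1 D.selfN
  haveI := isMulCommutative2 D.selfN
  haveI := finite_dual W₁
  haveI := finite_dual W₂
  haveI : Fintype (W₁ →* ℂˣ) := Fintype.ofFinite _
  haveI : Fintype (W₂ →* ℂˣ) := Fintype.ofFinite _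
  haveI : Fintype W₁ := Fintype.ofFinite _
  haveI : Fintype W₂ := Fintype.ofFinite _
  refine ⟨fun i => ?_, ?_⟩
  · obtain ⟨n, m, h1, h2⟩ := gfun_congr D hψ (SignIrr_isGen (hw i))
    refine ⟨m, ?_⟩
    rw [h1]
    push_cast
    rw [h2, Finset.sum_eq_zero, mul_zero, add_zero]
    intro x hx
    refine Finset.sum_eq_zero fun y _ => ?_
    by_cases hy : y = 1
    · subst hy; simp
    · rw [zero_on_V F D.selfN hodd (SignIrr.isClassFunction (hw i)) (hwη i) x y
        (Finset.mem_filter.mp hx).2 hy, zero_mul]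
  set R := rfun D η ψ with hR
  set q := Nat.card W₁ with hq
  have hgenR : Cfsg.IsGeneralizedCharacter G R :=
    IsGeneralizedCharacter.add (bf_isGen _ _)
      (isGeneralizedCharacter_sum _ fun a _ => eta_gen F a ψ)
  choose c hc using fun a b => IsGeneralizedCharacter.exists_classInner_int hgenR (eta_gen F a b)
  have hηs : ∀ χ a b, b ≠ 1 → Cfsg.classInner (∑ a', η a' χ) (η a b) = if b = χ then (1:ℂ) else 0 := by
    intro χ a b _
    rw [classInner_sum_left, Finset.sum_eq_single a]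
    · rw [inner_eta F]; simp [eq_comm]
    · intro a' _ h'; rw [inner_eta F]; simp [h']
    · simp
  have hgη : ∀ χ, χ ≠ 1 → ∀ a b, Cfsg.classInner (gfun D χ) (η a b) =
      c a b - if b = χ then 1 else 0 := by
    intro χ hχ a b
    have e : gfun D χ = R - ∑ a', η a' χ := by rw [hR, rfun_eq D F hψ hχ, rfun]; abel
    rw [e, classInner_sub_left, hc]
    congr 1
    rw [classInner_sum_left, Finset.sum_eq_single a]
    · rw [inner_eta F]; simp [eq_comm]
    · intro a' _ h'; rw [inner_eta F]; simp [h']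
    · simp
  have h11 : c 1 1 = 1 := by
    have h := rfun_one D F hψ
    rw [← F.one, ← hR, hc] at h
    exact_mod_cast h
  have hgrid : ∀ a b, b ≠ 1 → c a b = c a 1 + c 1 b - 1 := by
    intro a b hb
    obtain ⟨χ, hχ1, hχb⟩ : ∃ χ : W₂ →* ℂˣ, χ ≠ 1 ∧ χ ≠ b :=
      exists_third (three_le_hom hodd D.selfN.2.1) 1 b
    have h := F.grid (gfun D χ) (IsGeneralizedCharacter.isClassFunction (bf_isGen _ _))
      (D.bf_reg _ _) a b
    rw [hgη χ hχ1, hgη χ hχ1, hgη χ hχ1, hgη χ hχ1, if_neg (Ne.symm hχb), if_neg hχ1.symm] at h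
    rw [h11] at h
    push_cast at h
    simp only [sub_zero] at h
    exact_mod_cast h
  -- the norm of `R`, for every `χ`
  have hnorm : ∀ χ, χ ≠ 1 → Cfsg.classInner R R =
      (Nat.card U : ℂ) * q + 2 * ∑ a, (c a χ : ℂ) := by
    intro χ hχ
    have e : R = gfun D χ + ∑ a, η a χ := by rw [hR, rfun_eq D F hψ hχ, rfun]
    have h1 : Cfsg.classInner (gfun D χ) (∑ a, η a χ) = ∑ a, (c a χ : ℂ) - q := by
      rw [classInner_sum_right, Finset.sum_congr rfl (fun a _ => hgη χ hχ a χ)]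
      simp only [if_true, Finset.sum_sub_distrib, Finset.sum_const, Finset.card_univ, nsmul_eq_mul,
        mul_one]
      rw [← Nat.card_eq_fintype_card, card_hom]
    have h2 : Cfsg.classInner (∑ a, η a χ) (∑ a, η a χ) = q := by
      rw [classInner_sum_right, Finset.sum_congr rfl (fun a _ => by rw [hηs χ a χ hχ, if_pos rfl])]
      simp only [Finset.sum_const, Finset.card_univ, nsmul_eq_mul, mul_one]
      rw [← Nat.card_eq_fintype_card, card_hom]
    conv_lhs => rw [e]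
    rw [classInner_add_left, classInner_add_right, classInner_add_right, gfun_norm D hC hχ, h1, h2,
      ← classInner_conj_symm (gfun D χ) (∑ a, η a χ), h1]
    simp only [map_sub, map_sum, map_intCast, map_natCast]
    ring
  set d := c 1 ψ with hd
  have hqcard : Fintype.card (W₁ →* ℂˣ) = q := by rw [← Nat.card_eq_fintype_card, card_hom]
  have hdconst : ∀ b, b ≠ 1 → c 1 b = d := by
    intro b hb
    have h := (hnorm b hb).symm.trans (hnorm ψ hψ)
    have h' : ∑ a, (c a b : ℂ) = ∑ a, (c a ψ : ℂ) := by linear_combination h / 2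
    have h'' : ∑ a, c a b = ∑ a, c a ψ := by exact_mod_cast h'
    rw [Finset.sum_congr rfl (fun a _ => hgrid a b hb), Finset.sum_congr rfl (fun a _ => hgrid a ψ hψ)]
      at h''
    simp only [Finset.sum_sub_distrib, Finset.sum_add_distrib,
      Finset.sum_const, Finset.card_univ, hqcard, nsmul_eq_mul] at h''
    have h3 : (q : ℤ) * c 1 b = (q : ℤ) * d := by linarith
    exact mul_left_cancel₀ (by exact_mod_cast Nat.card_pos.ne') h3
  -- `d ≡ 0` modulo `q`
  have hdq : (q : ℤ) ∣ d := by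
    obtain ⟨n, m, h1, h2⟩ := gfun_congr D hψ (eta_gen F 1 ψ)
    rw [hgη ψ hψ, if_pos rfl] at h1
    have hn : n = d - 1 := by rw [hd]; exact_mod_cast h1.symm
    have hsum : ∀ x : W₁, x ≠ 1 →
        ∑ y : W₂, η 1 ψ ((x : G) * y) * (1 - conj (ψ y : ℂ)) = -(Nat.card W₂ : ℂ) := by
      intro x hx
      have e : ∀ y : W₂, η 1 ψ ((x : G) * y) * (1 - conj (ψ y : ℂ)) =
          (ψ y : ℂ) - 1 := by
        intro y
        by_cases hy : y = 1
        · subst hy; simp
        rw [F.value 1 ψ x y hx hy, lf_inv, map_inv, MonoidHom.one_apply, Units.val_one, one_mul,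
          mul_sub, mul_one, ← Units.val_mul, mul_inv_cancel, Units.val_one]
      rw [Finset.sum_congr rfl fun y _ => e y, Finset.sum_sub_distrib, sum_lin hψ]
      simp [Nat.card_eq_fintype_card]
    rw [Finset.sum_congr rfl (fun x hx => hsum x (Finset.mem_filter.mp hx).2), Finset.sum_const,
      show Finset.univ.filter (fun x : W₁ => x ≠ 1) = Finset.univ.erase 1 by ext x; simp,
      Finset.card_erase_of_mem (Finset.mem_univ _), Finset.card_univ, ← Nat.card_eq_fintype_card,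
      nsmul_eq_mul, Nat.cast_sub Nat.card_pos, Nat.cast_one, hn] at h2
    have hp0 : (Nat.card W₂ : ℂ) ≠ 0 := Nat.cast_ne_zero.mpr Nat.card_pos.ne'
    field_simp at h2
    refine ⟨m + 1, ?_⟩
    have h4 : (q : ℂ) * m = (d : ℂ) - q := by
      push_cast at h2
      rw [← hq] at h2
      linear_combination h2
    have h5 : (q : ℤ) * m = d - q := by exact_mod_cast h4
    linarith
  -- Bessel
  have hR' : ∀ i, Cfsg.classInner R (w i) = Cfsg.classInner (gfun D ψ) (w i) := fun i => by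
    rw [hR, rfun, classInner_add_left, classInner_sum_left, Finset.sum_eq_zero, add_zero]
    intro a _
    rw [← classInner_conj_symm (w i) (η a ψ), hwη, map_zero]
  have hb := P13.bessel R (Sum.elim (fun z : (W₁ →* ℂˣ) × (W₂ →* ℂˣ) => η z.1 z.2) w) (by
    rintro (⟨a, b⟩ | i) (⟨a', b'⟩ | j) <;> simp only [Sum.elim_inl, Sum.elim_inr]
    · rw [inner_eta F]; simp [Prod.ext_iff]
    · rw [← classInner_conj_symm (w j) (η a b), hwη, map_zero]; simp
    · rw [hwη]; simp
    · rw [horth]; simp)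
  rw [Fintype.sum_sum_type, Fintype.sum_prod_type] at hb
  simp only [Sum.elim_inl, Sum.elim_inr, hc, Complex.norm_intCast, sq_abs, hR'] at hb
  have hre : (Cfsg.classInner R R).re = (Nat.card U : ℝ) * q + 2 * ∑ a, (c a ψ : ℝ) := by
    rw [hnorm ψ hψ, show (Nat.card U : ℂ) * q + 2 * ∑ a, (c a ψ : ℂ) =
      (((Nat.card U : ℝ) * q + 2 * ∑ a, (c a ψ : ℝ) : ℝ) : ℂ) by push_cast; rfl, Complex.ofReal_re]
  rw [hre] at hb
  have hp3 : (3 : ℤ) ≤ Nat.card W₂ := by exact_mod_cast D.three_le_p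
  have hkey : (q : ℤ) + 2 * ∑ a, c a ψ ≤ ∑ a, ∑ b, c a b ^ 2 := by
    have hrow : ∀ a, ∑ b, c a b ^ 2 =
        c a 1 ^ 2 + ((Nat.card W₂ : ℤ) - 1) * (c a 1 + d - 1) ^ 2 := by
      intro a
      rw [← Finset.add_sum_erase _ _ (Finset.mem_univ (1 : W₂ →* ℂˣ))]
      congr 1
      rw [Finset.sum_congr rfl (g := fun _ => (c a 1 + d - 1) ^ 2) (fun b hb' => by
        rw [hgrid a b (Finset.ne_of_mem_erase hb'), hdconst b (Finset.ne_of_mem_erase hb')]),
        Finset.sum_const, Finset.card_erase_of_mem (Finset.mem_univ _), Finset.card_univ,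
        ← Nat.card_eq_fintype_card, card_hom, nsmul_eq_mul, Nat.cast_sub Nat.card_pos]
      simp
    rw [Finset.sum_congr rfl fun a _ => hrow a, Finset.mul_sum, ← hqcard, ← Finset.card_univ,
      Finset.card_eq_sum_ones, Nat.cast_sum, ← Finset.sum_add_distrib,
      ← Finset.add_sum_erase _ _ (Finset.mem_univ (1 : W₁ →* ℂˣ)),
      ← Finset.add_sum_erase _ (fun a => c a 1 ^ 2 + _) (Finset.mem_univ (1 : W₁ →* ℂˣ))]
    have h2 : ((Finset.univ.erase (1 : W₁ →* ℂˣ)).card : ℤ) = q - 1 := by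
      rw [Finset.card_erase_of_mem (Finset.mem_univ _), Finset.card_univ, hqcard,
        Nat.cast_sub Nat.card_pos, Nat.cast_one]
    have hterm : ∀ a, ((1 : ℕ) : ℤ) + 2 * c a ψ + (-2 * d) ≤
        c a 1 ^ 2 + ((Nat.card W₂ : ℤ) - 1) * (c a 1 + d - 1) ^ 2 := by
      intro a
      rw [hgrid a ψ hψ, ← hd]
      have := mul_nonneg (by linarith : (0:ℤ) ≤ (Nat.card W₂ : ℤ) - 1) (sq_nonneg (c a 1 + d - 1))
      push_cast
      nlinarith [sq_nonneg (c a 1 - 1)]
    have h3 := Finset.sum_le_sum (s := Finset.univ.erase (1 : W₁ →* ℂˣ)) (fun a _ => hterm a)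
    rw [Finset.sum_add_distrib, Finset.sum_const, nsmul_eq_mul, h2] at h3
    rw [h11, hgrid 1 ψ hψ, h11, ← hd]
    push_cast at h3 ⊢
    have hd0 : 2 * (q : ℤ) * d ≤ ((Nat.card W₂ : ℤ) - 1) * d ^ 2 := by
      obtain ⟨k, hk⟩ := hdq
      rcases eq_or_ne k 0 with h0 | h0
      · rw [hk, h0]; simp
      · have h1 : (q : ℤ) ≤ |d| := by
          rw [hk, abs_mul, Nat.abs_cast]
          exact le_mul_of_one_le_right (Nat.cast_nonneg q) (Int.one_le_abs h0)
        nlinarith [mul_le_mul_of_nonneg_left h1 (abs_nonneg d), sq_abs d, le_abs_self d,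
          mul_le_mul_of_nonneg_right (by linarith : (2:ℤ) ≤ (Nat.card W₂ : ℤ) - 1) (sq_nonneg d)]
    nlinarith
  have hkey' : (q : ℝ) + 2 * ∑ a, (c a ψ : ℝ) ≤ ∑ a, ∑ b, (c a b : ℝ) ^ 2 := by exact_mod_cast hkey
  nlinarith

end Cfsg.Agent.OddChar.P14
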