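/-
Peterfalvi section 14: the coefficients of `Φ` on the family `η` and the bounds they give.
-/
import Cfsg.Agent.Lib.OddChar.P14.LBlock
import Cfsg.Agent.Lib.OddChar.P14.SideProbe

set_option autoImplicit false
set_option linter.unusedSectionVars false
set_option linter.unusedVariables false
set_option linter.style.haveILetI false

namespace Cfsg.Agent.OddChar.P14

open scoped ComplexConjugate IsMulCommutative
open Cfsg.Agent.Char Cfsg.Agent.Char.CyclicTI Cfsg.Agent.OddChar.P13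

universe u v

variable {G : Type u} [Group G] [Fintype G]

/-- A function with as much mass as its coefficients is their combination. -/
theorem eq_of_bessel {ι : Type v} [Fintype ι] [DecidableEq ι] (f : G → ℂ) (e : ι → G → ℂ)
    (he : ∀ i j, Cfsg.classInner (e i) (e j) = if i = j then 1 else 0)
    (hle : (Cfsg.classInner f f).re ≤ ∑ i, ‖Cfsg.classInner f (e i)‖ ^ 2) :
    f = ∑ i, Cfsg.classInner f (e i) • e i := by
  set c : ι → ℂ := fun i => Cfsg.classInner f (e i) with hc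
  set r : G → ℂ := f - ∑ i, c i • e i with hr
  have a0 : ∀ j, Cfsg.classInner (∑ i, c i • e i) (e j) = c j := fun j => by
    rw [classInner_sum_left, Finset.sum_eq_single j]
    · rw [classInner_smul_left, he, if_pos rfl, mul_one]
    · intro i _ hi
      rw [classInner_smul_left, he, if_neg hi, mul_zero]
    · simp
  have hre : ∀ j, Cfsg.classInner r (e j) = 0 := fun j => by
    rw [hr, classInner_sub_left, a0, hc, sub_self]
  have h1 : Cfsg.classInner r r = Cfsg.classInner f f - ∑ i, c i * conj (c i) := by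
    conv_lhs => arg 2; rw [hr]
    rw [classInner_sub_right, classInner_sum_right, Finset.sum_eq_zero (fun i _ => by
      rw [classInner_smul_right, hre, mul_zero]), sub_zero, hr, classInner_sub_left, classInner_sum_left]
    congr 1
    refine Finset.sum_congr rfl fun i _ => ?_
    rw [classInner_smul_left, ← classInner_conj_symm f (e i)]
  have h3 : (∑ i, c i * conj (c i)).re = ∑ i, ‖c i‖ ^ 2 := by
    rw [Complex.re_sum]
    exact Finset.sum_congr rfl fun i _ => by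
      rw [Complex.mul_conj, Complex.ofReal_re, Complex.normSq_eq_norm_sq]
  have h2 : (Cfsg.classInner r r).re = 0 := le_antisymm
    (by rw [h1, Complex.sub_re, h3]; linarith) (classInner_self_nonneg r)
  have h4 : r = 0 := by
    refine classInner_self_eq_zero ?_
    obtain ⟨x, hx⟩ : ∃ x : ℝ, Cfsg.classInner r r = (x : ℂ) := ⟨mass Finset.univ r, by
      simp only [Cfsg.classInner, mass, Complex.mul_conj, Complex.normSq_eq_norm_sq]
      push_cast
      rfl⟩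
    rw [hx, Complex.ofReal_re] at h2
    rw [hx, h2, Complex.ofReal_zero]
  exact sub_eq_zero.1 (by rw [← hr]; exact h4)

/-- `1 + 2 α` is not `0` for an algebraic integer `α`. -/
theorem one_add_two_ne_zero {α : ℂ} (hα : IsIntegral ℤ α) : 1 + 2 * α ≠ 0 := by
  intro h
  have h1 : α = ((-1 / 2 : ℚ) : ℂ) := by push_cast; linear_combination h / 2
  rw [h1] at hα
  obtain ⟨n, hn⟩ := exists_int_of_isIntegral hα
  have h2 : 2 * n = -1 := by
    have : (2 : ℚ) * (n : ℚ) = -1 := by rw [← hn]; norm_num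
    exact_mod_cast this
  omega

/-! ## Elements of `L̃` -/

variable (hG : Cfsg.IsMinSimpleOddOrder G) {L : Subgroup G} (hL : P12.FrobOne L)
include hG hL

/-- The order of an element of `L̃` has a prime in common with `|H|`. -/
theorem exists_prime_of_mem_tilde {g : G} (hg : g ∈ tilde L) :
    ∃ r : ℕ, r.Prime ∧ r ∣ Nat.card (Cfsg.fittingHallOf L) ∧ r ∣ orderOf g := by
  haveI : Fintype L := Fintype.ofFinite L
  obtain ⟨a, ⟨ha, ha1⟩, u, hu, y, rfl⟩ := hg
  have hD := P12.dade_hyp hG hL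
  have haH : a ∈ Cfsg.fittingHallOf L := by rw [P12.fitting_eq_sigma hG hL]; exact ha
  have haA : a ∈ Cfsg.typeA L := (P12.mem_typeA_iff hG hL).2 ⟨haH, ha1⟩
  have hcom : Commute a u :=
    (Subgroup.mem_centralizer_singleton_iff.1 (hD.le_centralizer a haA hu)).symm
  have hcop : (orderOf a).Coprime (orderOf u) := by
    refine Nat.Coprime.symm (Nat.Coprime.coprime_dvd_left (Subgroup.orderOf_dvd_natCard _ hu) ?_)
    refine (hD.coprime a haA a haA).coprime_dvd_right (Subgroup.orderOf_dvd_natCard _ ?_)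
    exact ⟨hD.subset haA, Subgroup.mem_centralizer_singleton_iff.2 rfl⟩
  have hne : orderOf a ≠ 1 := fun e => ha1 (orderOf_eq_one_iff.1 e)
  obtain ⟨r, hr, hra⟩ := Nat.exists_prime_and_dvd hne
  refine ⟨r, hr, hra.trans (Subgroup.orderOf_dvd_natCard _ haH), ?_⟩
  rw [← MulAut.conj_apply, MulEquiv.orderOf_eq, hcom.orderOf_mul_eq_mul_orderOf_of_coprime hcop]
  exact hra.trans (dvd_mul_right _ _)

/-- An element whose order divides a number prime to `|H|` is not in `L̃`. -/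
theorem not_tilde_of_pow {n : ℕ} (hn : n.Coprime (Nat.card (Cfsg.fittingHallOf L))) {g : G}
    (hg : g ^ n = 1) : g ∉ tilde L := fun h => by
  obtain ⟨r, hr, hrh, hrg⟩ := exists_prime_of_mem_tilde hG hL h
  exact hr.ne_one (Nat.eq_one_of_dvd_coprimes hn (hrg.trans (orderOf_dvd_of_pow_eq_one hg)) hrh)

theorem reg_not_tilde {W₁ W₂ : Subgroup G} (hW : Cfsg.IsSelfNormalizingCyclic W₁ W₂)
    (hcop : (Nat.card W₁ * Nat.card W₂).Coprime (Nat.card (Cfsg.fittingHallOf L))) (x : W₁) (y : W₂) :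
    (x : G) * y ∉ tilde L := by
  refine not_tilde_of_pow hG hL hcop ?_
  have hc : Commute (x : G) (y : G) := hW.2.2.2.1 x x.2 y y.2
  rw [hc.mul_pow, pow_mul, pow_mul',
    show (x : G) ^ Nat.card W₁ = 1 by rw [← Subgroup.coe_pow, pow_card_eq_one']; rfl,
    show (y : G) ^ Nat.card W₂ = 1 by rw [← Subgroup.coe_pow, pow_card_eq_one']; rfl,
    one_pow, one_pow, one_mul]

theorem gfun_tilde {S P U W₁ W₂ : Subgroup G} (D : Side S P U W₁ W₂) (hC : cpart P U = ⊥)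
    (hp : (Nat.card W₂).Coprime (Nat.card (Cfsg.fittingHallOf L))) (ψ : W₂ →* ℂˣ) {g : G}
    (hg : g ∈ tilde L) : gfun D ψ g = 0 := by
  refine indFun_eq_zero_of_forall _ _ fun x hx => ?_
  have hP : x⁻¹ * g * x ∈ P := by
    have : hall P U = P := by rw [hall, hC, sup_bot_eq]
    rwa [this] at hx
  exfalso
  refine not_tilde_of_pow hG hL (n := Nat.card W₂ ^ Nat.card W₁) (hp.pow_left _) ?_ hg
  have h1 : (x⁻¹ * g * x) ^ Nat.card P = 1 := by
    have := congrArg Subtype.val (pow_card_eq_one' (x := (⟨_, hP⟩ : P)))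
    rwa [Subgroup.coe_pow, Subgroup.coe_one] at this
  rw [← D.P_card]
  have h2 : (MulAut.conj x⁻¹) (g ^ Nat.card P) = 1 := by
    rw [map_pow, MulAut.conj_apply, inv_inv, h1]
  exact (MulEquiv.map_eq_one_iff _).1 h2

omit hG hL

/-! ## Consequences of a block -/

variable {W₁ W₂ : Subgroup G} {η : (W₁ →* ℂˣ) → (W₂ →* ℂˣ) → G → ℂ} {e h : ℕ} {ι : Type u}
  [Fintype ι] {d : ι → ℕ} {i₀ : ι} {w : ι → G → ℂ} {Φ : G → ℂ}

/-- The coefficients `b`, `c` of `Φ` on the family `η`. -/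
def GridOf (η : (W₁ →* ℂˣ) → (W₂ →* ℂˣ) → G → ℂ) (Φ : G → ℂ) (b c : ℤ) : Prop :=
  Cfsg.classInner Φ (η 1 1) = 1 ∧ (∀ a, a ≠ 1 → Cfsg.classInner Φ (η a 1) = c) ∧
    (∀ ψ, ψ ≠ 1 → Cfsg.classInner Φ (η 1 ψ) = b) ∧
    ∀ a ψ, a ≠ 1 → ψ ≠ 1 → Cfsg.classInner Φ (η a ψ) = ((b + c - 1 : ℤ) : ℂ)

theorem GridOf.swap {b c : ℤ} (g : GridOf η Φ b c) : GridOf (fun ψ a => η a ψ) Φ c b :=
  ⟨g.1, g.2.2.1, g.2.1, fun ψ a hψ ha => by rw [g.2.2.2 a ψ ha hψ, add_comm b c]⟩

variable (B : Block L e h d i₀ w Φ) (F : Fam W₁ W₂ η) (hW : Cfsg.IsSelfNormalizingCyclic W₁ W₂)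
  (hodd : Odd (Nat.card G)) (hV : ∀ (x : W₁) (y : W₂), x ≠ 1 → y ≠ 1 → (x : G) * y ∉ tilde L)

include B

theorem Block.supp_cconj (i : ι) {g : G} (hg : g ∉ tilde L) : (w i - Cfsg.conjFun (w i)) g = 0 := by
  have h0 := congrFun B.real g
  simp only [Cfsg.conjFun, Pi.add_apply, map_add, B.supp g hg, map_zero, zero_add] at h0
  simp only [Pi.sub_apply, Cfsg.conjFun, B.supp_diff i g hg, map_mul, map_natCast, h0, sub_self]

theorem Block.cconj_ne (i : ι) : Cfsg.conjFun (w i) ≠ w i := by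
  classical
  obtain ⟨j, hji, hj⟩ := B.cconj i
  intro e'
  have h1 := B.orth j i
  rw [← hj, e', B.orth i i, if_pos rfl, if_neg hji] at h1
  exact one_ne_zero h1

theorem Block.probe : Probe (tilde L) (e + 1) Φ (w i₀) where
  sign := B.sign i₀
  conj_ne := B.cconj_ne i₀
  conj_ne_neg := conjFun_ne_neg (B.sign i₀)
  gen := B.gen
  real := B.real
  one := B.one
  norm := le_of_eq (by rw [B.norm]; simp)
  supp := B.supp
  supp_diff _ hg := B.supp_cconj i₀ hg

include F hW hodd hV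

theorem Block.orth_eta (i : ι) (a : W₁ →* ℂˣ) (b : W₂ →* ℂˣ) :
    Cfsg.classInner (w i) (η a b) = 0 :=
  pair_orth_eta F hW hodd (B.sign i) (B.cconj_ne i) (conjFun_ne_neg (B.sign i))
    (fun x y hx hy => B.supp_cconj i (hV x y hx hy)) a b

/-- The coefficients of `Φ` on `η` do not change under Galois conjugation. -/
theorem Block.coef_twist (σ : ℂ ≃+* ℂ) {a a' : W₁ →* ℂˣ} {b b' : W₂ →* ℂˣ}
    (ha : ∀ x, σ (a x : ℂ) = (a' x : ℂ)) (hb : ∀ y, σ (b y : ℂ) = (b' y : ℂ)) :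
    Cfsg.classInner Φ (η a b) = Cfsg.classInner Φ (η a' b') := by
  obtain ⟨j, hj⟩ := B.galois σ
  have ht := eta_twist F hW hodd σ ha hb
  have h1 := inner_twist σ B.gen (eta_gen F a b) (by rw [ht]; exact eta_gen F a' b')
  rw [hj, ht, classInner_sub_left, classInner_add_left, B.orth_eta F hW hodd hV,
    B.orth_eta F hW hodd hV, add_zero, sub_zero] at h1
  exact h1.symm

theorem Block.exists_grid (hq : (Nat.card W₁).Prime) (hp : (Nat.card W₂).Prime) :
    ∃ b c : ℤ, GridOf η Φ b c := by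
  haveI := isMulCommutative1 hW
  haveI := isMulCommutative2 hW
  obtain ⟨a₀, ha₀, -⟩ := exists_third (three_le_hom hodd hW.1) (1 : W₁ →* ℂˣ) 1
  obtain ⟨ψ₀, hψ₀, -⟩ := exists_third (three_le_hom hodd hW.2.1) (1 : W₂ →* ℂˣ) 1
  obtain ⟨c, hc⟩ := IsGeneralizedCharacter.exists_classInner_int B.gen (eta_gen F a₀ 1)
  obtain ⟨b, hb⟩ := IsGeneralizedCharacter.exists_classInner_int B.gen (eta_gen F 1 ψ₀)
  have h11 : Cfsg.classInner Φ (η 1 1) = 1 := by rw [F.one]; exact B.one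
  have hc' : ∀ a, a ≠ 1 → Cfsg.classInner Φ (η a 1) = c := by
    intro a ha
    obtain ⟨σ, hσ⟩ := exists_galois_power hq ha₀ ha
    rw [← hc]
    exact (B.coef_twist F hW hodd hV σ hσ fun y => by simp).symm
  have hb' : ∀ ψ, ψ ≠ 1 → Cfsg.classInner Φ (η 1 ψ) = b := by
    intro ψ hψ
    obtain ⟨σ, hσ⟩ := exists_galois_power hp hψ₀ hψ
    rw [← hb]
    exact (B.coef_twist F hW hodd hV σ (fun x => by simp) hσ).symm
  refine ⟨b, c, h11, hc', hb', fun a ψ ha hψ => ?_⟩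
  rw [F.grid Φ (IsGeneralizedCharacter.isClassFunction B.gen)
    (fun x y hx hy => B.supp _ (hV x y hx hy)) a ψ, hc' a ha, hb' ψ hψ, h11]
  push_cast
  ring

omit hV

/-- The sum of the squares of all known coefficients. -/
theorem Block.bessel {b c : ℤ} (g : GridOf η Φ b c) {κ : Type v} [Fintype κ] [DecidableEq κ]
    (x : κ → G → ℂ) (hx : ∀ i j, Cfsg.classInner (x i) (x j) = if i = j then 1 else 0)
    (hxη : ∀ i a ψ, Cfsg.classInner (x i) (η a ψ) = 0) :
    1 + ((Nat.card W₁ : ℝ) - 1) * (c : ℝ) ^ 2 + ((Nat.card W₂ : ℝ) - 1) * (b : ℝ) ^ 2 +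
        ((Nat.card W₁ : ℝ) - 1) * ((Nat.card W₂ : ℝ) - 1) * ((b : ℝ) + c - 1) ^ 2 +
        ∑ i, ‖Cfsg.classInner Φ (x i)‖ ^ 2 ≤ (e : ℝ) + 1 := by
  classical
  haveI := isMulCommutative1 hW
  haveI := isMulCommutative2 hW
  haveI := finite_dual W₁
  haveI := finite_dual W₂
  haveI : Fintype (W₁ →* ℂˣ) := Fintype.ofFinite _
  haveI : Fintype (W₂ →* ℂˣ) := Fintype.ofFinite _
  have hb := P13.bessel Φ (Sum.elim (fun z : (W₁ →* ℂˣ) × (W₂ →* ℂˣ) => η z.1 z.2) x) (by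
    rintro (⟨a, b⟩ | i) (⟨a', b'⟩ | j) <;> simp only [Sum.elim_inl, Sum.elim_inr]
    · rw [inner_eta F]; simp [Prod.ext_iff]
    · rw [← classInner_conj_symm (x j) (η a b), hxη, map_zero]; simp
    · rw [hxη]; simp
    · rw [hx]; simp)
  rw [Fintype.sum_sum_type, Fintype.sum_prod_type] at hb
  simp only [Sum.elim_inl, Sum.elim_inr] at hb
  have hN : (Cfsg.classInner Φ Φ).re = (e : ℝ) + 1 := by rw [B.norm]; simp
  rw [hN, ← Finset.add_sum_erase _ _ (Finset.mem_univ (1 : W₁ →* ℂˣ))] at hb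
  have hr1 : ∑ ψ : W₂ →* ℂˣ, ‖Cfsg.classInner Φ (η 1 ψ)‖ ^ 2 =
      1 + ((Nat.card W₂ : ℝ) - 1) * (b : ℝ) ^ 2 := by
    rw [← Finset.add_sum_erase _ _ (Finset.mem_univ (1 : W₂ →* ℂˣ)), g.1, norm_one, one_pow]
    congr 1
    rw [Finset.sum_congr rfl (g := fun _ => (b : ℝ) ^ 2) (fun ψ hψ => by
      rw [g.2.2.1 ψ (Finset.ne_of_mem_erase hψ), Complex.norm_intCast, sq_abs]),
      Finset.sum_const, Finset.card_erase_of_mem (Finset.mem_univ _), Finset.card_univ,
      ← Nat.card_eq_fintype_card, card_hom, nsmul_eq_mul, Nat.cast_sub Nat.card_pos, Nat.cast_one]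
  have hra : ∀ a ∈ Finset.univ.erase (1 : W₁ →* ℂˣ), ∑ ψ : W₂ →* ℂˣ, ‖Cfsg.classInner Φ (η a ψ)‖ ^ 2 =
      (c : ℝ) ^ 2 + ((Nat.card W₂ : ℝ) - 1) * ((b : ℝ) + c - 1) ^ 2 := by
    intro a ha
    rw [← Finset.add_sum_erase _ _ (Finset.mem_univ (1 : W₂ →* ℂˣ)),
      g.2.1 a (Finset.ne_of_mem_erase ha), Complex.norm_intCast, sq_abs]
    congr 1
    rw [Finset.sum_congr rfl (g := fun _ => ((b : ℝ) + c - 1) ^ 2) (fun ψ hψ => by
      rw [g.2.2.2 a ψ (Finset.ne_of_mem_erase ha) (Finset.ne_of_mem_erase hψ), Complex.norm_intCast, sq_abs]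
      push_cast
      rfl),
      Finset.sum_const, Finset.card_erase_of_mem (Finset.mem_univ _), Finset.card_univ,
      ← Nat.card_eq_fintype_card, card_hom, nsmul_eq_mul, Nat.cast_sub Nat.card_pos, Nat.cast_one]
  rw [hr1, Finset.sum_congr rfl hra, Finset.sum_const, Finset.card_erase_of_mem (Finset.mem_univ _),
    Finset.card_univ, ← Nat.card_eq_fintype_card, card_hom, nsmul_eq_mul, Nat.cast_sub Nat.card_pos,
    Nat.cast_one] at hb
  linarith

include hV

/-- `Φ` against the whole block. -/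
theorem Block.bessel_block {b c k : ℤ} (g : GridOf η Φ b c)
    (hk : Cfsg.classInner Φ (w i₀) = ((k - 1 : ℤ) : ℂ)) :
    1 + ((Nat.card W₁ : ℝ) - 1) * (c : ℝ) ^ 2 + ((Nat.card W₂ : ℝ) - 1) * (b : ℝ) ^ 2 +
        ((Nat.card W₁ : ℝ) - 1) * ((Nat.card W₂ : ℝ) - 1) * ((b : ℝ) + c - 1) ^ 2 +
        (((∑ i, d i ^ 2 : ℕ) : ℝ) * (k : ℝ) ^ 2 - 2 * k + 1) ≤ (e : ℝ) + 1 := by
  classical
  have h1 := B.bessel F hW hodd g w (fun i j => by rw [B.orth i j])
    (B.orth_eta F hW hodd hV)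
  have h2 : ∑ i, ‖Cfsg.classInner Φ (w i)‖ ^ 2 = ((∑ i, d i ^ 2 : ℕ) : ℝ) * (k : ℝ) ^ 2 - 2 * k + 1 := by
    have h3 : ∀ i, ‖Cfsg.classInner Φ (w i)‖ ^ 2 =
        (d i : ℝ) ^ 2 * (k : ℝ) ^ 2 + (if i = i₀ then -2 * (k : ℝ) + 1 else 0) := by
      intro i
      have e1 : Cfsg.classInner Φ (w i) =
          ((((d i : ℤ) * k - if i = i₀ then 1 else 0 : ℤ)) : ℂ) := by
        rw [B.coef i, hk]
        split_ifs <;> push_cast <;> ring
      rw [e1, Complex.norm_intCast, sq_abs]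
      split_ifs with hi
      · subst hi; rw [B.d_zero]; push_cast; ring
      · push_cast; ring
    rw [Finset.sum_congr rfl fun i _ => h3 i, Finset.sum_add_distrib, ← Finset.sum_mul,
      Finset.sum_ite_eq', if_pos (Finset.mem_univ _)]
    push_cast
    ring
  linarith

/-- A non-zero `k` bounds `|H|`. -/
theorem Block.k_bound {b c k : ℤ} (g : GridOf η Φ b c)
    (hk : Cfsg.classInner Φ (w i₀) = ((k - 1 : ℤ) : ℂ)) (hk0 : k ≠ 0) : h ≤ e * (e + 1) + 1 := by
  have h1 := B.bessel_block F hW hodd hV g hk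
  set m := ∑ i, d i ^ 2 with hm
  have hm1 : 1 ≤ m := by
    rw [hm]
    calc 1 = d i₀ ^ 2 := by rw [B.d_zero, one_pow]
      _ ≤ _ := Finset.single_le_sum (fun i _ => Nat.zero_le (d i ^ 2)) (Finset.mem_univ i₀)
  have hq1 : (1 : ℝ) ≤ (Nat.card W₁ : ℝ) := by exact_mod_cast Nat.card_pos
  have hp1 : (1 : ℝ) ≤ (Nat.card W₂ : ℝ) := by exact_mod_cast Nat.card_pos
  have hmk : (m : ℝ) - 1 ≤ (m : ℝ) * (k : ℝ) ^ 2 - 2 * k + 1 := by
    have h2 : (0 : ℤ) ≤ (k - 1) * ((m : ℤ) * (k + 1) - 2) := by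
      have hm1' : (1 : ℤ) ≤ m := by exact_mod_cast hm1
      rcases lt_or_gt_of_ne hk0 with hlt | hgt
      · exact mul_nonneg_of_nonpos_of_nonpos (by omega) (by nlinarith)
      · exact mul_nonneg (by omega) (by nlinarith)
    have h3 : (m : ℤ) - 1 ≤ (m : ℤ) * k ^ 2 - 2 * k + 1 := by nlinarith
    exact_mod_cast h3
  have h4 : (m : ℝ) ≤ ((e + 1 : ℕ) : ℝ) := by
    push_cast
    nlinarith [mul_nonneg (sub_nonneg.2 hq1) (sq_nonneg (c : ℝ)),
      mul_nonneg (sub_nonneg.2 hp1) (sq_nonneg (b : ℝ)),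
      mul_nonneg (mul_nonneg (sub_nonneg.2 hq1) (sub_nonneg.2 hp1)) (sq_nonneg ((b : ℝ) + c - 1))]
  have h5 : m ≤ e + 1 := by exact_mod_cast h4
  rw [← B.sum_sq]
  exact Nat.add_le_add_right (Nat.mul_le_mul_left e h5) 1

omit hV

/-- An even `b` bounds the block through the side `S`. -/
theorem Block.side_bound (hV : ∀ (x : W₁) (y : W₂), x ≠ 1 → y ≠ 1 → (x : G) * y ∉ tilde L)
    {S P U : Subgroup G} (D : Side S P U W₁ W₂) (hC : cpart P U = ⊥)
    (hg : ∀ (ψ : W₂ →* ℂˣ) g, g ∈ tilde L → gfun D ψ g = 0) {b c : ℤ} (g : GridOf η Φ b c)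
    (hb : Even b) : Nat.card W₁ * (∑ i, d i ^ 2) + 1 ≤ Nat.card U := by
  classical
  haveI := isMulCommutative1 hW
  haveI := isMulCommutative2 hW
  haveI := finite_dual W₁
  haveI : Fintype (W₁ →* ℂˣ) := Fintype.ofFinite _
  obtain ⟨ψ, hψ, -⟩ := exists_third (three_le_hom hodd hW.2.1) (1 : W₂ →* ℂˣ) 1
  obtain ⟨hdiv, hsum⟩ := gfun_bound D F hC hodd hψ w (B.sign)
    (fun i j => by rw [B.orth i j]) (B.orth_eta F hW hodd hV)
  obtain ⟨n, hn⟩ := hdiv i₀
  set q := Nat.card W₁ with hq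
  set f := gfun D ψ with hf
  have hdif : ∀ i, Cfsg.classInner f (w i) = (d i : ℂ) * Cfsg.classInner f (w i₀) := by
    intro i
    have h0 : Cfsg.classInner f (w i - (d i : ℂ) • w i₀) = 0 := inner_disjoint fun x => by
      by_cases hx : x ∈ tilde L
      · exact Or.inl (hg ψ x hx)
      · exact Or.inr (by rw [Pi.sub_apply, Pi.smul_apply, B.supp_diff i x hx, smul_eq_mul, sub_self])
    rw [classInner_sub_right, classInner_smul_right, map_natCast, sub_eq_zero] at h0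
    exact h0
  have hfΦ : Cfsg.classInner f Φ = 0 := inner_disjoint fun x => by
    by_cases hx : x ∈ tilde L
    · exact Or.inl (hg ψ x hx)
    · exact Or.inr (B.supp x hx)
  have hone : Cfsg.classInner (w i₀) (fun _ => 1) = 0 := by rw [← F.one]; exact B.orth_eta F hW hodd hV _ _ _
  have hgenR : Cfsg.IsGeneralizedCharacter G (rfun D η ψ) :=
    IsGeneralizedCharacter.add (bf_isGen _ _)
      (isGeneralizedCharacter_sum _ fun a _ => eta_gen F a ψ)
  have hval : Cfsg.classInner (rfun D η ψ) (Φ + w i₀) =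
      ((b + ((q : ℤ) - 1) * (b + c - 1) + (q : ℤ) * n : ℤ) : ℂ) := by
    rw [rfun, classInner_add_left, classInner_add_right, classInner_add_right, hfΦ, hn,
      classInner_sum_left, classInner_sum_left,
      Finset.sum_eq_zero (s := Finset.univ) (f := fun a => Cfsg.classInner (η a ψ) (w i₀)) (fun a _ => by
        rw [← classInner_conj_symm (w i₀) (η a ψ), B.orth_eta F hW hodd hV, map_zero]),
      add_zero, zero_add, ← Finset.add_sum_erase _ _ (Finset.mem_univ (1 : W₁ →* ℂˣ)),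
      ← classInner_conj_symm Φ (η 1 ψ), g.2.2.1 ψ hψ, map_intCast,
      Finset.sum_congr rfl (g := fun _ => (((b + c - 1 : ℤ)) : ℂ)) (fun a ha => by
        rw [← classInner_conj_symm Φ (η a ψ), g.2.2.2 a ψ (Finset.ne_of_mem_erase ha) hψ, map_intCast]),
      Finset.sum_const, Finset.card_erase_of_mem (Finset.mem_univ _), Finset.card_univ,
      ← Nat.card_eq_fintype_card, card_hom, ← hq, nsmul_eq_mul, Nat.cast_sub Nat.card_pos]
    push_cast
    ring
  have hpar := inner_real_even hodd hgenR (IsGeneralizedCharacter.add B.gen (SignIrr_isGen (B.sign i₀)))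
    (rfun_real D F hodd hψ) B.real (x := 1) (y := 1) (by rw [rfun_one D F hψ]; simp)
    (by rw [classInner_add_left, B.one, hone]; simp) hval
  have hn0 : n ≠ 0 := by
    rintro rfl
    obtain ⟨t, ht⟩ := hodd.of_dvd_nat (Subgroup.card_subgroup_dvd_card W₁)
    obtain ⟨b', rfl⟩ := hb
    obtain ⟨s, hs⟩ := hpar
    rw [← hq] at ht
    rw [ht] at hs
    push_cast at hs
    ring_nf at hs
    omega
  have hq2 : (q : ℝ) ^ 2 * ((∑ i, d i ^ 2 : ℕ) : ℝ) ≤ (q : ℝ) * Nat.card U - q := by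
    refine le_trans ?_ hsum
    have h1 : ∀ i, ‖Cfsg.classInner f (w i)‖ ^ 2 = (d i : ℝ) ^ 2 * ((q : ℝ) ^ 2 * (n : ℝ) ^ 2) := by
      intro i
      rw [hdif i, hn, norm_mul, Complex.norm_natCast, Complex.norm_intCast, mul_pow, sq_abs]
      push_cast
      ring
    have hn1 : (1 : ℝ) ≤ (n : ℝ) ^ 2 := by
      exact_mod_cast (one_le_sq_iff_one_le_abs n).mpr (Int.one_le_abs hn0)
    rw [Finset.sum_congr rfl fun i _ => h1 i, ← Finset.sum_mul]
    push_cast
    rw [mul_comm ((q : ℝ) ^ 2)]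
    exact mul_le_mul_of_nonneg_left (le_mul_of_one_le_right (sq_nonneg _) hn1)
      (Finset.sum_nonneg fun i _ => sq_nonneg _)
  have hq0 : (0 : ℝ) < q := by rw [hq]; exact_mod_cast Nat.card_pos
  have h3 : (q : ℝ) * ((∑ i, d i ^ 2 : ℕ) : ℝ) + 1 ≤ Nat.card U :=
    le_of_mul_le_mul_left (by nlinarith [hq2]) hq0
  exact_mod_cast h3

/-- When `b` and `c` are odd and `k = 0` the function `w i₀` has no zero of order prime to `p q`. -/
theorem Block.ne_zero (hV : ∀ (x : W₁) (y : W₂), x ≠ 1 → y ≠ 1 → (x : G) * y ∉ tilde L)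
    (hq : (Nat.card W₁).Prime) (hp : (Nat.card W₂).Prime) (he : e = Nat.card W₁ * Nat.card W₂)
    {b c : ℤ} (g : GridOf η Φ b c) (hb : Odd b) (hc : Odd c)
    (hk : Cfsg.classInner Φ (w i₀) = -1) {z : G} (hz : z ∉ tilde L)
    (hzo : (orderOf z).Coprime (Nat.card W₁ * Nat.card W₂)) : w i₀ z ≠ 0 := by
  classical
  haveI := isMulCommutative1 hW
  haveI := isMulCommutative2 hW
  haveI := finite_dual W₁
  haveI := finite_dual W₂
  haveI : Fintype (W₁ →* ℂˣ) := Fintype.ofFinite _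
  haveI : Fintype (W₂ →* ℂˣ) := Fintype.ofFinite _
  set E : ((W₁ →* ℂˣ) × (W₂ →* ℂˣ)) ⊕ Unit → G → ℂ :=
    Sum.elim (fun z => η z.1 z.2) (fun _ => w i₀) with hE
  set q := Nat.card W₁ with hqdef
  set p := Nat.card W₂ with hpdef
  have hq1 : (1 : ℝ) ≤ (q : ℝ) := by exact_mod_cast hq.one_lt.le
  have hp1 : (1 : ℝ) ≤ (p : ℝ) := by exact_mod_cast hp.one_lt.le
  have sqo : ∀ n : ℤ, Odd n → (1 : ℝ) ≤ (n : ℝ) ^ 2 := by
    intro n hn
    have h0 : n ≠ 0 := by rintro rfl; simp at hn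
    exact_mod_cast (one_le_sq_iff_one_le_abs n).mpr (Int.one_le_abs h0)
  have hs : Odd (b + c - 1) := (hb.add_odd hc).sub_odd odd_one
  have hsum : ∀ (f : (W₁ →* ℂˣ) → (W₂ →* ℂˣ) → ℂ) (C1 C2 C3 : ℂ),
      (∀ a, a ≠ 1 → f a 1 = C1) → (∀ ψ, ψ ≠ 1 → f 1 ψ = C2) → (∀ a ψ, a ≠ 1 → ψ ≠ 1 → f a ψ = C3) →
      ∑ a, ∑ ψ, f a ψ = f 1 1 + ((q : ℂ) - 1) * C1 + ((p : ℂ) - 1) * C2 +
        ((q : ℂ) - 1) * ((p : ℂ) - 1) * C3 := by
    intro f C1 C2 C3 h1 h2 h3
    rw [← Finset.add_sum_erase _ _ (Finset.mem_univ (1 : W₁ →* ℂˣ)),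
      ← Finset.add_sum_erase _ _ (Finset.mem_univ (1 : W₂ →* ℂˣ)),
      Finset.sum_congr rfl (g := fun _ => C2) (fun ψ hψ => h2 ψ (Finset.ne_of_mem_erase hψ)),
      Finset.sum_congr rfl (s₁ := Finset.univ.erase (1 : W₁ →* ℂˣ))
        (g := fun _ => C1 + ((p : ℂ) - 1) * C3) (fun a ha => by
        rw [← Finset.add_sum_erase _ _ (Finset.mem_univ (1 : W₂ →* ℂˣ)), h1 a (Finset.ne_of_mem_erase ha),
          Finset.sum_congr rfl (g := fun _ => C3)
            (fun ψ hψ => h3 a ψ (Finset.ne_of_mem_erase ha) (Finset.ne_of_mem_erase hψ)),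
          Finset.sum_const, Finset.card_erase_of_mem (Finset.mem_univ _), Finset.card_univ,
          ← Nat.card_eq_fintype_card, card_hom, nsmul_eq_mul, Nat.cast_sub Nat.card_pos, Nat.cast_one])]
    simp only [Finset.sum_const, Finset.card_erase_of_mem (Finset.mem_univ _), Finset.card_univ,
      ← Nat.card_eq_fintype_card, card_hom, nsmul_eq_mul, Nat.cast_sub Nat.card_pos, Nat.cast_one,
      ← hqdef, ← hpdef, Nat.cast_sub hq.one_lt.le, Nat.cast_sub hp.one_lt.le]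
    ring
  have heq : Φ = ∑ i, Cfsg.classInner Φ (E i) • E i := by
    refine eq_of_bessel Φ E ?_ ?_
    · rintro (⟨a, b⟩ | u') (⟨a', b'⟩ | v') <;> simp only [hE, Sum.elim_inl, Sum.elim_inr]
      · rw [inner_eta F]; simp [Prod.ext_iff]
      · rw [← classInner_conj_symm (w i₀) (η a b), B.orth_eta F hW hodd hV, map_zero]; simp
      · rw [B.orth_eta F hW hodd hV]; simp
      · rw [B.orth i₀ i₀]; simp
    · rw [Fintype.sum_sum_type, Fintype.sum_prod_type]
      simp only [Finset.univ_unique, Finset.sum_singleton]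
      simp only [hE, Sum.elim_inl, Sum.elim_inr]
      rw [hk, norm_neg, norm_one, one_pow]
      have h := congrArg Complex.re (hsum (fun a ψ => ((‖Cfsg.classInner Φ (η a ψ)‖ ^ 2 : ℝ) : ℂ))
        (((c : ℝ) ^ 2 : ℝ) : ℂ) (((b : ℝ) ^ 2 : ℝ) : ℂ) ((((b + c - 1 : ℤ) : ℝ) ^ 2 : ℝ) : ℂ)
        (fun a ha => by simp only [g.2.1 a ha, Complex.norm_intCast, sq_abs])
        (fun ψ hψ => by simp only [g.2.2.1 ψ hψ, Complex.norm_intCast, sq_abs])
        (fun a ψ ha hψ => by simp only [g.2.2.2 a ψ ha hψ, Complex.norm_intCast, sq_abs]))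
      simp only [Complex.re_sum, Complex.add_re, Complex.ofReal_re, Complex.mul_re, Complex.sub_re,
        Complex.natCast_re, Complex.one_re, Complex.sub_im, Complex.natCast_im, Complex.one_im,
        Complex.ofReal_im, Complex.mul_im, g.1, norm_one, one_pow] at h
      rw [B.norm, he]
      simp only [Complex.add_re, Complex.mul_re, Complex.natCast_re, Complex.natCast_im, Complex.one_re, Nat.cast_mul,
        ← hqdef, ← hpdef, mul_zero, sub_zero]
      have e1 := mul_le_mul_of_nonneg_left (sqo c hc) (sub_nonneg.2 hq1)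
      have e2 := mul_le_mul_of_nonneg_left (sqo b hb) (sub_nonneg.2 hp1)
      have e3 := mul_le_mul_of_nonneg_left (sqo _ hs)
        (mul_nonneg (sub_nonneg.2 hq1) (sub_nonneg.2 hp1))
      ring_nf at h e1 e2 e3 ⊢
      linarith
  have hoff : ∀ a ψ, η a ψ z = η a 1 z + η 1 ψ z - 1 := fun a ψ => F.off hW a ψ fun x y t hx hy e' => by
    have hcop : (orderOf z).Coprime (orderOf z) := by
      refine hzo.coprime_dvd_right (orderOf_dvd_of_pow_eq_one ?_)
      rw [e', conj_pow]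
      have hc' : Commute (x : G) (y : G) := hW.2.2.2.1 x x.2 y y.2
      rw [hc'.mul_pow, pow_mul, pow_mul',
        show (x : G) ^ Nat.card W₁ = 1 by rw [← Subgroup.coe_pow, pow_card_eq_one']; rfl,
        show (y : G) ^ Nat.card W₂ = 1 by rw [← Subgroup.coe_pow, pow_card_eq_one']; rfl,
        one_pow, one_pow, one_mul, mul_one, mul_inv_cancel]
    rw [Nat.coprime_self, orderOf_eq_one_iff, e', conj_eq_one_iff] at hcop
    have hx' : (x : G) ∈ W₁ ⊓ W₂ := ⟨x.2, by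
      rw [eq_inv_of_mul_eq_one_left hcop]; exact W₂.inv_mem y.2⟩
    rw [hW.2.2.1, Subgroup.mem_bot] at hx'
    exact hx (Subtype.ext hx')
  obtain ⟨a₀, ha₀, -⟩ := exists_third (three_le_hom hodd hW.1) (1 : W₁ →* ℂˣ) 1
  obtain ⟨ψ₀, hψ₀, -⟩ := exists_third (three_le_hom hodd hW.2.1) (1 : W₂ →* ℂˣ) 1
  set A := η a₀ 1 z with hA
  set Bv := η 1 ψ₀ z with hBv
  have hAc : ∀ a, a ≠ 1 → η a 1 z = A := fun a ha =>
    eta_eq_of_coprime F hW hodd hq ha ha₀ (hzo.coprime_dvd_right (dvd_mul_right _ _))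
  have hBc : ∀ ψ, ψ ≠ 1 → η 1 ψ z = Bv := fun ψ hψ =>
    eta_eq_of_coprime (F.swap hW) (selfN_swap hW) hodd hp hψ hψ₀ (hzo.coprime_dvd_right (dvd_mul_left _ _))
  have hval := congrFun heq z
  rw [B.supp z hz, Finset.sum_apply, Fintype.sum_sum_type, Fintype.sum_prod_type] at hval
  simp only [Finset.univ_unique, Finset.sum_singleton] at hval
  simp only [hE, Sum.elim_inl, Sum.elim_inr, Pi.smul_apply, smul_eq_mul, hk] at hval
  rw [hsum (fun a ψ => Cfsg.classInner Φ (η a ψ) * η a ψ z) ((c : ℂ) * A) ((b : ℂ) * Bv)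
    (((b + c - 1 : ℤ) : ℂ) * (A + Bv - 1))
    (fun a ha => by rw [g.2.1 a ha, hAc a ha]) (fun ψ hψ => by rw [g.2.2.1 ψ hψ, hBc ψ hψ])
    (fun a ψ ha hψ => by rw [g.2.2.2 a ψ ha hψ, hoff a ψ, hAc a ha, hBc ψ hψ])] at hval
  simp only [g.1, F.one, B.one, one_mul] at hval
  obtain ⟨q', hq'⟩ := hodd.of_dvd_nat (Subgroup.card_subgroup_dvd_card W₁)
  obtain ⟨p', hp'⟩ := hodd.of_dvd_nat (Subgroup.card_subgroup_dvd_card W₂)
  rw [← hqdef] at hq'
  rw [← hpdef] at hp'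
  intro h0
  rw [h0, hq', hp'] at hval
  set α : ℂ := ((q' : ℤ) * c : ℤ) * A + ((p' : ℤ) * b : ℤ) * Bv +
    (((2 * q' * p' : ℤ) * (b + c - 1) : ℤ) : ℂ) * (A + Bv - 1) with hα
  refine one_add_two_ne_zero (α := α) ?_ ?_
  · have hint : ∀ n : ℤ, IsIntegral ℤ (n : ℂ) := fun n => isIntegral_algebraMap
    have iA := (F.sign a₀ 1).isIntegral z
    have iB := (F.sign 1 ψ₀).isIntegral z
    exact (((hint _).mul iA).add ((hint _).mul iB)).add ((hint _).mul ((iA.add iB).sub isIntegral_one))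
  · rw [hα]
    push_cast at hval ⊢
    linear_combination -hval

end Cfsg.Agent.OddChar.P14
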