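/-
Peterfalvi section 14: how many elements of `G` have order divisible by `p`, and how many are
regular in a conjugate of `W₁ W₂`.
-/
import Cfsg.Agent.Lib.OddChar.P13.Side

set_option autoImplicit false
set_option linter.unusedSectionVars false
set_option linter.style.haveILetI false

namespace Cfsg.Agent.OddChar.P14

universe u

variable {G : Type u} [Group G] {S P U W₁ W₂ : Subgroup G}

/-- The conjugates of the regular elements of `W₁ W₂`. -/
def regConj (W₁ W₂ : Subgroup G) : Set G :=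
  {g | ∃ t : G, ∃ x ∈ W₁, ∃ y ∈ W₂, x ≠ 1 ∧ y ≠ 1 ∧ g = t * (x * y) * t⁻¹}

theorem mem_regConj_of_mem {x y : G} (hx : x ∈ W₁) (hy : y ∈ W₂) (hx1 : x ≠ 1) (hy1 : y ≠ 1) :
    x * y ∈ regConj W₁ W₂ := ⟨1, x, hx, y, hy, hx1, hy1, by group⟩

theorem conj_mem_regConj {g : G} (hg : g ∈ regConj W₁ W₂) (t : G) : t * g * t⁻¹ ∈ regConj W₁ W₂ := by
  obtain ⟨s, x, hx, y, hy, hx1, hy1, rfl⟩ := hg
  exact ⟨t * s, x, hx, y, hy, hx1, hy1, by group⟩

theorem card_ne_one' [Finite G] (X : Subgroup G) :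
    Nat.card {x : X // x ≠ 1} = Nat.card X - 1 := by
  classical
  haveI : Fintype X := Fintype.ofFinite X
  rw [Nat.card_eq_fintype_card, Nat.card_eq_fintype_card, Fintype.card_subtype_compl,
    Fintype.card_subtype_eq]

variable [Finite G]

/-- The regular elements of all conjugates of `W₁ W₂`. -/
theorem card_regular (hW : Cfsg.IsSelfNormalizingCyclic W₁ W₂) :
    Nat.card (regConj W₁ W₂) * (Nat.card W₁ * Nat.card W₂) ≤
      Nat.card G * ((Nat.card W₁ - 1) * (Nat.card W₂ - 1)) := by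
  classical
  obtain ⟨-, -, hdisj, hcomm, hcyc, -⟩ := hW
  have hab : ∀ a ∈ W₁ ⊔ W₂, ∀ b ∈ W₁ ⊔ W₂, a * b = b * a := fun a ha b hb =>
    congrArg Subtype.val (IsCyclic.commGroup.mul_comm (⟨a, ha⟩ : ↥(W₁ ⊔ W₂)) ⟨b, hb⟩)
  have hch : ∀ g : regConj W₁ W₂, ∃ i : G × {x : W₁ // x ≠ 1} × {y : W₂ // y ≠ 1},
      (g : G) = i.1 * ((i.2.1.1 : G) * i.2.2.1) * i.1⁻¹ := by
    rintro ⟨g, t, x, hx, y, hy, hx1, hy1, rfl⟩
    exact ⟨(t, ⟨⟨x, hx⟩, fun e => hx1 (congrArg Subtype.val e)⟩,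
      ⟨⟨y, hy⟩, fun e => hy1 (congrArg Subtype.val e)⟩), rfl⟩
  choose c hc using hch
  let f : regConj W₁ W₂ × (W₁ × W₂) → G × ({x : W₁ // x ≠ 1} × {y : W₂ // y ≠ 1}) :=
    fun i => ((c i.1).1 * ((i.2.1 : G) * i.2.2), (c i.1).2)
  have hf : Function.Injective f := by
    rintro ⟨g, a, b⟩ ⟨g', a', b'⟩ e
    obtain ⟨e1, e2⟩ := Prod.mk.injEq .. ▸ e
    have e1 : (c g).1 * ((a : G) * b) = (c g').1 * ((a' : G) * b') := e1
    have e2 : (c g).2 = (c g').2 := e2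
    have hval : ∀ (h : regConj W₁ W₂) (a : W₁) (b : W₂), (h : G) =
        ((c h).1 * ((a : G) * b)) * (((c h).2.1.1 : G) * (c h).2.2.1) * ((c h).1 * ((a : G) * b))⁻¹ := by
      intro h a b
      conv_lhs => rw [hc h]
      have hk : (a : G) * b ∈ W₁ ⊔ W₂ := Subgroup.mul_mem_sup a.2 b.2
      have hk' : ((c h).2.1.1 : G) * (c h).2.2.1 ∈ W₁ ⊔ W₂ :=
        Subgroup.mul_mem_sup (c h).2.1.1.2 (c h).2.2.1.2
      calc (c h).1 * (((c h).2.1.1 : G) * (c h).2.2.1) * (c h).1⁻¹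
          = (c h).1 * ((((c h).2.1.1 : G) * (c h).2.2.1) * ((a : G) * b) * ((a : G) * b)⁻¹) * (c h).1⁻¹ := by
            rw [mul_inv_cancel_right]
        _ = (c h).1 * (((a : G) * b) * (((c h).2.1.1 : G) * (c h).2.2.1) * ((a : G) * b)⁻¹) * (c h).1⁻¹ := by
            rw [hab _ hk' _ hk]
        _ = _ := by group
    have hg : g = g' := Subtype.ext (by rw [hval g a b, hval g' a' b', e1, e2])
    subst hg
    have e3 : (a : G) * b = a' * b' := mul_left_cancel e1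
    have hm : (a' : G)⁻¹ * a ∈ W₁ ⊓ W₂ := by
      refine ⟨W₁.mul_mem (W₁.inv_mem a'.2) a.2, ?_⟩
      have : (a' : G)⁻¹ * a = b' * (b : G)⁻¹ := by rw [eq_mul_inv_iff_mul_eq, mul_assoc, e3]; group
      rw [this]
      exact W₂.mul_mem b'.2 (W₂.inv_mem b.2)
    rw [hdisj, Subgroup.mem_bot, inv_mul_eq_one] at hm
    have ha : a' = a := Subtype.ext hm
    subst ha
    exact Prod.ext rfl (Prod.ext rfl (Subtype.ext (mul_left_cancel e3)))
  have h := Nat.card_le_card_of_injective f hf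
  rwa [Nat.card_prod, Nat.card_prod, Nat.card_prod, Nat.card_prod, card_ne_one', card_ne_one'] at h

/-- `P` controls the elements of order divisible by `p` that are not regular. -/
theorem exists_conj_of_dvd_orderOf (D : P13.Side S P U W₁ W₂)
    (hfpf : ∀ u ∈ U, u ≠ 1 → ∀ x ∈ P, u * x = x * u → x = 1) (hHall : (Nat.card P).Coprime P.index)
    {g : G} (hg : Nat.card W₂ ∣ orderOf g) (hreg : g ∉ regConj W₁ W₂) :
    ∃ t : G, ∃ x ∈ P, x ≠ 1 ∧ g = t * x * t⁻¹ := by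
  set p := Nat.card W₂
  haveI := Fact.mk D.p_prime
  have hqp : ¬ p ∣ Nat.card W₁ := fun h => D.p_prime.ne_one (Nat.dvd_one.1 (D.coprime_P ▸
    Nat.dvd_gcd h (D.P_card ▸ dvd_pow_self p D.q_prime.ne_zero)))
  have hPp : IsPGroup p P := IsPGroup.of_card D.P_card
  have hidx : ¬ p ∣ P.index := fun h => D.p_prime.ne_one (Nat.dvd_one.1 (hHall ▸
    Nat.dvd_gcd (D.P_card ▸ dvd_pow_self p D.q_prime.ne_zero) h))
  set y := g ^ (orderOf g / p) with hy
  have hyo : orderOf y = p := orderOf_pow_orderOf_div (orderOf_pos g).ne' hg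
  obtain ⟨Q, hQ⟩ := (IsPGroup.of_card (G := Subgroup.zpowers y) (n := 1)
    (by rw [Nat.card_zpowers, hyo, pow_one])).exists_le_sylow
  obtain ⟨t, ht⟩ := MulAction.exists_smul_eq G Q (hPp.toSylow hidx)
  have hyP : t * y * t⁻¹ ∈ P := by
    have h : t * y * t⁻¹ ∈ ((t • Q : Sylow p G) : Subgroup G) :=
      Subgroup.smul_mem_pointwise_smul y (MulAut.conj t) _ (hQ (Subgroup.mem_zpowers y))
    rw [ht] at h
    exact h
  have hy1 : t * y * t⁻¹ ≠ 1 := fun e => D.p_prime.ne_one (by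
    show p = 1
    rw [← hyo, conj_eq_one_iff.1 e, orderOf_one])
  set h := t * g * t⁻¹ with hh
  have hgh : g = t⁻¹ * h * t⁻¹⁻¹ := by rw [hh]; group
  have hcomm : Commute h (t * y * t⁻¹) := by
    rw [hy, ← conj_pow]
    exact Commute.self_pow _ _
  have hhS : h ∈ S := D.centralizer_le (D.P_le_hall hyP) hy1
    (Subgroup.mem_centralizer_singleton_iff.2 hcomm.eq)
  have hh1 : h ≠ 1 := fun e => by
    rw [hh] at e
    rw [conj_eq_one_iff.1 e, orderOf_one] at hg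
    exact D.p_prime.ne_one (Nat.dvd_one.1 hg)
  by_cases hK : h ∈ P ⊔ U
  · obtain ⟨x, hx, u, hu, e⟩ := D.mem_PU.1 hK
    rcases eq_or_ne u 1 with rfl | hu1
    · exact ⟨t⁻¹, h, by rw [e, mul_one]; exact hx, hh1, hgh⟩
    · exfalso
      refine hy1 (hfpf u hu hu1 _ hyP ?_)
      have hxy : Commute x (t * y * t⁻¹) := D.P_comm x hx _ hyP
      have : u = x⁻¹ * h := by rw [e, inv_mul_cancel_left]
      rw [this]
      exact (hxy.inv_left.mul_left hcomm).eq
  · exfalso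
    obtain ⟨s, hs, c, hc, w, hw, hw1, e⟩ := D.exists_conj_W hhS hK
    have hwc : w * c = c * w := D.selfN.2.2.2.1 w hw c hc
    refine hreg ?_
    have hc1 : c ≠ 1 := by
      rintro rfl
      refine hqp (hg.trans ?_)
      have : orderOf g = orderOf w := by
        rw [hgh, ← MulAut.conj_apply, MulEquiv.orderOf_eq, e, one_mul, ← MulAut.conj_apply, MulEquiv.orderOf_eq]
      rw [this]
      exact Subgroup.orderOf_dvd_natCard W₁ hw
    have hmem := conj_mem_regConj (conj_mem_regConj (mem_regConj_of_mem hw hc hw1 hc1) s) t⁻¹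
    rw [hwc, ← e, ← hgh] at hmem
    exact hmem

/-- The non-regular elements of order divisible by `p`. -/
theorem card_p_elements (D : P13.Side S P U W₁ W₂)
    (hfpf : ∀ u ∈ U, u ≠ 1 → ∀ x ∈ P, u * x = x * u → x = 1) (hHall : (Nat.card P).Coprime P.index) :
    Nat.card {g : G // Nat.card W₂ ∣ orderOf g ∧ g ∉ regConj W₁ W₂} * Nat.card S ≤
      Nat.card G * (Nat.card P - 1) := by
  classical
  have hch : ∀ g : {g : G // Nat.card W₂ ∣ orderOf g ∧ g ∉ regConj W₁ W₂},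
      ∃ i : G × {x : P // x ≠ 1}, (g : G) = i.1 * (i.2.1 : G) * i.1⁻¹ := fun g => by
    obtain ⟨t, x, hx, hx1, e⟩ := exists_conj_of_dvd_orderOf D hfpf hHall g.2.1 g.2.2
    exact ⟨(t, ⟨⟨x, hx⟩, fun e' => hx1 (congrArg Subtype.val e')⟩), e⟩
  choose c hc using hch
  let f : {g : G // Nat.card W₂ ∣ orderOf g ∧ g ∉ regConj W₁ W₂} × S → G × {x : P // x ≠ 1} :=
    fun i => ((c i.1).1 * (i.2 : G), ⟨⟨(i.2 : G)⁻¹ * (c i.1).2.1 * (i.2 : G)⁻¹⁻¹,
      D.le_normP (S.inv_mem i.2.2) (c i.1).2.1.2⟩, fun e => (c i.1).2.2 (Subtype.ext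
        (conj_eq_one_iff.1 (congrArg Subtype.val e)))⟩)
  have hf : Function.Injective f := by
    rintro ⟨g, s⟩ ⟨g', s'⟩ e
    have e1 : (c g).1 * (s : G) = (c g').1 * (s' : G) := congrArg Prod.fst e
    have e2 : (s : G)⁻¹ * (c g).2.1 * (s : G)⁻¹⁻¹ = (s' : G)⁻¹ * (c g').2.1 * (s' : G)⁻¹⁻¹ :=
      congrArg (fun i : G × {x : P // x ≠ 1} => (i.2.1 : G)) e
    have hval : ∀ (h : {g : G // Nat.card W₂ ∣ orderOf g ∧ g ∉ regConj W₁ W₂}) (s : S), (h : G) =
        ((c h).1 * (s : G)) * ((s : G)⁻¹ * (c h).2.1 * (s : G)⁻¹⁻¹) * ((c h).1 * (s : G))⁻¹ := fun h s => by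
      conv_lhs => rw [hc h]
      group
    have hg : g = g' := Subtype.ext (by rw [hval g s, hval g' s', e1, e2])
    subst hg
    exact Prod.ext rfl (Subtype.ext (mul_left_cancel e1))
  have h := Nat.card_le_card_of_injective f hf
  rwa [Nat.card_prod, Nat.card_prod, card_ne_one'] at h

end Cfsg.Agent.OddChar.P14
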