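/-
Peterfalvi section 14: the mass, on the elements of order prime to `p q` outside the tilde set of
`L`, of a signed irreducible character without zero there.
-/
import Cfsg.Agent.Lib.OddChar.P14.Base
import Cfsg.Agent.Lib.OddChar.P14.Count
import Cfsg.Agent.Lib.OddChar.P13.Ineq
import Cfsg.Agent.Lib.OddOrder.SigmaTildeCount

set_option autoImplicit false
set_option linter.unusedSectionVars false
set_option linter.style.haveILetI false

namespace Cfsg.Agent.OddChar.P14

open Cfsg.Agent.Char Cfsg.Agent.Char.CyclicTI Cfsg.Agent.OddChar.P13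

universe u

variable {G : Type u} [Group G]

theorem supportR_congr (L : Subgroup G) {x y : G}
    (h : Subgroup.centralizer ({x} : Set G) = Subgroup.centralizer ({y} : Set G)) :
    Cfsg.supportR L x = Cfsg.supportR L y := by
  by_cases h1 : ¬ Subgroup.centralizer ({x} : Set G) ≤ L ∧
      ∃! M : Subgroup G, IsCoatom M ∧ Subgroup.centralizer ({x} : Set G) ≤ M
  · have h2 : ¬ Subgroup.centralizer ({y} : Set G) ≤ L ∧
        ∃! M : Subgroup G, IsCoatom M ∧ Subgroup.centralizer ({y} : Set G) ≤ M := h ▸ h1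
    rw [Cfsg.supportR, Cfsg.supportR, dif_pos h1, dif_pos h2]
    exact congrArg₂ (fun M C => Cfsg.fittingHallOf M ⊓ C)
      (h1.2.unique (Classical.choose_spec h1.2.exists)
        ((Classical.choose_spec h2.2.exists).imp_right (le_of_eq_of_le h))) h
  · have h2 : ¬ (¬ Subgroup.centralizer ({y} : Set G) ≤ L ∧
        ∃! M : Subgroup G, IsCoatom M ∧ Subgroup.centralizer ({y} : Set G) ≤ M) := h ▸ h1
    rw [Cfsg.supportR, Cfsg.supportR, dif_neg h1, dif_neg h2]

theorem supportR_le_centralizer (L : Subgroup G) (x : G) :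
    Cfsg.supportR L x ≤ Subgroup.centralizer ({x} : Set G) := by
  unfold Cfsg.supportR
  split
  · exact inf_le_right
  · exact bot_le

theorem regConj_swap {W₁ W₂ : Subgroup G} (hW : Cfsg.IsSelfNormalizingCyclic W₁ W₂) :
    regConj W₂ W₁ = regConj W₁ W₂ := by
  ext g
  constructor
  · rintro ⟨t, x, hx, y, hy, hx1, hy1, e⟩
    exact ⟨t, y, hy, x, hx, hy1, hx1, by rw [e, hW.2.2.2.1 y hy x hx]⟩
  · rintro ⟨t, x, hx, y, hy, hx1, hy1, e⟩
    exact ⟨t, y, hy, x, hx, hy1, hx1, by rw [e, hW.2.2.2.1 x hx y hy]⟩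

variable [Fintype G]

/-- The tilde set of `L` is stable under the powers prime to `|G|`. -/
theorem tilde_of_pow (L : Subgroup G) {g : G} {k : ℕ} (hk : k.Coprime (Nat.card G))
    (h : g ^ k ∈ Cfsg.tildeOf L ((Cfsg.sigmaCore L : Set G) \ {1})) :
    g ∈ Cfsg.tildeOf L ((Cfsg.sigmaCore L : Set G) \ {1}) := by
  obtain ⟨l, hl, hlg⟩ := exists_inv_exponent hk
  obtain ⟨a, ⟨ha, ha1⟩, r, hr, y, e⟩ := h
  obtain ⟨i, -, hi⟩ := exists_inv_exponent hl
  have hC : Subgroup.centralizer ({a ^ l} : Set G) = Subgroup.centralizer ({a} : Set G) := by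
    ext c
    rw [Subgroup.mem_centralizer_singleton_iff, Subgroup.mem_centralizer_singleton_iff]
    refine ⟨fun hc => ?_, fun hc => ((show Commute c a from hc).pow_right l).eq⟩
    have h := ((show Commute c (a ^ l) from hc).pow_right i).eq
    rwa [hi] at h
  have hcomm : Commute a r :=
    (show Commute r a from Subgroup.mem_centralizer_singleton_iff.1 (supportR_le_centralizer L a hr)).symm
  refine ⟨a ^ l, ⟨Subgroup.pow_mem _ ha l, pow_ne_one_of_coprime (fun e' => ha1 e') hl⟩, r ^ l, ?_, y, ?_⟩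
  · rw [supportR_congr L hC]
    exact Subgroup.pow_mem _ hr l
  · rw [← hlg g, e, conj_pow, hcomm.mul_pow]

open Classical in
/-- **Galois bound on the mass.** -/
theorem galois_mass {S T P U Q V W₁ W₂ L : Subgroup G} {h : ℕ} (hG : Cfsg.IsMinSimpleOddOrder G)
    (D : P13.Side S P U W₁ W₂) (E : P13.Side T Q V W₂ W₁)
    (hfpf : ∀ u ∈ U, u ≠ 1 → ∀ x ∈ P, u * x = x * u → x = 1)
    (hfpf' : ∀ v ∈ V, v ≠ 1 → ∀ x ∈ Q, v * x = x * v → x = 1)
    (hP : (Nat.card P).Coprime P.index) (hQ : (Nat.card Q).Coprime Q.index)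
    (hu : Nat.card W₂ ≤ Nat.card U) (hv : Nat.card W₁ ≤ Nat.card V)
    (hL : IsCoatom L) (hh : h = Nat.card (Cfsg.sigmaCore L))
    (hLc : Nat.card L = Nat.card W₁ * Nat.card W₂ * h)
    {χ : G → ℂ} (hχ : SignIrr χ)
    (hne : ∀ g, g ∉ Cfsg.tildeOf L ((Cfsg.sigmaCore L : Set G) \ {1}) →
      (orderOf g).Coprime (Nat.card W₁ * Nat.card W₂) → χ g ≠ 0) :
    ((Nat.card W₂ : ℝ) + Nat.card W₁ - 4) / ((Nat.card W₁ : ℝ) * Nat.card W₂) ≤
      mass (Finset.univ.filter fun g => g ∉ Cfsg.tildeOf L ((Cfsg.sigmaCore L : Set G) \ {1}) ∧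
        (orderOf g).Coprime (Nat.card W₁ * Nat.card W₂)) χ := by
  set q := Nat.card W₁ with hqdef
  set p := Nat.card W₂ with hpdef
  set N := Nat.card G with hNdef
  set A := Cfsg.tildeOf L ((Cfsg.sigmaCore L : Set G) \ {1}) with hA
  set s := Finset.univ.filter fun g => g ∉ A ∧ (orderOf g).Coprime (q * p) with hs
  have hsum : (s.card : ℝ) ≤ ∑ g ∈ s, ‖χ g‖ ^ 2 := by
    refine P13.SignIrr.card_le hχ s (fun g hg k hk => ?_) fun g hg => ?_
    · obtain ⟨h1, h2⟩ := (Finset.mem_filter.1 hg).2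
      refine Finset.mem_filter.2 ⟨Finset.mem_univ _, fun h' => h1 (tilde_of_pow L hk h'), ?_⟩
      exact h2.coprime_dvd_left (orderOf_pow_dvd k)
    · exact hne g (Finset.mem_filter.1 hg).2.1 (Finset.mem_filter.1 hg).2.2
  set a := (Finset.univ.filter fun g => g ∈ A).card with hadef
  set r := (Finset.univ.filter fun g => g ∈ regConj W₁ W₂).card with hrdef
  set e := (Finset.univ.filter fun g => p ∣ orderOf g ∧ g ∉ regConj W₁ W₂).card with hedef
  set f := (Finset.univ.filter fun g => q ∣ orderOf g ∧ g ∉ regConj W₁ W₂).card with hfdef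
  have hcover : N ≤ s.card + a + r + e + f := by
    have hsub : (Finset.univ : Finset G) ⊆ s ∪ Finset.univ.filter (fun g => g ∈ A) ∪
        Finset.univ.filter (fun g => g ∈ regConj W₁ W₂) ∪
        Finset.univ.filter (fun g => p ∣ orderOf g ∧ g ∉ regConj W₁ W₂) ∪
        Finset.univ.filter (fun g => q ∣ orderOf g ∧ g ∉ regConj W₁ W₂) := fun g _ => by
      simp only [hs, Finset.mem_union, Finset.mem_filter, Finset.mem_univ, true_and]
      by_cases hr : g ∈ regConj W₁ W₂
      · tauto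
      by_cases hA' : g ∈ A
      · tauto
      by_cases hp : p ∣ orderOf g
      · tauto
      by_cases hq : q ∣ orderOf g
      · tauto
      exact Or.inl (Or.inl (Or.inl (Or.inl ⟨hA',
        ((D.q_prime.coprime_iff_not_dvd.2 hq).mul_left (D.p_prime.coprime_iff_not_dvd.2 hp)).symm⟩)))
    have := Finset.card_le_card hsub
    rw [Finset.card_univ, ← Nat.card_eq_fintype_card] at this
    refine this.trans ((Finset.card_union_le _ _).trans (Nat.add_le_add_right ?_ _))
    refine (Finset.card_union_le _ _).trans (Nat.add_le_add_right ?_ _)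
    exact (Finset.card_union_le _ _).trans (Nat.add_le_add_right (Finset.card_union_le _ _) _)
  have ha : a * (q * p) ≤ N := by
    have h1 : a = (h - 1) * L.index := by
      rw [hh, ← OddOrder.Support.ncard_tilde hG hL, ← hA, hadef, ← Set.ncard_coe_finset]
      congr 1
      ext g
      simp
    rw [h1, hNdef, ← Subgroup.card_mul_index L, hLc]
    calc (h - 1) * L.index * (q * p) = q * p * (h - 1) * L.index := by ring
      _ ≤ q * p * h * L.index := by
        exact Nat.mul_le_mul_right _ (Nat.mul_le_mul_left _ (Nat.sub_le _ _))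
  have hr : r * (q * p) ≤ N * ((q - 1) * (p - 1)) := by
    have h1 : r = Nat.card (regConj W₁ W₂) := by
      rw [hrdef, ← Fintype.card_subtype, ← Nat.card_eq_fintype_card]
    rw [h1]
    exact card_regular D.selfN
  have he : e * (q * p) ≤ N := by
    have h1 := card_p_elements D hfpf hP
    rw [Nat.card_eq_fintype_card, Fintype.card_subtype, ← hedef, D.card_S] at h1
    have h2 : e * (Nat.card U * q) ≤ N := by
      refine Nat.le_of_mul_le_mul_left ?_ (Nat.card_pos : 0 < Nat.card P)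
      calc Nat.card P * (e * (Nat.card U * q)) = e * (Nat.card P * Nat.card U * q) := by ring
        _ ≤ N * (Nat.card P - 1) := h1
        _ ≤ Nat.card P * N := by rw [mul_comm (Nat.card P)]; exact Nat.mul_le_mul_left _ (Nat.sub_le _ _)
    refine le_trans (Nat.mul_le_mul_left _ ?_) h2
    rw [mul_comm (Nat.card U)]
    exact Nat.mul_le_mul_left _ hu
  have hf : f * (q * p) ≤ N := by
    have h1 := card_p_elements E hfpf' hQ
    rw [regConj_swap D.selfN, Nat.card_eq_fintype_card, Fintype.card_subtype, ← hfdef, E.card_S] at h1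
    have h2 : f * (Nat.card V * p) ≤ N := by
      refine Nat.le_of_mul_le_mul_left ?_ (Nat.card_pos : 0 < Nat.card Q)
      calc Nat.card Q * (f * (Nat.card V * p)) = f * (Nat.card Q * Nat.card V * p) := by ring
        _ ≤ N * (Nat.card Q - 1) := h1
        _ ≤ Nat.card Q * N := by rw [mul_comm (Nat.card Q)]; exact Nat.mul_le_mul_left _ (Nat.sub_le _ _)
    exact le_trans (Nat.mul_le_mul_left _ (Nat.mul_le_mul_right _ hv)) h2
  have hq0 : (0 : ℝ) < q := Nat.cast_pos.2 D.q_prime.pos
  have hp0 : (0 : ℝ) < p := Nat.cast_pos.2 D.p_prime.pos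
  have hN0 : (0 : ℝ) < N := Nat.cast_pos.2 Nat.card_pos
  have hcover' : (N : ℝ) ≤ s.card + a + r + e + f := by exact_mod_cast hcover
  have ha' : (a : ℝ) * (q * p) ≤ N := by exact_mod_cast ha
  have he' : (e : ℝ) * (q * p) ≤ N := by exact_mod_cast he
  have hf' : (f : ℝ) * (q * p) ≤ N := by exact_mod_cast hf
  have hr' : (r : ℝ) * (q * p) ≤ N * (((q : ℝ) - 1) * ((p : ℝ) - 1)) := by
    have := (Nat.cast_le (α := ℝ)).2 hr
    simp only [Nat.cast_mul] at this
    rwa [Nat.cast_sub D.q_prime.one_le, Nat.cast_sub D.p_prime.one_le, Nat.cast_one] at this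
  rw [mass, ← hNdef, inv_mul_eq_div, div_le_div_iff₀ (mul_pos hq0 hp0) hN0]
  nlinarith [mul_le_mul_of_nonneg_right hcover' (mul_pos hq0 hp0).le,
    mul_le_mul_of_nonneg_right hsum (mul_pos hq0 hp0).le]

end Cfsg.Agent.OddChar.P14
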