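/-
Peterfalvi section 14: the probes coming from a maximal subgroup of Type III, obtained with the
plain Dade map on the non-identity elements of its derived subgroup.
-/
import Cfsg.Agent.Lib.OddChar.P14.Base
import Cfsg.Agent.Lib.OddChar.P12Coh
import Cfsg.Agent.Lib.OddChar.P13.Facts
import Cfsg.Agent.Lib.Char.InducedSet
import Cfsg.Agent.S1518
import Cfsg.Agent.S1537

set_option autoImplicit false
set_option linter.style.haveILetI false
set_option linter.unusedSectionVars false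

namespace Cfsg.Agent.OddChar.P14

open scoped ComplexConjugate commutatorElement
open Cfsg.Agent.Char Cfsg.Agent.Char.CyclicTI Cfsg.Agent.OddChar.P13

universe u

variable {G : Type u} [Group G]

/-- The derived subgroup of `T`, inside `T`. -/
abbrev kd (T : Subgroup G) : Subgroup T := (⁅T, T⁆ : Subgroup G).subgroupOf T

theorem kd_normal (T : Subgroup G) : (kd T).Normal := by
  refine Subgroup.normal_subgroupOf_of_le_normalizer ?_
  exact Subgroup.normalizer_commutator_ge_left T T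

variable [Fintype G] {T V W₁ W₂ : Subgroup G}

section

variable (hP : Cfsg.IsTypePWith T W₂ V W₁)
include hP

theorem derived_eq : Cfsg.fittingHallOf T ⊔ V = ⁅T, T⁆ := by
  refine le_antisymm (sup_le hP.U_compl.1 hP.U_compl.2.1) fun m hm => ?_
  obtain ⟨a, ha, b, hb, rfl⟩ := hP.U_compl.2.2.2 m hm
  exact Subgroup.mul_mem_sup ha hb

theorem index_kd : (kd T).index = Nat.card W₂ :=
  OddOrder.Compl.relIndex_left hP.W₁_compl

/-- A linear character of `V`, inflated to the derived subgroup. -/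
theorem exists_inflation (θ : V →* ℂˣ) :
    ∃ f : kd T →* ℂˣ, ∀ (v : V) (k : kd T), ((k : T) : G) = v → f k = θ v := by
  obtain ⟨ξ, -, hξ⟩ := exists_ext (N := Cfsg.fittingHallOf T) (B := V)
    ((le_sup_left.trans (UW_le_normalizer hP))) hP.U_compl.2.2.1 1 θ (by simp)
  have hle : ∀ k : kd T, ((k : T) : G) ∈ Cfsg.fittingHallOf T ⊔ V := fun k => by
    rw [derived_eq hP]
    exact Subgroup.mem_subgroupOf.1 k.2
  exact ⟨ξ.comp (MonoidHom.mk' (fun k => ⟨_, hle k⟩) fun a b => rfl), fun v k e => hξ v _ e⟩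

/-- The inflation. -/
noncomputable def infl (θ : V →* ℂˣ) : kd T →* ℂˣ := (exists_inflation hP θ).choose

theorem infl_apply (θ : V →* ℂˣ) (v : V) (k : kd T) (h : ((k : T) : G) = v) : infl hP θ k = θ v :=
  (exists_inflation hP θ).choose_spec v k h

theorem mem_kd {g : G} (hg : g ∈ V) :
    (⟨g, P13.U_le hP hg⟩ : T) ∈ kd T := Subgroup.mem_subgroupOf.2 (hP.U_compl.2.1 hg)

theorem infl_injective : Function.Injective (infl hP) := fun θ θ' h => MonoidHom.ext fun v => by
  rw [← infl_apply hP θ v ⟨⟨v, P13.U_le hP v.2⟩, mem_kd hP v.2⟩ rfl,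
    ← infl_apply hP θ' v ⟨⟨v, P13.U_le hP v.2⟩, mem_kd hP v.2⟩ rfl, h]

theorem infl_one_iff {θ : V →* ℂˣ} (h : infl hP θ = 1) : θ = 1 := MonoidHom.ext fun v => by
  rw [← infl_apply hP θ v ⟨⟨v, P13.U_le hP v.2⟩, mem_kd hP v.2⟩ rfl, h]
  rfl

/-- Every element of `T` is an element of the derived subgroup times one of `W₂`. -/
theorem exists_factor (g : T) : ∃ k ∈ kd T, ∃ w : T, (w : G) ∈ W₂ ∧ g = k * w := by
  obtain ⟨a, ha, b, hb, e⟩ := hP.W₁_compl.2.2.2 g g.2
  exact ⟨⟨a, hP.W₁_compl.1 ha⟩, Subgroup.mem_subgroupOf.2 ha, ⟨b, hP.W₁_compl.2.1 hb⟩, hb,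
    Subtype.ext e⟩

theorem conjChar_infl {θ : V →* ℂˣ} (g : T) :
    haveI := kd_normal T
    ∃ w : T, (w : G) ∈ W₂ ∧ conjChar (kd T) g (lf (infl hP θ)) = conjChar (kd T) w (lf (infl hP θ)) ∧
      (g ∈ kd T ↔ w = 1) := by
  haveI := kd_normal T
  obtain ⟨k, hk, w, hw, rfl⟩ := exists_factor hP g
  refine ⟨w, hw, ?_, fun h => ?_, fun h => by rw [h, mul_one]; exact hk⟩
  · rw [conjChar_mul, conjChar_of_mem _ (isClassFunction_lf _) hk]
  · have hw' : w ∈ kd T := by simpa using (kd T).mul_mem ((kd T).inv_mem hk) h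
    have : (w : G) ∈ ⁅T, T⁆ ⊓ W₂ := ⟨Subgroup.mem_subgroupOf.1 hw', hw⟩
    rw [hP.W₁_compl.2.2.1, Subgroup.mem_bot] at this
    exact Subtype.ext this

theorem stab_infl (hab : IsMulCommutative V) {θ : V →* ℂˣ} (hθ : θ ≠ 1) (g : T) :
    haveI := kd_normal T
    conjChar (kd T) g (lf (infl hP θ)) = lf (infl hP θ) ↔ g ∈ kd T := by
  haveI := kd_normal T
  refine ⟨fun hg => ?_, fun hg => conjChar_of_mem _ (isClassFunction_lf _) hg⟩
  obtain ⟨w, hw, hgw, hiff⟩ := conjChar_infl hP (θ := θ) g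
  rw [hiff]
  by_contra hw1
  have hw1' : (w : G) ≠ 1 := fun e => hw1 (Subtype.ext e)
  rw [hgw] at hg
  haveI := hab
  have hcV : ∀ v : V, (w : G) * v * (w : G)⁻¹ ∈ V := fun v =>
    (Subgroup.mem_normalizer_iff.1 (hP.U_normal hw) v).1 v.2
  let cw : V → V := fun v => ⟨_, hcV v⟩
  have hfix : ∀ v : V, θ (cw v * v⁻¹) = 1 := fun v => by
    have h := congrFun hg ⟨⟨v, P13.U_le hP v.2⟩, mem_kd hP v.2⟩
    have h' := Units.ext h
    rw [infl_apply hP θ (cw v) _ rfl, infl_apply hP θ v _ rfl] at h'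
    rw [map_mul, map_inv, h', mul_inv_cancel]
  have hinj : Function.Injective fun v : V => cw v * v⁻¹ := by
    intro a b hab'
    have e : cw (a * b⁻¹) = a * b⁻¹ := by
      have h1 : cw (a * b⁻¹) = cw a * (cw b)⁻¹ := Subtype.ext (show _ = _ * _⁻¹ by
        simp only [cw, Subgroup.coe_mul, Subgroup.coe_inv]; group)
      have h2 : cw a * (cw b)⁻¹ = a * b⁻¹ := by
        have : cw a = cw b * b⁻¹ * a := mul_inv_eq_iff_eq_mul.1 hab'
        rw [this, mul_assoc (cw b), mul_comm' (cw b), mul_inv_cancel_right, mul_comm']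
      rw [h1, h2]
    have h1 := P13.fpf hP hw hw1' (a * b⁻¹).2 (mul_inv_eq_iff_eq_mul.1 (congrArg Subtype.val e))
    exact mul_inv_eq_one.1 (Subtype.ext h1)
  refine hθ (MonoidHom.ext fun v => ?_)
  obtain ⟨u, hu⟩ := (Finite.injective_iff_surjective.1 hinj) v
  rw [← hu, hfix]
  rfl

variable [Fintype T]

theorem xi_irr (hab : IsMulCommutative V) {θ : V →* ℂˣ} (hθ : θ ≠ 1) :
    Cfsg.IsIrrCharacter T (Cfsg.indFun (kd T) (lf (infl hP θ))) := by
  classical
  haveI := kd_normal T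
  haveI : Fintype (kd T) := Fintype.ofFinite _
  have hi := isIrrCharacter_linear (infl hP θ)
  refine IsCharacter.isIrr_of_norm_one (isCharacter_indFun _ (IsIrrCharacter.isCharacter hi)) ?_
  rw [classInner_indFun_normal _ hi hi,
    Nat.card_congr (Equiv.subtypeEquivRight fun g => stab_infl hP hab hθ g)]
  exact inv_mul_cancel₀ (Nat.cast_ne_zero.mpr Nat.card_pos.ne')

theorem ind_one_value (θ : kd T →* ℂˣ) :
    Cfsg.indFun (kd T) (lf θ) 1 = (Nat.card W₂ : ℂ) := by
  classical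
  rw [indFun_one_apply, ← index_kd hP]
  simp [lf]

/-- The number of inflations with the same induced character is at most `|W₂|`. -/
theorem fibre_le (θ₀ : V →* ℂˣ) :
    Nat.card {θ : V →* ℂˣ //
      Cfsg.indFun (kd T) (lf (infl hP θ)) = Cfsg.indFun (kd T) (lf (infl hP θ₀))} ≤ Nat.card W₂ := by
  classical
  haveI := kd_normal T
  have hch : ∀ θ : {θ : V →* ℂˣ //
      Cfsg.indFun (kd T) (lf (infl hP θ)) = Cfsg.indFun (kd T) (lf (infl hP θ₀))},
      ∃ (w : T) (hw : (w : G) ∈ W₂), conjChar (kd T) w (lf (infl hP θ₀)) = lf (infl hP θ.1) := fun θ => by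
    obtain ⟨g, hg⟩ := (IndSet.ind_eq_iff _ (isIrrCharacter_linear (infl hP θ₀))
      (isIrrCharacter_linear (infl hP θ.1))).1 θ.2.symm
    obtain ⟨w, hw, he, -⟩ := conjChar_infl hP (θ := θ₀) g
    exact ⟨w, hw, he.symm.trans hg⟩
  choose w hw he using hch
  refine Nat.card_le_card_of_injective (fun θ => (⟨w θ, hw θ⟩ : W₂)) fun θ θ' e => ?_
  have e' : w θ = w θ' := Subtype.ext (congrArg (fun z : W₂ => (z : G)) e)
  have h := (he θ).symm.trans ((congrArg (fun z => conjChar (kd T) z (lf (infl hP θ₀))) e').trans (he θ'))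
  exact Subtype.ext (infl_injective hP (lf_injective h))

end

variable (hG : Cfsg.IsMinSimpleOddOrder G) (hT : IsCoatom T) (hP : Cfsg.IsTypePWith T W₂ V W₁)
  (hIII : Cfsg.IsOfTypeIII T)
include hG hT hP hIII

theorem sigmaCore_eq : Cfsg.sigmaCore T = ⁅T, T⁆ := by
  rw [← OddOrder.Types.typeCore_eq hG hT, Cfsg.typeCore, if_pos (Or.inl hIII)]

variable [Fintype T]

open Classical in
/-- The probe attached to one linear character. -/
theorem exists_probe {θ : V →* ℂˣ} (hθ : θ ≠ 1) :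
    ∃ μ : G → ℂ, Cfsg.IsIrrCharacter G μ ∧
      Cfsg.dadeIsometry (Cfsg.typeA1 T) T (Cfsg.supportR T)
        (Cfsg.indFun (kd T) (lf (infl hP θ)) - Cfsg.conjFun (Cfsg.indFun (kd T) (lf (infl hP θ)))) =
          μ - Cfsg.conjFun μ ∧
      ∃ Φ, Probe (Cfsg.tildeOf T ((Cfsg.sigmaCore T : Set G) \ {1})) (Nat.card W₂ + 1) Φ μ := by
  haveI := kd_normal T
  haveI : Fintype (kd T) := Fintype.ofFinite _
  obtain ⟨-, hp, hab, -, -⟩ := typeIII_facts hG hT hP hIII
  have hA : Cfsg.typeA1 T = (Cfsg.sigmaCore T : Set G) \ {1} := OddOrder.TypeA.typeA1_eq hG hT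
  have hA' : ∀ x : T, (x : G) ∉ Cfsg.typeA1 T → x ≠ 1 → x ∉ kd T := fun x hx hx1 hk => hx (by
    rw [hA, sigmaCore_eq hG hT hP hIII]
    exact ⟨Subgroup.mem_subgroupOf.1 hk, fun e => hx1 (Subtype.ext e)⟩)
  have hD := (S1537.result hG T hT _ (Or.inl rfl)).2
  have hoddG : Odd (Nat.card G) := hG.1
  set A := Cfsg.typeA1 T with hAdef
  set f := lf (infl hP θ) with hf
  set ξ := Cfsg.indFun (kd T) f with hξdef
  set one : kd T → ℂ := lf (1 : kd T →* ℂˣ) with honedef
  set π := Cfsg.indFun (kd T) one with hπdef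
  set Ψ := π - ξ with hΨ
  have hξ : Cfsg.IsIrrCharacter T ξ := xi_irr hP hab hθ
  have hξ1 : ξ 1 = (Nat.card W₂ : ℂ) := ind_one_value hP _
  have hπ1 : π 1 = (Nat.card W₂ : ℂ) := ind_one_value hP _
  have hsupp : ∀ x : T, x ≠ 1 → (x : G) ∉ A → ξ x = 0 := fun x hx1 hx =>
    indFun_eq_zero_of_not_mem _ _ (hA' x hx hx1)
  obtain ⟨μ, hμ, hdμ⟩ := S1518.result A T (Cfsg.supportR T) hD ξ hξ hsupp
  refine ⟨μ, hμ, hdμ, Cfsg.dadeIsometry A T (Cfsg.supportR T) Ψ, ?_⟩
  have hξ' : Cfsg.IsIrrCharacter T (Cfsg.conjFun ξ) := IsIrrCharacter.conj hξ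
  have hne : ξ ≠ fun _ => 1 := fun e => hp.ne_one (by
    have := hξ1.symm.trans (congrFun e 1)
    exact_mod_cast this)
  have hξne : Cfsg.conjFun ξ ≠ ξ := fun e => hne (congrArg Subtype.val
    (FHT.bar_eq_self (θ := (⟨ξ, hξ⟩ : Cfsg.IrrCharacter T))
      (hoddG.of_dvd_nat (Subgroup.card_subgroup_dvd_card T)) (Subtype.ext e)))
  have hone' : Cfsg.IsIrrCharacter (kd T) one := isIrrCharacter_linear _
  have hfirr : Cfsg.IsIrrCharacter (kd T) f := isIrrCharacter_linear _
  have hπgen : Cfsg.IsGeneralizedCharacter T π :=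
    IsGeneralizedCharacter.indFun _ (IsGeneralizedCharacter.of_isCharacter (IsIrrCharacter.isCharacter hone'))
  have hξgen : Cfsg.IsGeneralizedCharacter T ξ :=
    IsGeneralizedCharacter.of_isCharacter (IsIrrCharacter.isCharacter hξ)
  have hΨgen : Cfsg.IsGeneralizedCharacter T Ψ := IsGeneralizedCharacter.sub hπgen hξgen
  have hΨA : ∀ x : T, (x : G) ∉ A → Ψ x = 0 := fun x hx => by
    rcases eq_or_ne x 1 with rfl | hx1
    · rw [hΨ, Pi.sub_apply, hπ1, hξ1, sub_self]
    · rw [hΨ, Pi.sub_apply, hπdef, hξdef, indFun_eq_zero_of_not_mem _ _ (hA' x hx hx1),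
        indFun_eq_zero_of_not_mem _ _ (hA' x hx hx1), sub_self]
  have hΨc := IsGeneralizedCharacter.isClassFunction hΨgen
  have hπξ : Cfsg.classInner π ξ = 0 := by
    rw [hπdef, hξdef, classInner_indFun_normal _ hone' hfirr]
    haveI : IsEmpty {g : T // conjChar (kd T) g one = f} :=
      ⟨fun g => hθ (infl_one_iff hP (lf_injective (g.2.symm.trans (funext fun _ => rfl))))⟩
    rw [Nat.card_of_isEmpty (α := {g : T // conjChar (kd T) g one = f}), Nat.cast_zero, mul_zero]
  have hξπ : Cfsg.classInner ξ π = 0 := by rw [← classInner_conj_symm π ξ, hπξ, map_zero]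
  have hππ : Cfsg.classInner π π = (Nat.card W₂ : ℂ) := by
    rw [hπdef, classInner_indFun_normal _ hone' hone',
      Nat.card_congr (Equiv.subtypeUnivEquiv (α := T) (p := fun g => conjChar (kd T) g one = one) fun g => rfl),
      ← Subgroup.card_mul_index (kd T), index_kd hP, Nat.cast_mul, inv_mul_cancel_left₀]
    exact Nat.cast_ne_zero.mpr Nat.card_pos.ne'
  have hπone : Cfsg.classInner π (fun _ => 1) = 1 := by
    rw [hπdef, classInner_indFun_left _ _ (fun _ _ => rfl), honedef]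
    exact classInner_self_irr hone'
  have hξone : Cfsg.classInner ξ (fun _ => 1) = 0 := by
    rw [classInner_irr hξ isIrrCharacter_one, if_neg hne]
  have hdconj : ∀ α : T → ℂ, Cfsg.conjFun (Cfsg.dadeIsometry A T (Cfsg.supportR T) α) =
      Cfsg.dadeIsometry A T (Cfsg.supportR T) (Cfsg.conjFun α) := fun α => by
    funext g
    simp only [Cfsg.conjFun, Cfsg.dadeIsometry]
    split <;> simp
  have htilde : ∀ α : T → ℂ, ∀ g : G, g ∉ Cfsg.tildeOf T ((Cfsg.sigmaCore T : Set G) \ {1}) →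
      Cfsg.dadeIsometry A T (Cfsg.supportR T) α g = 0 := fun α g hg => by
    rw [Cfsg.dadeIsometry, dif_neg]
    rintro ⟨a, ha, x, r, hr, e⟩
    refine hg ⟨a, by rw [← hA]; exact ha, r, hr, x⁻¹, ?_⟩
    rw [← e]
    group
  have hd0 : μ ≠ Cfsg.conjFun μ := fun e => by
    rw [← e, sub_self] at hdμ
    have hαgen : Cfsg.IsGeneralizedCharacter T (ξ - Cfsg.conjFun ξ) := IsGeneralizedCharacter.sub hξgen
      (IsGeneralizedCharacter.of_isCharacter (IsIrrCharacter.isCharacter hξ'))
    have hαA : ∀ x : T, (x : G) ∉ A → (ξ - Cfsg.conjFun ξ) x = 0 := fun x hx => by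
      rcases eq_or_ne x 1 with rfl | hx1
      · simp [Cfsg.conjFun, hξ1]
      · simp [Cfsg.conjFun, hsupp x hx1 hx]
    have hc := IsGeneralizedCharacter.isClassFunction hαgen
    have h := (S1500.result A T _ hD _ hc hαA).1 _ hc hαA
    rw [hdμ, classInner_sub_left, classInner_sub_right, classInner_sub_right, classInner_irr hξ hξ,
      classInner_irr hξ' hξ', classInner_irr hξ hξ', classInner_irr hξ' hξ, if_pos rfl, if_pos rfl,
      if_neg hξne, if_neg (Ne.symm hξne)] at h
    simp [Cfsg.classInner] at h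
    norm_num at h
  refine ⟨Or.inl hμ, fun e => hd0 e.symm, fun e => ?_, Dade.isGeneralizedCharacter_dade hD hΨgen hΨA,
    ?_, ?_, ?_, htilde Ψ, fun g hg => by rw [← hdμ]; exact htilde _ g hg⟩
  · obtain ⟨d, hd0', hd⟩ := IsIrrCharacter.exists_degree hμ
    have := congrFun e 1
    simp only [Cfsg.conjFun, Pi.neg_apply, hd, map_natCast] at this
    have h2 : (d : ℂ) = 0 := by linear_combination this / 2
    exact hd0'.ne' (Nat.cast_eq_zero.1 h2)
  · have hπr : Cfsg.conjFun π = π := by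
      rw [hπdef, IndSet.conjFun_indFun, honedef]
      congr 1
      funext k
      simp [Cfsg.conjFun, lf]
    have h1 : Cfsg.conjFun Ψ = Ψ + (ξ - Cfsg.conjFun ξ) := by
      rw [hΨ]
      funext x
      simp only [Cfsg.conjFun, Pi.add_apply, Pi.sub_apply, map_sub]
      rw [show conj (π x) = π x from congrFun hπr x]
      ring
    have h2 : Cfsg.conjFun (Cfsg.dadeIsometry A T (Cfsg.supportR T) Ψ) =
        Cfsg.dadeIsometry A T (Cfsg.supportR T) Ψ + (μ - Cfsg.conjFun μ) := by
      rw [hdconj, h1, P12.dade_add, hdμ]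
    funext g
    have := congrFun h2 g
    simp only [Cfsg.conjFun, Pi.add_apply, Pi.sub_apply, map_add] at this ⊢
    rw [this]
    ring
  · rw [(S1500.result A T _ hD Ψ hΨc hΨA).2 (fun _ => 1) (fun _ => 1) (fun _ _ => rfl) fun a _ => by
      rw [finsum_mem_eq_finite_toFinset_sum _ (Set.toFinite _), Finset.sum_const, nsmul_eq_mul, mul_one,
        ← Nat.card_eq_card_finite_toFinset]
      exact (inv_mul_cancel₀ (Nat.cast_ne_zero.mpr Nat.card_pos.ne')).symm,
      hΨ, classInner_sub_left, hπone, hξone, sub_zero]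
  · rw [(S1500.result A T _ hD Ψ hΨc hΨA).1 Ψ hΨc hΨA, hΨ, classInner_sub_left, classInner_sub_right,
      classInner_sub_right, hππ, hπξ, hξπ, classInner_self_irr hξ]
    simp

omit [Fintype T] in
/-- **Probes of a member of Type III.** -/
theorem typeIII_probes : ∃ M : Finset (G → ℂ), Nat.card V ≤ M.card * Nat.card W₂ + 1 ∧
    (∀ μ ∈ M, Cfsg.IsIrrCharacter G μ) ∧ ∀ μ ∈ M,
      ∃ Φ, Probe (Cfsg.tildeOf T ((Cfsg.sigmaCore T : Set G) \ {1})) (Nat.card W₂ + 1) Φ μ := by
  classical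
  haveI : Fintype T := Fintype.ofFinite T
  haveI := kd_normal T
  obtain ⟨-, hp, hab, -, -⟩ := typeIII_facts hG hT hP hIII
  haveI := hab
  haveI := finite_dual V
  haveI : Fintype (V →* ℂˣ) := Fintype.ofFinite _
  have hex : ∀ θ : {θ : V →* ℂˣ // θ ≠ 1}, _ := fun θ => exists_probe hG hT hP hIII θ.2
  choose μ hμ hd hprobe using hex
  refine ⟨Finset.univ.image μ, ?_, fun m hm => ?_, fun m hm => ?_⟩
  · have hfib : ∀ m ∈ Finset.univ.image μ, (Finset.univ.filter fun θ => μ θ = m).card ≤ Nat.card W₂ := by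
      intro m hm
      obtain ⟨θ₀, -, rfl⟩ := Finset.mem_image.1 hm
      refine le_trans ?_ (fibre_le hP θ₀.1)
      rw [Nat.card_eq_fintype_card, ← Finset.card_univ]
      refine Finset.card_le_card_of_injOn
        (fun θ => if h : _ then (⟨θ.1, h⟩ : {θ : V →* ℂˣ //
          Cfsg.indFun (kd T) (lf (infl hP θ)) = Cfsg.indFun (kd T) (lf (infl hP θ₀.1))}) else ⟨θ₀.1, rfl⟩)
        (fun _ _ => Finset.mem_coe.2 (Finset.mem_univ _)) ?_
      have key : ∀ θ, μ θ = μ θ₀ → Cfsg.indFun (kd T) (lf (infl hP θ.1)) =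
          Cfsg.indFun (kd T) (lf (infl hP θ₀.1)) := by
        intro θ e
        by_contra hne
        have hD := (S1537.result hG T hT _ (Or.inl rfl)).2
        have h1 := (hd θ).trans ((congrArg (fun m => m - Cfsg.conjFun m) e).trans (hd θ₀).symm)
        set a := Cfsg.indFun (kd T) (lf (infl hP θ.1)) with ha'
        set b := Cfsg.indFun (kd T) (lf (infl hP θ₀.1)) with hb'
        have ha : Cfsg.IsIrrCharacter T a := xi_irr hP hab θ.2
        have hb : Cfsg.IsIrrCharacter T b := xi_irr hP hab θ₀.2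
        have hgen : ∀ c : T → ℂ, Cfsg.IsIrrCharacter T c →
            Cfsg.IsClassFunction T (c - Cfsg.conjFun c) := fun c hc =>
          IsClassFunction.sub (IsCharacter.isClassFunction (IsIrrCharacter.isCharacter hc))
            (IsCharacter.isClassFunction (IsIrrCharacter.isCharacter (IsIrrCharacter.conj hc)))
        have hsupp : ∀ φ : kd T →* ℂˣ, ∀ x : T, (x : G) ∉ Cfsg.typeA1 T →
            (Cfsg.indFun (kd T) (lf φ) - Cfsg.conjFun (Cfsg.indFun (kd T) (lf φ))) x = 0 := fun φ x hx => by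
          rcases eq_or_ne x 1 with rfl | hx1
          · simp [Cfsg.conjFun, ind_one_value hP φ]
          · have hxk : x ∉ kd T := fun hk => hx (by
              rw [OddOrder.TypeA.typeA1_eq hG hT, sigmaCore_eq hG hT hP hIII]
              exact ⟨Subgroup.mem_subgroupOf.1 hk, fun e => hx1 (Subtype.ext e)⟩)
            simp [Cfsg.conjFun, indFun_eq_zero_of_not_mem _ _ hxk]
        have h2 := (S1500.result _ T _ hD _ (hgen a ha) (hsupp _)).1 _ (hgen a ha) (hsupp _)
        have h3 := (S1500.result _ T _ hD _ (hgen a ha) (hsupp _)).1 _ (hgen b hb) (hsupp _)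
        rw [← h1, h2] at h3
        have ha2 : Cfsg.IsIrrCharacter T (Cfsg.conjFun a) := IsIrrCharacter.conj ha
        have hb2 : Cfsg.IsIrrCharacter T (Cfsg.conjFun b) := IsIrrCharacter.conj hb
        have hcc : Cfsg.conjFun a ≠ Cfsg.conjFun b := fun e => hne (funext fun x =>
          (starRingEnd ℂ).injective (congrFun e x))
        have hane : Cfsg.conjFun a ≠ a := fun e => hp.ne_one (by
          have h1 := congrArg Subtype.val (FHT.bar_eq_self (θ := (⟨a, ha⟩ : Cfsg.IrrCharacter T))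
            (hG.1.of_dvd_nat (Subgroup.card_subgroup_dvd_card T)) (Subtype.ext e))
          have h2 : (Nat.card W₂ : ℂ) = 1 := (ind_one_value hP (infl hP θ.1)).symm.trans (congrFun h1 1)
          exact_mod_cast h2)
        simp only [classInner_sub_left, classInner_sub_right, classInner_irr ha ha,
          classInner_irr ha2 ha2, classInner_irr ha ha2, classInner_irr ha2 ha, classInner_irr ha hb,
          classInner_irr ha hb2, classInner_irr ha2 hb, classInner_irr ha2 hb2, if_pos,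
          if_neg hne, if_neg hcc, if_neg hane, if_neg (Ne.symm hane)] at h3
        split_ifs at h3 <;> norm_num at h3
      intro x hx y hy e
      have hx' := (Finset.mem_filter.1 (Finset.mem_coe.1 hx)).2
      have hy' := (Finset.mem_filter.1 (Finset.mem_coe.1 hy)).2
      simp only [dif_pos (key x hx'), dif_pos (key y hy')] at e
      have e2 := congrArg Subtype.val e
      exact Subtype.ext e2
    have h := Finset.card_le_mul_card_image (Finset.univ : Finset {θ : V →* ℂˣ // θ ≠ 1})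
      (Nat.card W₂) hfib
    have h0 : Fintype.card {θ : V →* ℂˣ // θ ≠ 1} = Nat.card V - 1 := by
      rw [Fintype.card_subtype_compl, Fintype.card_subtype_eq, ← Nat.card_eq_fintype_card,
        card_hom (H := V)]
    rw [Finset.card_univ, h0, mul_comm] at h
    omega
  · obtain ⟨θ, -, rfl⟩ := Finset.mem_image.1 hm
    exact hμ θ
  · obtain ⟨θ, -, rfl⟩ := Finset.mem_image.1 hm
    exact hprobe θ

end Cfsg.Agent.OddChar.P14
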