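/-
Peterfalvi section 14: the bound on the order of the kernel of `L` for a pair with `|L : H| = q p`,
by the parities of the coefficients `b`, `c` and the probes coming from the other member.
-/
import Cfsg.Agent.Lib.OddChar.P14.Cases
import Cfsg.Agent.Lib.OddChar.P14.GaloisMass
import Cfsg.Agent.Lib.OddChar.P14.Arith
import Cfsg.Agent.Lib.OddChar.P14.TypeThree
import Cfsg.Agent.Lib.OddOrder.PartnerCount

set_option autoImplicit false
set_option linter.unusedSectionVars false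
set_option linter.unusedVariables false
set_option linter.style.haveILetI false

namespace Cfsg.Agent.OddChar.P14

open scoped ComplexConjugate commutatorElement
open Cfsg.Agent.Char Cfsg.Agent.Char.CyclicTI Cfsg.Agent.OddChar.P13

universe u

variable {G : Type u} [Group G] [Fintype G]

/-- What the bound uses of the member `T`: the probes of Type III, or a maximal subgroup of Type I
over `V` for Type II. -/
def OtherSide (T V W₁ W₂ : Subgroup G) : Prop :=
  ((∀ (x : W₁) (y : W₂), x ≠ 1 → y ≠ 1 → (x : G) * y ∉ tilde T) ∧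
    ∃ M : Finset (G → ℂ), Nat.card V ≤ M.card * Nat.card W₂ + 1 ∧
      (∀ μ ∈ M, Cfsg.IsIrrCharacter G μ) ∧ ∀ μ ∈ M, ∃ Φ, Probe (tilde T) (Nat.card W₂ + 1) Φ μ) ∨
  ∃ (M : Subgroup G) (e : ℕ), P12.FrobOne M ∧
    Nat.card M = e * Nat.card (Cfsg.fittingHallOf M) ∧ e ≤ Nat.card W₁ * Nat.card W₂ ∧
    (Nat.card W₁ * Nat.card W₂).Coprime (Nat.card (Cfsg.fittingHallOf M)) ∧ V ≤ Cfsg.fittingHallOf M

/-- For a member of Type III the regular elements lie outside `T̃`. -/
theorem reg_not_tilde_III (hG : Cfsg.IsMinSimpleOddOrder G) {T V W₁ W₂ : Subgroup G}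
    (hT : IsCoatom T) (hP : Cfsg.IsTypePWith T W₂ V W₁) (hIII : Cfsg.IsOfTypeIII T)
    (h3 : TypeThreeFacts G) (hq : (Nat.card W₁).Prime) (hp : (Nat.card W₂).Prime)
    (hW : Cfsg.IsSelfNormalizingCyclic W₁ W₂) (x : W₁) (y : W₂) (hx : x ≠ 1) (hy : y ≠ 1) :
    (x : G) * y ∉ tilde T := by
  rintro ⟨a, ⟨ha, ha1⟩, r, hr, t, e⟩
  obtain ⟨hlt, hel, hcard, hC⟩ := h3 T W₂ V W₁ hT hIII hP
  have ha' : a ∈ Cfsg.typeA1 T := by rw [OddOrder.TypeA.typeA1_eq hG hT]; exact ⟨ha, ha1⟩
  have haT : a ∈ Cfsg.typeA0 T := by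
    refine Or.inl (OddOrder.TypeA.mem_typeA hG hT ((OddOrder.Exceptional.sigmaCore_le T) ha) ha1 ?_ ⟨a, ha, ha1, rfl⟩)
    intro _
    rw [sigmaCore_eq hG hT hP hIII] at ha
    exact ha
  have hcent := P13.typeIII_centralizer_le hG hT hP hIII hq hlt hel hcard hC haT
  rw [OddOrder.TypeA.supportR_eq_bot hG hT hcent, Subgroup.mem_bot] at hr
  rw [hr, mul_one] at e
  have hpa : Nat.card W₂ ∣ orderOf a := by
    have hc : Commute (x : G) (y : G) := hW.2.2.2.1 x x.2 y y.2
    have h1 : ((x : G) * y) ^ orderOf a = 1 := by rw [e, conj_pow, pow_orderOf_eq_one, mul_one, mul_inv_cancel]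
    rw [hc.mul_pow, mul_eq_one_iff_eq_inv] at h1
    have h2 : (x : G) ^ orderOf a ∈ W₁ ⊓ W₂ := ⟨W₁.pow_mem x.2 _, by rw [h1]; exact W₂.inv_mem (W₂.pow_mem y.2 _)⟩
    rw [hW.2.2.1, Subgroup.mem_bot] at h2
    rw [h2, eq_comm, inv_eq_one] at h1
    haveI := Fact.mk hp
    have hyo : orderOf y = Nat.card W₂ := orderOf_eq_prime pow_card_eq_one' hy
    rw [← hyo, ← Subgroup.orderOf_coe]
    exact orderOf_dvd_of_pow_eq_one h1
  rw [sigmaCore_eq hG hT hP hIII] at ha
  exact hp.ne_one (Nat.eq_one_of_dvd_coprimes (P13.coprime_W₁_derived hP) dvd_rfl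
    (hpa.trans (Subgroup.orderOf_dvd_natCard _ ha)))

variable {L : Subgroup G} {W₁ W₂ : Subgroup G} {η : (W₁ →* ℂˣ) → (W₂ →* ℂˣ) → G → ℂ} {e h : ℕ}
  {ι : Type u} [Fintype ι] {d : ι → ℕ} {i₀ : ι} {w : ι → G → ℂ} {Φ : G → ℂ}

/-- With `k = 0` a probe on a set disjoint from `L̃` has an odd coefficient on `Φ`, or bounds `h`. -/
theorem Block.probe_alt (B : Block L e h d i₀ w Φ) (hodd : Odd (Nat.card G))
    (hk : Cfsg.classInner Φ (w i₀) = -1) {A : Set G} (hA : Disjoint (tilde L) A) {N : ℕ}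
    {Φ' μ : G → ℂ} (P : Probe A N Φ' μ) :
    (∃ k : ℤ, Odd k ∧ Cfsg.classInner Φ μ = k) ∨ h ≤ e * N := by
  classical
  rcases B.probe.parity hodd hA P with h1 | ⟨k, hk1, hk2⟩
  · exact Or.inl h1
  refine Or.inr ?_
  set s : Finset G := Finset.univ.filter fun g => g ∈ A with hs
  have h2 := inner_sq_le s (w i₀) Φ' fun g hg => P.supp g (by simpa [hs] using hg)
  rw [hk2, Complex.norm_intCast, sq_abs] at h2
  have hk0 : k ≠ 0 := by rintro rfl; simp at hk1
  have h3 : (1 : ℝ) ≤ (k : ℝ) ^ 2 := by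
    exact_mod_cast (one_le_sq_iff_one_le_abs k).mpr (Int.one_le_abs hk0)
  have h4 := mass_add_le (s := tildeFin L) (t := s) (Finset.disjoint_left.2 fun g h1 h2 =>
    Set.disjoint_left.1 hA (by simpa [tildeFin] using h1) (by simpa [hs] using h2)) (w i₀)
  rw [signIrr_norm (B.sign i₀), Complex.one_re] at h4
  have h5 : P14.mass s (w i₀) ≤ (e : ℝ) / h := by linarith [B.mass hk]
  have h6 : (1 : ℝ) ≤ (e : ℝ) / h * N :=
    h3.trans (h2.trans (mul_le_mul h5 P.norm (classInner_self_nonneg _) (div_nonneg (Nat.cast_nonneg e) (Nat.cast_nonneg h))))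
  have hh : (0 : ℝ) < h := by exact_mod_cast lt_of_le_of_lt (Nat.zero_le e) B.e_lt
  rw [div_mul_eq_mul_div, le_div_iff₀ hh, one_mul] at h6
  exact_mod_cast h6

/-- The bound. -/
theorem exists_bound (hG : Cfsg.IsMinSimpleOddOrder G) {S T P U Q V : Subgroup G}
    (D : Side S P U W₁ W₂) (E : Side T Q V W₂ W₁) (hC : cpart P U = ⊥) (hC' : cpart Q V = ⊥)
    (hfpf : ∀ u ∈ U, u ≠ 1 → ∀ x ∈ P, u * x = x * u → x = 1)
    (hfpf' : ∀ v ∈ V, v ≠ 1 → ∀ x ∈ Q, v * x = x * v → x = 1)
    (hP : (Nat.card P).Coprime P.index) (hQ : (Nat.card Q).Coprime Q.index)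
    (hlt : Nat.card W₁ < Nat.card W₂) (hu : Nat.card W₂ ≤ Nat.card U)
    (hv : Nat.card V * (Nat.card W₁ - 1) = Nat.card W₁ ^ Nat.card W₂ - 1)
    (hT : IsCoatom T) (hTs : OtherSide T V W₁ W₂) (hL : P12.FrobOne L)
    (hh : Nat.card (Cfsg.fittingHallOf L) = h) (hLc : Nat.card L = Nat.card W₁ * Nat.card W₂ * h)
    (hcop : (Nat.card W₁ * Nat.card W₂).Coprime h) :
    (h ≤ Nat.card W₂ * (Nat.card U - 1) + 1 ∨
        h ≤ Nat.card W₁ * Nat.card W₂ * (Nat.card W₁ * Nat.card W₂ + 1) + 1 ∨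
        (Nat.card W₁ = 3 ∧ Nat.card W₂ = 5 ∧ h ≤ Nat.card W₁ * (Nat.card V - 1) + 1)) ∨
      (h ≤ Nat.card W₁ * (Nat.card V - 1) + 1 ∧
        ∃ g : G, V.map (MulAut.conj g).toMonoidHom ≤ Cfsg.fittingHallOf L) := by
  classical
  haveI : Fintype L := Fintype.ofFinite L
  have hodd := hG.1
  have hW := D.selfN
  set q := Nat.card W₁ with hqdef
  set p := Nat.card W₂ with hpdef
  obtain ⟨ι, _, d, i₀, w, Φ, B⟩ := exists_block hG hL (e := q * p) hh hLc
  obtain ⟨η, F⟩ := exists_fam hW hodd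
  have hcop' : (q * p).Coprime (Nat.card (Cfsg.fittingHallOf L)) := hh ▸ hcop
  have hV : ∀ (x : W₁) (y : W₂), x ≠ 1 → y ≠ 1 → (x : G) * y ∉ tilde L :=
    fun x y _ _ => reg_not_tilde hG hL hW hcop' x y
  obtain ⟨b, c, g⟩ := B.exists_grid F hW hodd hV D.q_prime D.p_prime
  obtain ⟨k, hk'⟩ := IsGeneralizedCharacter.exists_classInner_int B.gen (SignIrr_isGen (B.sign i₀))
  set m := ∑ i, d i ^ 2 with hm
  have hsum := B.sum_sq
  rw [← hm] at hsum
  rcases Int.even_or_odd b with hb | hb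
  · -- `b` even
    refine Or.inl (Or.inl ?_)
    have h1 := B.side_bound F hW hodd hV D hC
      (fun ψ x hx => gfun_tilde hG hL D hC (hcop'.coprime_dvd_left (dvd_mul_left p q)) ψ hx) g hb
    rw [← hm, ← hqdef] at h1
    have h2 : q * m ≤ Nat.card U - 1 := by omega
    rw [← hsum, mul_comm q p, mul_assoc]
    exact Nat.add_le_add_right (Nat.mul_le_mul_left p h2) 1
  by_cases hk0 : k + 1 = 0
  swap
  · exact Or.inl (Or.inr (Or.inl (B.k_bound F hW hodd hV g (k := k + 1) (by rw [hk', add_sub_cancel_right]) hk0)))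
  have hk : Cfsg.classInner Φ (w i₀) = -1 := by
    rw [hk', show k = -1 by omega]; simp
  have hh0 : (0 : ℝ) < h := by exact_mod_cast lt_of_le_of_lt (Nat.zero_le (q * p)) B.e_lt
  have hq0 : (0 : ℝ) < q := by exact_mod_cast D.q_prime.pos
  have hp0 : (0 : ℝ) < p := by exact_mod_cast D.p_prime.pos
  obtain ⟨hvgt, hvgt'⟩ := Arith.v_gt (p := p) (q := q) D.p_prime D.q_prime
    (hodd.of_dvd_nat (Subgroup.card_subgroup_dvd_card W₂)) (hodd.of_dvd_nat (Subgroup.card_subgroup_dvd_card W₁))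
    hlt hv
  rcases Int.even_or_odd c with hc | hc
  swap
  · -- `b`, `c` odd
    refine Or.inl (Or.inr (Or.inl ?_))
    have h1 := galois_mass hG D E hfpf hfpf' hP hQ hu (by
        have : q ≤ p * p * q := Nat.le_mul_of_pos_left q (Nat.mul_pos D.p_prime.pos D.p_prime.pos)
        show q ≤ Nat.card V
        omega)
      hL.coatom (h := h) (by rw [← P12.fitting_eq_sigma hG hL, hh]) hLc (B.sign i₀)
      (fun z hz hzo => B.ne_zero F hW hodd hV D.q_prime D.p_prime rfl g hb hc hk hz hzo)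
    have h2 := mass_add_le (s := tildeFin L)
      (t := Finset.univ.filter fun z => z ∉ Cfsg.tildeOf L ((Cfsg.sigmaCore L : Set G) \ {1}) ∧
        (orderOf z).Coprime (q * p))
      (Finset.disjoint_left.2 fun z h1 h2 => (Finset.mem_filter.1 h2).2.1 (Finset.mem_filter.1 h1).2) (w i₀)
    rw [signIrr_norm (B.sign i₀), Complex.one_re] at h2
    have h3 : ((p : ℝ) + q - 4) / ((q : ℝ) * p) ≤ ((q * p : ℕ) : ℝ) / h := by
      linarith [B.mass hk]
    rw [div_le_div_iff₀ (by positivity) hh0] at h3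
    have h4 : (1 : ℝ) ≤ (p : ℝ) + q - 4 := by
      have : 5 ≤ p + q := by
        have := D.q_prime.two_le; omega
      have : ((5 : ℕ) : ℝ) ≤ ((p + q : ℕ) : ℝ) := Nat.cast_le.2 this
      push_cast at this
      linarith
    have h5 : (h : ℝ) ≤ ((q * p * (q * p) : ℕ) : ℝ) := by
      push_cast at h3 ⊢
      nlinarith [mul_le_mul_of_nonneg_right h4 hh0.le]
    have h6 : h ≤ q * p * (q * p) := by exact_mod_cast h5
    have h7 : q * p * (q * p) ≤ q * p * (q * p + 1) := Nat.mul_le_mul_left _ (Nat.le_succ _)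
    omega
  -- `b` odd, `c` even
  have hb0 : b ≠ 0 := by rintro rfl; simp at hb
  have hside : p * m + 1 ≤ Nat.card V := by
    have h1 := B.side_bound (F.swap hW) (selfN_swap hW) hodd
      (fun y x hy hx => by
        rw [← hW.2.2.2.1 x x.2 y y.2]; exact hV x y hx hy)
      E hC' (fun ψ x hx => gfun_tilde hG hL E hC' (hcop'.coprime_dvd_left (dvd_mul_right q p)) ψ hx)
      g.swap hc
    rw [← hm, ← hpdef] at h1
    exact h1
  have hbc : h ≤ q * (Nat.card V - 1) + 1 := by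
    rw [← hsum, mul_assoc]
    exact Nat.add_le_add_right (Nat.mul_le_mul_left q (by omega)) 1
  have hbessel : ∀ {κ : Type u} [Fintype κ] [DecidableEq κ] (x : κ → G → ℂ) (N : ℕ),
      (∀ i j, Cfsg.classInner (x i) (x j) = if i = j then 1 else 0) →
      (∀ i a ψ, Cfsg.classInner (x i) (η a ψ) = 0) →
      ((N : ℝ) ≤ ∑ i, ‖Cfsg.classInner Φ (x i)‖ ^ 2) → N + (p - 1) ≤ q * p := by
    intro κ _ _ x N hx hxη hN
    have h1 := B.bessel F hW hodd g x hx hxη
    have hb1 : (1 : ℝ) ≤ (b : ℝ) ^ 2 := by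
      exact_mod_cast (one_le_sq_iff_one_le_abs b).mpr (Int.one_le_abs hb0)
    have hq1 : (1 : ℝ) ≤ q := by exact_mod_cast D.q_prime.one_lt.le
    have hp1 : (1 : ℝ) ≤ p := by exact_mod_cast D.p_prime.one_lt.le
    rw [← hqdef, ← hpdef] at h1
    have h2 : ((N + (p - 1) : ℕ) : ℝ) ≤ ((q * p : ℕ) : ℝ) := by
      rw [Nat.cast_add, Nat.cast_sub (show 1 ≤ p from D.p_prime.one_lt.le), Nat.cast_one, Nat.cast_mul]
      push_cast at h1
      nlinarith [mul_nonneg (sub_nonneg.2 hq1) (sq_nonneg (c : ℝ)),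
        mul_le_mul_of_nonneg_left hb1 (sub_nonneg.2 hp1),
        mul_nonneg (mul_nonneg (sub_nonneg.2 hq1) (sub_nonneg.2 hp1)) (sq_nonneg ((b : ℝ) + c - 1))]
    exact_mod_cast h2
  rcases hTs with ⟨hregT, M, hMc, hMirr, hMpr⟩ | ⟨M, e', hM, hMcard, he', hMcop, hVM⟩
  · -- the probes of Type III
    have hdis : Disjoint (tilde L) (tilde T) := by
      refine OddOrder.Pairing.tilde_disjoint hG hL.coatom hT fun t et => ?_
      have hc : Nat.card T = Nat.card L := by
        rw [et, Subgroup.card_map_of_injective (MulAut.conj t).injective]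
      have hQT : q ^ p ∣ Nat.card L := by
        rw [← hc]
        have := Subgroup.card_dvd_of_le E.P_le
        rwa [E.P_card] at this
      rw [hLc, mul_assoc] at hQT
      have h2 : q ^ 2 ∣ q * (p * h) := (pow_dvd_pow q D.p_prime.two_le).trans hQT
      rw [pow_two] at h2
      rcases D.q_prime.dvd_mul.1 (Nat.dvd_of_mul_dvd_mul_left D.q_prime.pos h2) with hd | hd
      · exact absurd ((Nat.prime_dvd_prime_iff_eq D.q_prime D.p_prime).1 hd) hlt.ne
      · exact D.q_prime.ne_one (Nat.eq_one_of_dvd_coprimes hcop (dvd_mul_right q p) hd)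
    by_cases hall : ∀ μ ∈ M, ∃ n : ℤ, Odd n ∧ Cfsg.classInner Φ μ = n
    · exfalso
      have h1 := hbessel (κ := {μ // μ ∈ M}) (fun μ => (μ : G → ℂ)) M.card
        (fun i j => by
          rw [classInner_irr (hMirr _ i.2) (hMirr _ j.2)]; simp [Subtype.coe_inj])
        (fun i a ψ => by
          obtain ⟨Φ', P'⟩ := hMpr _ i.2
          exact pair_orth_eta F hW hodd P'.sign P'.conj_ne P'.conj_ne_neg
            (fun x y hx hy => P'.supp_diff _ (hregT x y hx hy)) a ψ)
        (by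
          calc ((M.card : ℕ) : ℝ) = ∑ _i : {μ // μ ∈ M}, (1 : ℝ) := by
                rw [Finset.sum_const, Finset.card_univ, Fintype.card_coe, nsmul_eq_mul, mul_one]
            _ ≤ _ := Finset.sum_le_sum fun i _ => by
              obtain ⟨n, hn, e1⟩ := hall _ i.2
              have hn0 : n ≠ 0 := by rintro rfl; simp at hn
              rw [e1, Complex.norm_intCast, sq_abs]
              exact_mod_cast (one_le_sq_iff_one_le_abs n).mpr (Int.one_le_abs hn0))
      rw [← hpdef] at hMc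
      have h2 : M.card * p ≤ q * p * p := Nat.mul_le_mul_right p (by omega)
      have h3 : q * p * p = p * p * q := by ring
      omega
    push Not at hall
    obtain ⟨μ, hμ, hμno⟩ := hall
    obtain ⟨Φ', P'⟩ := hMpr μ hμ
    refine Or.inl (Or.inr (Or.inl ?_))
    rcases B.probe_alt hodd hk hdis P' with ⟨n, hn, e1⟩ | hle
    · exact absurd e1 (hμno n hn)
    · rw [← hpdef] at hle
      have h2 : q * p * (p + 1) ≤ q * p * (q * p + 1) :=
        Nat.mul_le_mul_left _ (Nat.add_le_add_right (Nat.le_mul_of_pos_left p D.q_prime.pos) 1)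
      omega
  · -- the subgroup over `V` of Type II
    by_cases hconj : ∃ t : G, M = L.map (MulAut.conj t).toMonoidHom
    · obtain ⟨t, rfl⟩ := hconj
      refine Or.inr ⟨hbc, t⁻¹, fun x hx => ?_⟩
      obtain ⟨y, hy, rfl⟩ := hx
      have hy' := hVM hy
      rw [P12.fitting_eq_sigma hG hM, OddOrder.Support.sigmaCore_conj, ← P12.fitting_eq_sigma hG hL] at hy'
      obtain ⟨z, hz, e1⟩ := hy'
      rw [← e1]
      simpa [mul_assoc] using hz
    push Not at hconj
    have hdis : Disjoint (tilde L) (tilde M) :=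
      OddOrder.Pairing.tilde_disjoint hG hL.coatom hM.coatom hconj
    haveI : Fintype M := Fintype.ofFinite M
    obtain ⟨κ, _, d', j₀, w', Φ', B'⟩ := exists_block hG hM rfl hMcard
    have hV' : ∀ (x : W₁) (y : W₂), x ≠ 1 → y ≠ 1 → (x : G) * y ∉ tilde M :=
      fun x y _ _ => reg_not_tilde hG hM hW hMcop x y
    rcases B.probe_alt hodd hk hdis B'.probe with ⟨r, hr, e1⟩ | hle
    swap
    · refine Or.inl (Or.inr (Or.inl ?_))
      have h2 : q * p * (e' + 1) ≤ q * p * (q * p + 1) :=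
        Nat.mul_le_mul_left _ (Nat.add_le_add_right he' 1)
      omega
    have hr0 : r ≠ 0 := by rintro rfl; simp at hr
    set m' := ∑ i, d' i ^ 2 with hm'
    have hco : ∀ i, Cfsg.classInner Φ (w' i) = (d' i : ℂ) * (r : ℂ) := by
      intro i
      have h0 : Cfsg.classInner Φ (w' i - (d' i : ℂ) • w' j₀) = 0 := inner_disjoint fun x => by
        by_cases hx : x ∈ tilde L
        · exact Or.inr (by
            rw [Pi.sub_apply, Pi.smul_apply, B'.supp_diff i x (Set.disjoint_left.1 hdis hx), smul_eq_mul,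
              sub_self])
        · exact Or.inl (B.supp x hx)
      rw [classInner_sub_right, classInner_smul_right, map_natCast, sub_eq_zero, e1] at h0
      exact h0
    have h1 := hbessel (κ := κ) w' m' (fun i j => by rw [B'.orth i j]) (B'.orth_eta F hW hodd hV')
      (by
        rw [hm', Nat.cast_sum]
        refine Finset.sum_le_sum fun i _ => ?_
        rw [hco i, norm_mul, Complex.norm_natCast, Complex.norm_intCast, mul_pow, sq_abs, Nat.cast_pow]
        refine le_mul_of_one_le_right (sq_nonneg _) ?_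
        exact_mod_cast (one_le_sq_iff_one_le_abs r).mpr (Int.one_le_abs hr0))
    have hsum' := B'.sum_sq
    rw [← hm'] at hsum'
    have hVh : Nat.card V ≤ Nat.card (Cfsg.fittingHallOf M) :=
      Nat.le_of_dvd Nat.card_pos (Subgroup.card_dvd_of_le hVM)
    by_cases hqp : q = 3 ∧ p = 5
    · exact Or.inl (Or.inr (Or.inr ⟨hqp.1, hqp.2, hbc⟩))
    exfalso
    have h2 : e' * m' ≤ q * p * (q * p - (p - 1)) := Nat.mul_le_mul he' (by omega)
    have h3 := hvgt' hqp
    have h4 : p * q * (p * q - (p - 1)) = q * p * (q * p - (p - 1)) := by rw [mul_comm p q]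
    omega

end Cfsg.Agent.OddChar.P14
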