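/-
Peterfalvi section 14: if the exponent of `U` divides `p - 1` and an element of order `p` normalises
`L_F ≥ U`, then `U` is cyclic.
-/
import Cfsg.Agent.Lib.OddChar.P13.OfPair
import Cfsg.Agent.Lib.Solvable.Coprime
import Cfsg.Agent.Lib.Solvable.Frobenius
import Cfsg.Agent.Lib.Solvable.Structure
import Cfsg.Agent.Lib.OddOrder.PlaneUnique

set_option autoImplicit false
set_option linter.style.haveILetI false
set_option linter.unusedSectionVars false

namespace Cfsg.Agent.OddChar.P14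

open scoped IsMulCommutative
open OddOrder

universe u

variable {G : Type u} [Group G] [Finite G] {S W₁ W₂ U L : Subgroup G}

/-- PF 14: `U` is cyclic when its exponent divides `p - 1`. -/
theorem cyclic_of_exponent (hG : Cfsg.IsMinSimpleOddOrder G) (hS : IsCoatom S)
    (hP : Cfsg.IsTypePWith S W₁ U W₂) (hII : Cfsg.IsOfTypeII S) (hp : (Nat.card W₂).Prime)
    (hL : IsCoatom L) (hI : Cfsg.IsOfTypeI L) (hfr : TypeOneFrobenius G)
    (hUH : U ≤ Cfsg.fittingHallOf L) {e : G} (he : e ∈ L) (heo : orderOf e = Nat.card W₂)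
    (heH : e ∉ Cfsg.fittingHallOf L) (hexp : ∀ a ∈ U, a ^ (Nat.card W₂ - 1) = 1) : IsCyclic U := by
  classical
  obtain ⟨-, -, hab, -, -, -⟩ := P13.typeII_facts hG hS hP hII
  haveI := hab
  by_contra hU
  set p := Nat.card W₂ with hpdef
  haveI := Fact.mk hp
  obtain ⟨r, E₀, hr, hE₀, hE₀r⟩ := CoprimeAct.exists_elementary_of_not_isCyclic hU
  haveI := Fact.mk hr
  set A := E₀.map U.subtype with hA
  have hAU : A ≤ U := Subgroup.map_subtype_le _
  have hAc : Nat.card A = r ^ 2 := by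
    rw [hA, Subgroup.card_map_of_injective U.subtype_injective, hE₀]
  have hAe : Cfsg.IsElementaryAbelian r A := ⟨inferInstance, by
    rintro _ ⟨x, hx, rfl⟩
    rw [← map_pow, show x ^ r = 1 from congrArg Subtype.val (hE₀r ⟨x, hx⟩), map_one]⟩
  obtain ⟨a, ha, ha1⟩ := (Subgroup.bot_or_exists_ne_one A).resolve_left (Plane.ne_bot hAc)
  have hrp : r ∣ p - 1 := by
    rw [← orderOf_eq_prime (hAe.2 a ha) ha1]
    exact orderOf_dvd_of_pow_eq_one (hexp a (hAU ha))
  have hp2 := hp.two_le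
  have hr2 := hr.two_le
  have hrle : r ≤ p - 1 := Nat.le_of_dvd (by omega) hrp
  have hrU : r ∣ Nat.card U :=
    (dvd_pow_self r two_ne_zero).trans (hAc ▸ Subgroup.card_dvd_of_le hAU)
  -- `r ∉ σ(S)`, so `A` is a maximal plane
  have hrσ : r ∉ Cfsg.sigma S := by
    intro hσ
    obtain ⟨K, V, hKU⟩ := FStruct.exists_decomp hG hS
    obtain ⟨-, hV⟩ := (Types.typeII_iff hG hS hKU).1 hII
    have hσe : Cfsg.fittingHallOf S = Cfsg.sigmaCore S := by
      by_contra hne
      exact hV (S1357.result hG S hS K V hKU hne).1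
    have hAS := Exceptional.le_sigmaCore hG hS hσ (Plane.isPGroup hAc) (hAU.trans (P13.U_le hP))
    rw [← hσe] at hAS
    exact Plane.ne_bot hAc (le_bot_iff.1 ((le_inf hAS hAU).trans hP.U_compl.2.2.1.le))
  obtain ⟨A₀, hexc, -⟩ := PlaneUnique.exists_exc hG hS (hAU.trans (P13.U_le hP)) hAe hAc hrσ
  have hmax : Plane.Maximal r A := hexc.maximal
  -- central elements of order `r` of `H`
  set H := Cfsg.fittingHallOf L with hH
  haveI := FHall.fittingHallOf_nilpotent L
  have hAH : A ≤ H := hAU.trans hUH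
  have hLn : L ≤ Subgroup.normalizer (H : Set G) := FHall.le_normalizer_fittingHallOf L
  have hfix : ∀ x ∈ H, x ≠ 1 → e * x = x * e → False := fun x hx hx1 hex =>
    heH (hfr L hL hI x hx hx1 ⟨he, Subgroup.mem_centralizer_singleton_iff.2 hex⟩)
  let Y : Subgroup G :=
    { carrier := {x | x ∈ H ∧ (∀ h ∈ H, x * h = h * x) ∧ x ^ r = 1}
      mul_mem' := fun {a b} ha hb => ⟨H.mul_mem ha.1 hb.1, fun h hh =>
          ((show Commute a h from ha.2.1 h hh).mul_left (show Commute b h from hb.2.1 h hh)).eq, by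
        rw [(show Commute a b from ha.2.1 b hb.1).mul_pow, ha.2.2, hb.2.2, one_mul]⟩
      one_mem' := ⟨H.one_mem, fun h _ => by rw [one_mul, mul_one], one_pow r⟩
      inv_mem' := fun {a} ha => ⟨H.inv_mem ha.1, fun h hh =>
          (show Commute a h from ha.2.1 h hh).inv_left.eq, by rw [inv_pow, ha.2.2, inv_one]⟩ }
  have hYA : Y ≤ A := fun y hy => hmax.mem_of_commute
    (Subgroup.mem_centralizer_iff.2 fun a ha => (hy.2.1 a (hAH ha)).symm) hy.2.2
  have hY1 : Y ≠ ⊥ := by
    have hrH : r ∣ Nat.card H := hrU.trans (Subgroup.card_dvd_of_le hUH)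
    obtain ⟨R⟩ : Nonempty (Sylow r H) := inferInstance
    haveI : (R : Subgroup H).Normal :=
      (Group.isNilpotent_of_finite_tfae (G := H)).out 0 3 rfl rfl |>.1 inferInstance r ⟨hr⟩ R
    obtain ⟨z, hz, hz1⟩ := (Subgroup.bot_or_exists_ne_one _).resolve_left
      (SolvStruct.inf_center_ne_bot (R.ne_bot_of_dvd_card hrH))
    obtain ⟨k, hk⟩ := (R.isPGroup') ⟨z, hz.1⟩
    have hk' : z ^ r ^ k = 1 := congrArg Subtype.val hk
    have hd : r ∣ orderOf z := by
      obtain ⟨i, -, hi⟩ := (Nat.dvd_prime_pow hr).1 (orderOf_dvd_of_pow_eq_one hk')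
      rcases i with _ | i
      · exact absurd (orderOf_eq_one_iff.1 (by rw [hi, pow_zero])) hz1
      · rw [hi]; exact dvd_pow_self r i.succ_ne_zero
    set w := z ^ (orderOf z / r) with hw
    have hwo : orderOf w = r := orderOf_pow_orderOf_div (orderOf_pos z).ne' hd
    intro e0
    have hwY : (w : G) ∈ Y := ⟨w.2, fun h hh =>
      (congrArg Subtype.val (Subgroup.mem_center_iff.1 (Subgroup.pow_mem _ hz.2 _) ⟨h, hh⟩)).symm, by
      rw [← Subgroup.coe_pow, ← hwo, pow_orderOf_eq_one]; rfl⟩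
    rw [e0, Subgroup.mem_bot] at hwY
    rw [Subtype.ext hwY (a2 := (1 : H)), orderOf_one] at hwo
    exact hr.ne_one hwo.symm
  have heY : Subgroup.zpowers e ≤ Subgroup.normalizer (Y : Set G) := by
    refine Subgroup.zpowers_le.2 (ComplAbelian.mem_normalizer_of_map_le fun x hx => ?_)
    refine ⟨(Subgroup.mem_normalizer_iff.1 (hLn he) x).1 hx.1, fun h hh => ?_, by
      rw [conj_pow, hx.2.2, mul_one, mul_inv_cancel]⟩
    have h' : e⁻¹ * h * e⁻¹⁻¹ ∈ H := (Subgroup.mem_normalizer_iff.1 (hLn (L.inv_mem he)) h).1 hh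
    calc e * x * e⁻¹ * h = e * (x * (e⁻¹ * h * e⁻¹⁻¹)) * e⁻¹ := by group
      _ = e * (e⁻¹ * h * e⁻¹⁻¹ * x) * e⁻¹ := by rw [hx.2.1 _ h']
      _ = h * (e * x * e⁻¹) := by group
  have hec : Nat.card (Subgroup.zpowers e) = p := by rw [Nat.card_zpowers, heo]
  have hdvd : p ∣ Nat.card Y - 1 := hec ▸ FrobeniusStruct.card_dvd_sub_one heY fun h hh hh1 => by
    refine (Subgroup.eq_bot_iff_forall _).2 fun y hy => ?_
    by_contra hy1
    refine hfix y hy.1.1 hy1 ?_
    have := Subgroup.mem_centralizer_singleton_iff.1 hy.2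
    have hle : Subgroup.zpowers e ≤ Subgroup.centralizer ({y} : Set G) := by
      rw [← Plane.zpowers_eq hec hh hh1]
      exact Subgroup.zpowers_le.2 (Subgroup.mem_centralizer_singleton_iff.2 this.symm)
    exact Subgroup.mem_centralizer_singleton_iff.1 (hle (Subgroup.mem_zpowers e))
  obtain ⟨i, hi, hYi⟩ := (Nat.dvd_prime_pow hr).1 (hAc ▸ Subgroup.card_dvd_of_le hYA)
  have hodd : Odd r := hG.1.of_dvd_nat (hrU.trans U.card_subgroup_dvd_card)
  have hpodd : Odd p := hG.1.of_dvd_nat W₂.card_subgroup_dvd_card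
  rw [hYi] at hdvd
  interval_cases i
  · exact hY1 (Subgroup.card_eq_one.1 (by rw [hYi, pow_zero]))
  · rw [pow_one] at hdvd
    have := Nat.le_of_dvd (by omega) hdvd
    omega
  · have hfac : r ^ 2 - 1 = (r + 1) * (r - 1) := by
      rw [Nat.pow_two, ← Nat.mul_self_sub_mul_self_eq r 1, Nat.one_mul]
    rw [hfac] at hdvd
    rcases hp.dvd_mul.1 hdvd with h | h
    · have h1 := Nat.le_of_dvd (by omega) h
      obtain ⟨k, hk⟩ := hodd
      obtain ⟨l, hl⟩ := hpodd
      omega
    · have := Nat.le_of_dvd (by omega) h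
      omega

end Cfsg.Agent.OddChar.P14
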