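/-
Peterfalvi section 14: the maximal subgroup `L` over `N(U)`, orders and normalisers.
-/
import Cfsg.Agent.Lib.OddChar.P14.NormalizerU
import Cfsg.Agent.Lib.OddChar.P13.Facts
import Cfsg.Agent.Lib.OddChar.P12TypeOne
import Cfsg.Agent.Lib.Solvable.Frobenius

set_option autoImplicit false
set_option linter.style.haveILetI false
set_option linter.unusedSectionVars false

namespace Cfsg.Agent.OddChar.P14

open scoped IsMulCommutative
open OddOrder

universe u

variable {G : Type u} [Group G] [Finite G] {S T W₁ W₂ U V L : Subgroup G}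
  (hG : Cfsg.IsMinSimpleOddOrder G)
include hG

/-- `S_F` is a Hall subgroup of `G`. -/
theorem fittingHallOf_hall (hS : IsCoatom S) :
    (Nat.card (Cfsg.fittingHallOf S)).Coprime (Cfsg.fittingHallOf S).index :=
  (S1389.result hG S hS).2.1

variable (h : IsPairP G S T W₁ W₂ U V)
include h

/-- Both orders are prime. -/
theorem pair_prime (hpf : PairFacts G) : (Nat.card W₁).Prime ∧ (Nat.card W₂).Prime := by
  constructor
  · rcases (hpf S T W₁ W₂ U V h).1 with h' | h'
    exacts [(P13.typeII_facts hG h.coatom_left h.left h').2.1, (P13.typeIII_facts hG h.coatom_left h.left h').2.1]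
  · rcases (hpf T S W₂ W₁ V U h.symm).1 with h' | h'
    exacts [(P13.typeII_facts hG h.coatom_right h.right h').2.1,
      (P13.typeIII_facts hG h.coatom_right h.right h').2.1]

/-- The maximal subgroup over `N(U)`. -/
theorem exists_L (hfr : TypeOneFrobenius G) (hpf : PairFacts G) (hpn : PairNormalizer G)
    (hII : Cfsg.IsOfTypeII S) :
    ∃ L : Subgroup G, IsCoatom L ∧ Cfsg.IsOfTypeI L ∧ P12.FrobOne L ∧
      Subgroup.normalizer (U : Set G) ≤ L ∧ U ≤ Cfsg.fittingHallOf L ∧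
      ((Cfsg.fittingHallOf L ⊓ W₁ = ⊥ ∧ Cfsg.fittingHallOf L ⊔ W₁ = L) ∨
        ∃ y ∈ Cfsg.fittingHallOf T,
          Cfsg.fittingHallOf L ⊓ (W₁ ⊔ W₂.map (MulAut.conj y).toMonoidHom) = ⊥ ∧
            Cfsg.fittingHallOf L ⊔ (W₁ ⊔ W₂.map (MulAut.conj y).toMonoidHom) = L) := by
  have hS := h.coatom_left
  have hP := h.left
  obtain ⟨hU, hq, -, hN, -, -⟩ := P13.typeII_facts hG hS hP hII
  have hUtop : U ≠ ⊤ := ne_top_of_le_ne_top hS.1 (P13.U_le hP)
  obtain ⟨L, hL, hNL⟩ := (eq_top_or_exists_le_coatom (Subgroup.normalizer (U : Set G))).resolve_left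
    (MinSimple.normalizer_ne_top hG hU hUtop)
  have hI : Cfsg.IsOfTypeI L := by
    by_contra hI
    obtain ⟨g, hg | hg⟩ := conj_of_not_typeI hG h hL hI
    · exact not_conj_left hG hS hP hN hNL g hg
    · exact not_conj_right hG h.coatom_right hP hU hq (hpf T S W₂ W₁ V U h.symm).2.2.1
        (P13.W₂_le_H h.right) hNL g hg
  obtain ⟨hfix, hUH, halt⟩ := normalizerUMaximal hG hfr hpf hpn S T W₁ W₂ U V h hII L hL hNL
  exact ⟨L, hL, hI, ⟨hL, hI, hfix⟩, hNL, hUH, halt⟩

omit hG in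
/-- A conjugate of `W₂` by an element of `T_F` commutes with `W₁`. -/
theorem W₁_comm_conj (hab : IsMulCommutative (Cfsg.fittingHallOf T)) {y : G}
    (hy : y ∈ Cfsg.fittingHallOf T) :
    W₂.map (MulAut.conj y).toMonoidHom ≤ Subgroup.centralizer (W₁ : Set G) := by
  haveI := hab
  rintro _ ⟨b, hb, rfl⟩
  refine Subgroup.mem_centralizer_iff.2 fun a ha => ?_
  have h1 : Commute a y := congrArg Subtype.val
    (mul_comm' (⟨a, P13.W₂_le_H h.right ha⟩ : Cfsg.fittingHallOf T) ⟨y, hy⟩)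
  have h2 : Commute a b := h.left.selfNormalizing.2.2.2.1 a ha b hb
  exact ((h1.mul_right h2).mul_right h1.inv_right).eq

/-- The order of the second complement. -/
theorem card_complement (hpf : PairFacts G) {y : G} (hy : y ∈ Cfsg.fittingHallOf T) :
    Nat.card ↥(W₁ ⊔ W₂.map (MulAut.conj y).toMonoidHom) = Nat.card W₁ * Nat.card W₂ := by
  set Y := W₂.map (MulAut.conj y).toMonoidHom with hY
  have hYc : Nat.card Y = Nat.card W₂ := Subgroup.card_map_of_injective (MulAut.conj y).injective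
  have hqp : (Nat.card W₁).Coprime (Nat.card W₂) :=
    (P13.coprime_W₁_H h.left).coprime_dvd_right (Subgroup.card_dvd_of_le (P13.W₂_le_H h.left))
  have hn : Y ≤ Subgroup.normalizer (W₁ : Set G) :=
    (W₁_comm_conj h (hpf T S W₂ W₁ V U h.symm).2.2.1.1 hy).trans (Subgroup.centralizer_le_normalizer _)
  have := SolvBasic.card_sup_mul_card_inf hn
  rwa [Subgroup.inf_eq_bot_of_coprime (hYc ▸ hqp), Subgroup.card_bot, mul_one, hYc] at this

omit h in
/-- In a Frobenius maximal subgroup a complement acts without fixed points on the kernel. -/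
theorem frob_fpf (hF : P12.FrobOne L) {E : Subgroup G} (hEL : E ≤ L)
    (hbot : Cfsg.fittingHallOf L ⊓ E = ⊥) : ∀ e ∈ E, e ≠ 1 →
      Cfsg.fittingHallOf L ⊓ Subgroup.centralizer ({e} : Set G) = ⊥ := fun e he he1 =>
  (Subgroup.eq_bot_iff_forall _).2 fun x hx => by_contra fun hx1 => he1 (Subgroup.mem_bot.1 (hbot.le
    ⟨hF.frob x hx.1 hx1 ⟨hEL he, Subgroup.mem_centralizer_singleton_iff.2
      (Subgroup.mem_centralizer_singleton_iff.1 hx.2).symm⟩, he⟩))

omit h in
/-- Order and congruence of a Frobenius maximal subgroup with given complement. -/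
theorem frob_card (hF : P12.FrobOne L) {E : Subgroup G} (hbot : Cfsg.fittingHallOf L ⊓ E = ⊥)
    (hsup : Cfsg.fittingHallOf L ⊔ E = L) :
    Nat.card L = Nat.card E * Nat.card (Cfsg.fittingHallOf L) ∧
      Nat.card E ∣ Nat.card (Cfsg.fittingHallOf L) - 1 := by
  set H := Cfsg.fittingHallOf L
  have hEL : E ≤ L := le_sup_right.trans hsup.le
  have hn : E ≤ Subgroup.normalizer (H : Set G) := hEL.trans (FHall.le_normalizer_fittingHallOf L)
  refine ⟨?_, Cfsg.Agent.FrobeniusStruct.card_dvd_sub_one hn (frob_fpf hG hF hEL hbot)⟩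
  have := SolvBasic.card_sup_mul_card_inf hn
  rwa [hsup, hbot, Subgroup.card_bot, mul_one, mul_comm (Nat.card H)] at this

omit h in
/-- Congruence form. -/
theorem mod_eq_one {e n : ℕ} (he : 2 ≤ e) (hn : 0 < n) (hd : e ∣ n - 1) : n % e = 1 := by
  obtain ⟨k, hk⟩ := hd
  have hn' : n = e * k + 1 := by omega
  rw [hn', Nat.add_mod, Nat.mul_mod_right, zero_add, Nat.mod_mod, Nat.mod_eq_of_lt (by omega)]

/-- `p` does not divide `|L_F|`. -/
theorem coprime_p (hpf : PairFacts G) (hII : Cfsg.IsOfTypeII S)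
    (hUH : U ≤ Cfsg.fittingHallOf L) :
    (Nat.card W₂).Coprime (Nat.card (Cfsg.fittingHallOf L)) := by
  have hS := h.coatom_left
  have hP := h.left
  have hp := (pair_prime hG h hpf).2
  obtain ⟨hU, hq, -, -, hTI, hfix⟩ := P13.typeII_facts hG hS hP hII
  obtain ⟨-, -, -, hcard, -, -⟩ := hpf S T W₁ W₂ U V h
  set P := Cfsg.fittingHallOf S with hPdef
  set p := Nat.card W₂ with hpdef
  haveI := Fact.mk hp
  rw [hp.coprime_iff_not_dvd]
  intro hd
  obtain ⟨⟨x, hxH⟩, hxo⟩ := exists_prime_orderOf_dvd_card' p hd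
  rw [Subgroup.orderOf_mk] at hxo
  have hpP : p ∣ Nat.card P := hcard ▸ dvd_pow_self p hq.ne_zero
  have hidx : ¬ p ∣ P.index := fun hd' =>
    hp.ne_one (Nat.eq_one_of_dvd_coprimes (fittingHallOf_hall hG hS) hpP hd')
  obtain ⟨R, hR⟩ := (IsPGroup.of_card (G := Subgroup.zpowers x) (n := 1)
    (by rw [Nat.card_zpowers, hxo, pow_one])).exists_le_sylow
  obtain ⟨t, ht⟩ := MulAction.exists_smul_eq G R ((IsPGroup.of_card hcard).toSylow hidx)
  have hxP : t * x * t⁻¹ ∈ P := by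
    have h' : t * x * t⁻¹ ∈ ((t • R : Sylow p G) : Subgroup G) :=
      Subgroup.smul_mem_pointwise_smul x (MulAut.conj t) _ (hR (Subgroup.mem_zpowers x))
    rw [ht] at h'
    exact h'
  have hx1 : t * x * t⁻¹ ≠ 1 := fun e => hp.ne_one (by
    show p = 1
    rw [← hxo, conj_eq_one_iff.1 e, orderOf_one])
  have hpU : p.Coprime (Nat.card U) := (TypeP.coprime_H_U hP).coprime_dvd_left hpP
  haveI := FHall.fittingHallOf_nilpotent L
  have hcomm : ∀ u ∈ U, Commute u x := fun u hu =>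
    (CN.commute_of_coprime (FHall.fittingHallOf_nilpotent L) hxH (hUH hu)
      (hxo ▸ hpU.coprime_dvd_right (Subgroup.orderOf_dvd_natCard U hu))).symm
  set X := U.map (MulAut.conj t).toMonoidHom with hX
  have hXc : Nat.card X = Nat.card U := Subgroup.card_map_of_injective (MulAut.conj t).injective
  have hXC : X ≤ Subgroup.centralizer ({t * x * t⁻¹} : Set G) := by
    rintro _ ⟨u, hu, rfl⟩
    exact Subgroup.mem_centralizer_singleton_iff.2 (((hcomm u hu).map (MulAut.conj t).toMonoidHom).eq)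
  have hxF : t * x * t⁻¹ ∈ Cfsg.fittingOf S := P13.H_le_fitting hG hS hP hxP
  have hXS : X ≤ S := hXC.trans (P13.centralizer_le_of_fitting hG hS hTI hxF hx1)
  have hXD : X ≤ ⁅S, S⁆ := by
    haveI : ((⁅S, S⁆ : Subgroup G).subgroupOf S).Normal :=
      Subgroup.normal_subgroupOf_of_le_normalizer (Subgroup.normalizer_commutator_ge_left S S)
    intro z hz
    refine Subgroup.mem_subgroupOf.1 (Exceptional.le_of_coprime_index (N := (⁅S, S⁆ : Subgroup G).subgroupOf S)
      (X := X.subgroupOf S) ?_ (show (⟨z, hXS hz⟩ : S) ∈ X.subgroupOf S from hz))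
    rw [Nat.card_congr (Subgroup.subgroupOfEquivOfLe hXS).toEquiv, hXc,
      show ((⁅S, S⁆ : Subgroup G).subgroupOf S).index = Nat.card W₁ from Compl.relIndex_left hP.W₁_compl]
    exact ((P13.coprime_W₁_derived hP).coprime_dvd_right (Subgroup.card_dvd_of_le hP.U_compl.2.1)).symm
  have hXn : X ≤ Subgroup.normalizer (P : Set G) := hXS.trans (FHall.le_normalizer_fittingHallOf S)
  have hbot : P ⊓ X = ⊥ := Subgroup.inf_eq_bot_of_coprime (hXc ▸ TypeP.coprime_H_U hP)
  have hsup : P ⊔ X = ⁅S, S⁆ := by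
    refine Subgroup.eq_of_le_of_card_ge (sup_le (P13.H_le hP) hXD) ?_
    have h' := SolvBasic.card_sup_mul_card_inf hXn
    rw [hbot, Subgroup.card_bot, mul_one, hXc] at h'
    rw [h', P13.card_derived hP]
  have hc : Cfsg.IsComplIn P X ⁅S, S⁆ := ⟨P13.H_le hP, hXD, hbot, fun m hm =>
    (SolvBasic.mem_sup_iff_of_le_normalizer hXn).1 (hsup.ge hm)⟩
  obtain ⟨c, hcD, hcU⟩ := P13.compl_conj hG hS hP hc
  have hmem : c * (t * x * t⁻¹) * c⁻¹ ∈ P ⊓ Subgroup.centralizer (U : Set G) := by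
    refine ⟨(Subgroup.mem_normalizer_iff.1
      (FHall.le_normalizer_fittingHallOf S (P13.derived_le hP hcD)) _).1 hxP,
      Subgroup.mem_centralizer_iff.2 fun u hu => ?_⟩
    obtain ⟨z, hz, rfl⟩ := hcU.ge hu
    have hzc : Commute z (t * x * t⁻¹) := Subgroup.mem_centralizer_singleton_iff.1 (hXC hz)
    exact (hzc.map (MulAut.conj c).toMonoidHom).eq
  rw [hfix, Subgroup.mem_bot, conj_eq_one_iff] at hmem
  exact hx1 hmem

/-- The first alternative: `|L| = q |L_F|`, the congruence and the coprimality. -/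
theorem alt_one_card (hpf : PairFacts G) (hII : Cfsg.IsOfTypeII S) (hF : P12.FrobOne L)
    (hUH : U ≤ Cfsg.fittingHallOf L) (hbot : Cfsg.fittingHallOf L ⊓ W₁ = ⊥)
    (hsup : Cfsg.fittingHallOf L ⊔ W₁ = L) :
    Nat.card L = Nat.card W₁ * Nat.card (Cfsg.fittingHallOf L) ∧
      Nat.card (Cfsg.fittingHallOf L) % Nat.card W₁ = 1 ∧
      (Nat.card (Cfsg.fittingHallOf L)).Coprime (Nat.card W₁ * Nat.card W₂) := by
  obtain ⟨hq, hp⟩ := pair_prime hG h hpf
  obtain ⟨hc, hd⟩ := frob_card hG hF hbot hsup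
  have hm := mod_eq_one hG hq.two_le Nat.card_pos hd
  refine ⟨hc, hm, Nat.Coprime.mul_right ?_ (coprime_p hG h hpf hII hUH).symm⟩
  rw [Nat.coprime_comm, hq.coprime_iff_not_dvd, Nat.dvd_iff_mod_eq_zero, hm]
  exact one_ne_zero

/-- The second alternative: `|L| = q p |L_F|`, the congruence and the coprimality. -/
theorem alt_two_card (hpf : PairFacts G) (hII : Cfsg.IsOfTypeII S) (hF : P12.FrobOne L)
    (hUH : U ≤ Cfsg.fittingHallOf L) {y : G} (hy : y ∈ Cfsg.fittingHallOf T)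
    (hbot : Cfsg.fittingHallOf L ⊓ (W₁ ⊔ W₂.map (MulAut.conj y).toMonoidHom) = ⊥)
    (hsup : Cfsg.fittingHallOf L ⊔ (W₁ ⊔ W₂.map (MulAut.conj y).toMonoidHom) = L) :
    Nat.card L = Nat.card W₁ * Nat.card W₂ * Nat.card (Cfsg.fittingHallOf L) ∧
      Nat.card (Cfsg.fittingHallOf L) % (Nat.card W₁ * Nat.card W₂) = 1 ∧
      (Nat.card (Cfsg.fittingHallOf L)).Coprime (Nat.card W₁ * Nat.card W₂) := by
  obtain ⟨hq, hp⟩ := pair_prime hG h hpf
  obtain ⟨hc, hd⟩ := frob_card hG hF hbot hsup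
  rw [card_complement hG h hpf hy] at hc hd
  have h2 : 2 ≤ Nat.card W₁ * Nat.card W₂ := hq.two_le.trans (Nat.le_mul_of_pos_right _ hp.pos)
  refine ⟨hc, mod_eq_one hG h2 Nat.card_pos hd, Nat.Coprime.mul_right ?_ (coprime_p hG h hpf hII hUH).symm⟩
  have hm := mod_eq_one hG hq.two_le Nat.card_pos ((dvd_mul_right _ _).trans hd)
  rw [Nat.coprime_comm, hq.coprime_iff_not_dvd, Nat.dvd_iff_mod_eq_zero, hm]
  exact one_ne_zero

/-- The first alternative excludes `|L_F| = |U|`. -/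
theorem alt_one_ne (hII : Cfsg.IsOfTypeII S) (hNL : Subgroup.normalizer (U : Set G) ≤ L)
    (hUH : U ≤ Cfsg.fittingHallOf L) (hsup : Cfsg.fittingHallOf L ⊔ W₁ = L) :
    Nat.card (Cfsg.fittingHallOf L) ≠ Nat.card U := fun e => by
  obtain ⟨-, -, -, hN, -, -⟩ := P13.typeII_facts hG h.coatom_left h.left hII
  refine hN (hNL.trans ?_)
  rw [← hsup, ← Subgroup.eq_of_le_of_card_ge hUH e.le]
  exact P13.UW_le h.left

omit hG h in
/-- Subgroups of a cyclic group with the same order are equal. -/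
theorem eq_of_card_of_cyclic {H A B : Subgroup G} (hH : IsCyclic H) (hA : A ≤ H) (hB : B ≤ H)
    (hc : Nat.card A = Nat.card B) : A = B := by
  classical
  haveI : Fintype H := Fintype.ofFinite H
  have key : ∀ X : Subgroup G, X ≤ H → Nat.card X = Nat.card A →
      (Finset.univ.filter fun x : H => (x : G) ∈ X) = Finset.univ.filter fun x : H => x ^ Nat.card A = 1 := by
    intro X hX hXc
    refine Finset.eq_of_subset_of_card_le (fun x hx => Finset.mem_filter.2 ⟨Finset.mem_univ _,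
      Subtype.ext ?_⟩) ?_
    · rw [Subgroup.coe_pow, ← hXc]
      exact congrArg Subtype.val (pow_card_eq_one' (x := (⟨(x : G), (Finset.mem_filter.1 hx).2⟩ : X)))
    · refine (IsCyclic.card_pow_eq_one_le Nat.card_pos).trans ?_
      rw [← hXc, ← Fintype.card_subtype, ← Nat.card_eq_fintype_card]
      exact le_of_eq (Nat.card_congr ((Subgroup.subgroupOfEquivOfLe hX).symm.toEquiv.trans
        (Equiv.subtypeEquivRight fun x => Subgroup.mem_subgroupOf)))
  have he := (key A hA rfl).trans (key B hB hc.symm).symm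
  ext x
  constructor <;> intro hx
  · simpa using (Finset.ext_iff.1 he ⟨x, hA hx⟩).1 (by simpa using hx)
  · simpa using (Finset.ext_iff.1 he ⟨x, hB hx⟩).2 (by simpa using hx)

omit h in
/-- When `L_F` is cyclic or has order `|U|`, every subgroup of `L` normalises `U`. -/
theorem le_normalizer_U {U X : Subgroup G} (hUH : U ≤ Cfsg.fittingHallOf L) (hX : X ≤ L)
    (hc : IsCyclic (Cfsg.fittingHallOf L) ∨ Nat.card (Cfsg.fittingHallOf L) = Nat.card U) :
    X ≤ Subgroup.normalizer (U : Set G) := fun x hx => by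
  have hxH := Subgroup.mem_normalizer_iff_map_conj_eq.1 (FHall.le_normalizer_fittingHallOf L (hX hx))
  refine Subgroup.mem_normalizer_iff_map_conj_eq.2 ?_
  rcases hc with hc | hc
  · exact eq_of_card_of_cyclic hc ((Subgroup.map_mono hUH).trans hxH.le) hUH
      (Subgroup.card_map_of_injective (MulAut.conj x).injective)
  · rwa [← Subgroup.eq_of_le_of_card_ge hUH hc.le] at hxH

/-- The second alternative: normalising `U`. -/
theorem alt_two_normalizer {y : G}
    (hsup : Cfsg.fittingHallOf L ⊔ (W₁ ⊔ W₂.map (MulAut.conj y).toMonoidHom) = L)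
    (hUH : U ≤ Cfsg.fittingHallOf L)
    (hc : IsCyclic (Cfsg.fittingHallOf L) ∨ Nat.card (Cfsg.fittingHallOf L) = Nat.card U) :
    W₂.map (MulAut.conj y).toMonoidHom ≤ Subgroup.normalizer (U : Set G) :=
  le_normalizer_U hG hUH ((le_sup_right.trans le_sup_right).trans hsup.le) hc

/-- The second alternative: `|U| ≡ 1 (mod p)` when `W₂ ^ y` normalises `U`. -/
theorem alt_two_mod (hpf : PairFacts G) (hF : P12.FrobOne L) (hUH : U ≤ Cfsg.fittingHallOf L) {y : G}
    (hbot : Cfsg.fittingHallOf L ⊓ (W₁ ⊔ W₂.map (MulAut.conj y).toMonoidHom) = ⊥)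
    (hsup : Cfsg.fittingHallOf L ⊔ (W₁ ⊔ W₂.map (MulAut.conj y).toMonoidHom) = L)
    (hn : W₂.map (MulAut.conj y).toMonoidHom ≤ Subgroup.normalizer (U : Set G)) :
    Nat.card U % Nat.card W₂ = 1 := by
  have hEL : W₁ ⊔ W₂.map (MulAut.conj y).toMonoidHom ≤ L := le_sup_right.trans hsup.le
  have hd := Cfsg.Agent.FrobeniusStruct.card_dvd_sub_one hn fun e he he1 => le_bot_iff.1
    ((inf_le_inf_right _ hUH).trans (frob_fpf hG hF hEL hbot e (Subgroup.mem_sup_right he) he1).le)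
  rw [Subgroup.card_map_of_injective (MulAut.conj y).injective] at hd
  exact mod_eq_one hG (pair_prime hG h hpf).2.two_le Nat.card_pos hd

/-- The second alternative: an element of order `p` outside `L_F`. -/
theorem alt_two_element (hpf : PairFacts G) {y : G}
    (hbot : Cfsg.fittingHallOf L ⊓ (W₁ ⊔ W₂.map (MulAut.conj y).toMonoidHom) = ⊥)
    (hsup : Cfsg.fittingHallOf L ⊔ (W₁ ⊔ W₂.map (MulAut.conj y).toMonoidHom) = L) :
    ∃ e ∈ L, orderOf e = Nat.card W₂ ∧ e ∉ Cfsg.fittingHallOf L := by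
  have hp := (pair_prime hG h hpf).2
  haveI := Fact.mk hp
  obtain ⟨⟨w, hw⟩, hwo⟩ := exists_prime_orderOf_dvd_card' (G := W₂) (Nat.card W₂) dvd_rfl
  rw [Subgroup.orderOf_mk] at hwo
  have hm : y * w * y⁻¹ ∈ W₁ ⊔ W₂.map (MulAut.conj y).toMonoidHom := Subgroup.mem_sup_right ⟨w, hw, rfl⟩
  have ho : orderOf (y * w * y⁻¹) = Nat.card W₂ := ((MulAut.conj y).orderOf_eq w).trans hwo
  refine ⟨_, le_sup_right.trans hsup.le hm, ho, fun hH => ?_⟩
  have h1 : y * w * y⁻¹ = 1 := Subgroup.mem_bot.1 (hbot.le ⟨hH, hm⟩)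
  rw [h1, orderOf_one] at ho
  exact hp.ne_one ho.symm

end Cfsg.Agent.OddChar.P14
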