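/-
Peterfalvi section 14: the two possible shapes of the action of `U` on `P` when `C_U(P) = 1`.
-/
import Cfsg.Agent.Lib.OddChar.P13.Fixed
import Cfsg.Agent.Lib.OddChar.P13.Plane
import Cfsg.Agent.Lib.Solvable.FixedPointFree
import Mathlib.Algebra.Field.ZMod
import Mathlib.FieldTheory.Finite.Basic
import Mathlib.GroupTheory.GroupAction.Quotient
import Mathlib.Algebra.Polynomial.Roots

set_option autoImplicit false
set_option linter.unusedSectionVars false
set_option linter.unusedVariables false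
set_option linter.deprecated false
set_option linter.style.haveILetI false

namespace Cfsg.Agent.OddChar.P14

open scoped IsMulCommutative

universe u

variable {G : Type u} [Group G] [Finite G] {S P U W₁ W₂ : Subgroup G}

/-- A subgroup normalised by the elements of `U`, elementwise. -/
def UInv (U K : Subgroup G) : Prop := ∀ v ∈ U, ∀ x ∈ K, v * x * v⁻¹ ∈ K

/-- `P` has no proper non-trivial subgroup normalised by `U`. -/
def Irred (P U : Subgroup G) : Prop := ∀ K ≤ P, UInv U K → K = ⊥ ∨ K = P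

theorem UInv.map_le {K : Subgroup G} (h : UInv U K) {v : G} (hv : v ∈ U) :
    K.map (MulAut.conj v).toMonoidHom ≤ K := by
  rintro _ ⟨x, hx, rfl⟩
  exact h v hv x hx

theorem uInv_of_map_le {K : Subgroup G} (h : ∀ v ∈ U, K.map (MulAut.conj v).toMonoidHom ≤ K) : UInv U K :=
  fun v hv x hx => h v hv ⟨x, hx, rfl⟩

/-- An element normalising a subgroup of prime order has its `(p - 1)`-st power centralising it. -/
theorem pow_pred_comm {p : ℕ} (hp : p.Prime) {K : Subgroup G} (hK : Nat.card K = p) {v : G}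
    (hv : ∀ x ∈ K, v * x * v⁻¹ ∈ K) {x : G} (hx : x ∈ K) : v ^ (p - 1) * x = x * v ^ (p - 1) := by
  haveI := Fact.mk hp
  rcases eq_or_ne x 1 with rfl | hx1
  · rw [mul_one, one_mul]
  have hgen : ∀ y ∈ K, ∃ k : ℕ, x ^ k = y := fun y hy => by
    obtain ⟨k, hk⟩ := mem_powers_iff_mem_zpowers.mpr
      (mem_zpowers_of_prime_card (g := (⟨x, hx⟩ : K)) (g' := ⟨y, hy⟩) hK (fun e => hx1 (congrArg Subtype.val e)))
    exact ⟨k, congrArg Subtype.val hk⟩
  have hxp : x ^ p = 1 := orderOf_dvd_iff_pow_eq_one.1 (hK ▸ Subgroup.orderOf_dvd_natCard K hx)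
  obtain ⟨k, hk⟩ := hgen _ (hv x hx)
  have hpow : ∀ n : ℕ, v ^ n * x * (v ^ n)⁻¹ = x ^ (k ^ n) := by
    intro n
    induction n with
    | zero => simp
    | succ n ih =>
      calc v ^ (n + 1) * x * (v ^ (n + 1))⁻¹ = v * (v ^ n * x * (v ^ n)⁻¹) * v⁻¹ := by rw [pow_succ']; group
        _ = (v * x * v⁻¹) ^ (k ^ n) := by rw [ih, conj_pow]
        _ = x ^ (k ^ (n + 1)) := by rw [← hk, ← pow_mul, pow_succ']
  have hk0 : (k : ZMod p) ≠ 0 := fun e => hx1 (by
    obtain ⟨c, hc⟩ := (ZMod.natCast_eq_zero_iff k p).1 e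
    rw [hc, pow_mul, hxp, one_pow] at hk
    exact conj_eq_one_iff.1 hk.symm)
  have h1 : (((k ^ (p - 1) : ℕ)) : ZMod p) = 1 := by
    push_cast
    exact ZMod.pow_card_sub_one_eq_one hk0
  have h2 : x ^ (k ^ (p - 1)) = x := by
    rw [pow_eq_pow_mod _ hxp, ← ZMod.val_natCast, h1, ZMod.val_one, pow_one]
  exact mul_inv_eq_iff_eq_mul.1 ((hpow _).trans h2)

variable (D : P13.Side S P U W₁ W₂)
include D

theorem U_ne_bot : U ≠ ⊥ := fun h => D.act (h.le.trans bot_le)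

/-- A subgroup of `P` normalised by `U` and `W₁` is `1` or `P`. -/
theorem eq_top_of_invariant {K : Subgroup G} (hK : K ≤ P) (hKU : UInv U K)
    (hKW : ∀ w ∈ W₁, ∀ x ∈ K, w * x * w⁻¹ ∈ K) (hK1 : K ≠ ⊥) : K = P := by
  have h2 : W₂ ≤ K := by_contra fun h => hK1 (D.eq_bot_of_invariant hK hKU hKW h)
  have h := D.wielandt hK hKU hKW
  have hU : K ⊓ Subgroup.centralizer (U : Set G) = ⊥ :=
    le_bot_iff.mp ((inf_le_inf_right _ hK).trans_eq D.centralizer_U)
  have hUW : K ⊓ Subgroup.centralizer ((U ⊔ W₁ : Subgroup G) : Set G) = ⊥ :=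
    le_bot_iff.mp (le_trans (inf_le_inf_left K (Subgroup.centralizer_le
      (SetLike.coe_subset_coe.mpr le_sup_left))) hU.le)
  rw [D.centralizer_W₁ hK, hU, hUW, inf_eq_right.mpr h2] at h
  simp only [Subgroup.card_bot, one_pow, one_mul, mul_one] at h
  exact Subgroup.eq_of_le_of_card_ge hK (by rw [D.P_card, h])

/-- `P` has exponent `p`. -/
theorem pow_p {x : G} (hx : x ∈ P) : x ^ Nat.card W₂ = 1 := by
  let K : Subgroup G :=
    { carrier := {z | z ∈ P ∧ z ^ Nat.card W₂ = 1}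
      one_mem' := ⟨one_mem _, one_pow _⟩
      mul_mem' := fun {a b} ha hb => ⟨mul_mem ha.1 hb.1, by
        rw [(show Commute a b from D.P_comm a ha.1 b hb.1).mul_pow, ha.2, hb.2, one_mul]⟩
      inv_mem' := fun {a} ha => ⟨inv_mem ha.1, by rw [inv_pow, ha.2, inv_one]⟩ }
  have hK : K = P := by
    refine eq_top_of_invariant D (fun z hz => hz.1) (fun v hv z hz => ⟨D.le_normP (D.U_le hv) hz.1, ?_⟩)
      (fun w hw z hz => ⟨D.le_normP (D.W₁_le hw) hz.1, ?_⟩) fun h => ?_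
    · rw [conj_pow, hz.2, mul_one, mul_inv_cancel]
    · rw [conj_pow, hz.2, mul_one, mul_inv_cancel]
    · refine D.selfN.2.1 ((Subgroup.eq_bot_iff_forall _).2 fun z hz => Subgroup.mem_bot.1 (h.le ⟨D.W₂_le hz, ?_⟩))
      exact orderOf_dvd_iff_pow_eq_one.1 (Subgroup.orderOf_dvd_natCard W₂ hz)
  exact (hK.ge hx).2

theorem orderOf_eq_p {x : G} (hx : x ∈ P) (hx1 : x ≠ 1) : orderOf x = Nat.card W₂ :=
  (D.p_prime.eq_one_or_self_of_dvd _ (orderOf_dvd_of_pow_eq_one (pow_p D hx))).resolve_left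
    fun e => hx1 (orderOf_eq_one_iff.1 e)

variable (hC : P13.cpart P U = ⊥)
include hC

theorem eq_one_of_centralizes {v : G} (hv : v ∈ U) (h : ∀ x ∈ P, v * x = x * v) : v = 1 := by
  have h1 : v ∈ P13.cpart P U := ⟨hv, Subgroup.mem_centralizer_iff.2 fun x hx => (h x hx).symm⟩
  rwa [hC, Subgroup.mem_bot] at h1

/-- In the irreducible case no non-trivial element of `U` fixes a line of `P`. -/
theorem scalar_eq_one (hir : Irred P U) {v : G} (hv : v ∈ U) {z : G} (hz : z ∈ P) (hz1 : z ≠ 1) {k : ℕ}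
    (h : v * z * v⁻¹ = z ^ k) : v = 1 := by
  let K : Subgroup G :=
    { carrier := {x | x ∈ P ∧ v * x * v⁻¹ = x ^ k}
      one_mem' := ⟨one_mem _, by simp⟩
      mul_mem' := fun {a b} ha hb => ⟨mul_mem ha.1 hb.1, by
        rw [(show Commute a b from D.P_comm a ha.1 b hb.1).mul_pow, ← ha.2, ← hb.2]; group⟩
      inv_mem' := fun {a} ha => ⟨inv_mem ha.1, by rw [inv_pow, ← ha.2]; group⟩ }
  have hKU : UInv U K := fun a ha x hx => ⟨D.le_normP (D.U_le ha) hx.1, by
    calc v * (a * x * a⁻¹) * v⁻¹ = (v * a) * x * (v * a)⁻¹ := by group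
      _ = (a * v) * x * (a * v)⁻¹ := by rw [D.U_comm v hv a ha]
      _ = a * (v * x * v⁻¹) * a⁻¹ := by group
      _ = (a * x * a⁻¹) ^ k := by rw [hx.2, conj_pow]⟩
  have hK : K = P := (hir K (fun x hx => hx.1) hKU).resolve_left
    fun e => hz1 (Subgroup.mem_bot.1 (e.le ⟨hz, h⟩))
  obtain ⟨w, hw, hw1⟩ := (Subgroup.bot_or_exists_ne_one W₁).resolve_left D.selfN.1
  refine D.fpf_U hw hw1 hv ?_
  have hc : ∀ x ∈ P, (v⁻¹ * (w * v * w⁻¹)) * x = x * (v⁻¹ * (w * v * w⁻¹)) := fun x hx => by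
    have hx' : w⁻¹ * x * w ∈ P := by
      have := D.le_normP (S.inv_mem (D.W₁_le hw)) hx
      rwa [inv_inv] at this
    have e1 : (w * v * w⁻¹) * x * (w * v * w⁻¹)⁻¹ = v * x * v⁻¹ := by
      calc (w * v * w⁻¹) * x * (w * v * w⁻¹)⁻¹ = w * (v * (w⁻¹ * x * w) * v⁻¹) * w⁻¹ := by group
        _ = (w * (w⁻¹ * x * w) * w⁻¹) ^ k := by rw [(hK.ge hx').2, conj_pow]
        _ = x ^ k := by group
        _ = v * x * v⁻¹ := ((hK.ge hx).2).symm
    calc (v⁻¹ * (w * v * w⁻¹)) * x = v⁻¹ * ((w * v * w⁻¹) * x * (w * v * w⁻¹)⁻¹) * (w * v * w⁻¹) := by group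
      _ = x * (v⁻¹ * (w * v * w⁻¹)) := by rw [e1]; group
  have h1 := eq_one_of_centralizes D hC (U.mul_mem (U.inv_mem hv) (D.conjU hw hv)) hc
  rw [inv_mul_eq_one] at h1
  exact (mul_inv_eq_iff_eq_mul.1 h1.symm)

theorem fpf_of_irred (hir : Irred P U) : ∀ v ∈ U, v ≠ 1 → ∀ x ∈ P, v * x = x * v → x = 1 := by
  intro v hv hv1 x hx h
  by_contra hx1
  exact hv1 (scalar_eq_one D hC hir hv hx hx1 (k := 1) (by rw [h, pow_one, mul_inv_cancel_right]))

omit hC in
theorem isCyclic_of_fpf (hfpf : ∀ v ∈ U, v ≠ 1 → ∀ x ∈ P, v * x = x * v → x = 1) : IsCyclic U := by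
  haveI : IsMulCommutative U := ⟨⟨fun a b => Subtype.ext (D.U_comm a a.2 b b.2)⟩⟩
  refine Cfsg.Agent.FpfStruct.abelian_cyclic D.P_ne_bot D.U_le_normP fun a ha ha1 =>
    (Subgroup.eq_bot_iff_forall _).2 fun x ⟨hx, hxc⟩ => hfpf a ha ha1 x hx ?_
  exact (Subgroup.mem_centralizer_singleton_iff.1 hxc).symm

/-- In the irreducible case `u (p - 1)` divides `p ^ q - 1`. -/
theorem card_mul_dvd (hir : Irred P U) :
    Nat.card U * (Nat.card W₂ - 1) ∣ Nat.card W₂ ^ Nat.card W₁ - 1 := by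
  classical
  set p := Nat.card W₂ with hp
  haveI : Fact p.Prime := ⟨D.p_prime⟩
  have hne : ∀ (a : U × (ZMod p)ˣ) (z : {z : P // z ≠ 1}),
      ((z.1 : G) ^ (a.2 : ZMod p).val) ≠ 1 := by
    intro a z e
    have ho := orderOf_eq_p D z.1.2 (fun e' => z.2 (Subtype.ext e'))
    have hd := orderOf_dvd_of_pow_eq_one e
    rw [ho] at hd
    have h0 : (a.2 : ZMod p).val = 0 :=
      Nat.eq_zero_of_dvd_of_lt hd (ZMod.val_lt _)
    exact a.2.ne_zero ((ZMod.val_eq_zero _).1 h0)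
  let act : U × (ZMod p)ˣ → {z : P // z ≠ 1} → {z : P // z ≠ 1} := fun a z =>
    ⟨⟨(a.1 : G) * (z.1 : G) ^ (a.2 : ZMod p).val * (a.1 : G)⁻¹,
        D.le_normP (D.U_le a.1.2) (P.pow_mem z.1.2 _)⟩, fun e => hne a z (by
      exact conj_eq_one_iff.1 (congrArg Subtype.val e))⟩
  have hval : ∀ a z, ((act a z).1 : G) = (a.1 : G) * (z.1 : G) ^ (a.2 : ZMod p).val * (a.1 : G)⁻¹ :=
    fun a z => rfl
  letI : MulAction (U × (ZMod p)ˣ) {z : P // z ≠ 1} :=
    { smul := act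
      one_smul := fun z => Subtype.ext (Subtype.ext (by
        show ((act 1 z).1 : G) = (z.1 : G)
        rw [hval]; simp [ZMod.val_one]))
      mul_smul := fun a b z => Subtype.ext (Subtype.ext (by
        show ((act (a * b) z).1 : G) = ((act a (act b z)).1 : G)
        rw [hval, hval, hval, conj_pow, ← pow_mul]
        have e : (z.1 : G) ^ ((a * b).2 : ZMod p).val =
            (z.1 : G) ^ ((b.2 : ZMod p).val * (a.2 : ZMod p).val) := by
          rw [Prod.snd_mul, Units.val_mul, ZMod.val_mul, ← pow_eq_pow_mod _ (pow_p D z.1.2), mul_comm]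
        rw [e]
        simp [mul_assoc])) }
  have hfree : ∀ z : {z : P // z ≠ 1}, MulAction.stabilizer (U × (ZMod p)ˣ) z = ⊥ := by
    intro z
    refine (Subgroup.eq_bot_iff_forall _).2 fun a ha => ?_
    have e : (a.1 : G) * (z.1 : G) ^ (a.2 : ZMod p).val * (a.1 : G)⁻¹ = z.1 := by
      rw [← hval]
      exact congrArg (fun t : {z : P // z ≠ 1} => (t.1 : G)) ha
    have hzz : ((z.1 : G) ^ (a.2 : ZMod p).val) ^ ((a.2⁻¹ : (ZMod p)ˣ) : ZMod p).val = z.1 := by
      rw [← pow_mul, pow_eq_pow_mod _ (pow_p D z.1.2), ← ZMod.val_mul, ← Units.val_mul, mul_inv_cancel,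
        Units.val_one, ZMod.val_one, pow_one]
    have h1 : (a.1 : G) = 1 := scalar_eq_one D hC hir a.1.2 (P.pow_mem z.1.2 _) (hne a z)
      (k := ((a.2⁻¹ : (ZMod p)ˣ) : ZMod p).val) (e.trans hzz.symm)
    rw [h1, one_mul, inv_one, mul_one] at e
    have h2 : (z.1 : G) ^ (a.2 : ZMod p).val = (z.1 : G) ^ 1 := by rw [pow_one]; exact e
    rw [pow_eq_pow_iff_modEq, orderOf_eq_p D z.1.2 (fun e' => z.2 (Subtype.ext e')), ← hp,
      ← ZMod.natCast_eq_natCast_iff, ZMod.natCast_zmod_val, Nat.cast_one] at h2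
    exact Prod.ext (Subtype.ext h1) (Units.ext h2)
  have hcard := Nat.card_congr (MulAction.selfEquivOrbitsQuotientProd' (φ := Quotient.out) Quotient.out_eq hfree)
  rw [P13.card_ne_one, D.P_card, Nat.card_prod, Nat.card_prod, Nat.card_eq_fintype_card (α := (ZMod p)ˣ),
    ZMod.card_units] at hcard
  exact ⟨_, hcard.trans (mul_comm _ _)⟩

omit hC in
/-- Outside the irreducible case there is a line of `P` normalised by `U` whose `W₁`-conjugates
generate `P`. -/
theorem exists_line (hir : ¬ Irred P U) :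
    ∃ K : Subgroup G, K ≤ P ∧ Nat.card K = Nat.card W₂ ∧
      (∀ w ∈ W₁, UInv U (K.map (MulAut.conj w).toMonoidHom)) ∧
      ∀ M : Subgroup G, (∀ w ∈ W₁, K.map (MulAut.conj w).toMonoidHom ≤ M) → P ≤ M := by
  classical
  simp only [Irred, not_forall, not_or] at hir
  obtain ⟨K₀, hK₀P, hK₀U, hK₀1, hK₀ne⟩ := hir
  obtain ⟨K, ⟨hKP, hKU, hK1⟩, hmin⟩ := (wellFounded_lt (α := Subgroup G)).has_min
    {K | K ≤ P ∧ UInv U K ∧ K ≠ ⊥} ⟨K₀, hK₀P, hK₀U, hK₀1⟩
  have hmin' : ∀ M : Subgroup G, M ≤ K → UInv U M → M ≠ ⊥ → M = K := fun M hM hMU hM1 =>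
    hM.eq_or_lt.resolve_right (hmin M ⟨hM.trans hKP, hMU, hM1⟩)
  have hKne : K ≠ P := fun e => hK₀ne (by
    have := hmin' K₀ (e ▸ hK₀P) hK₀U hK₀1
    rw [this, e])
  let Kc : W₁ → Subgroup G := fun w => K.map (MulAut.conj (w : G)).toMonoidHom
  have hKcard : ∀ w, Nat.card (Kc w) = Nat.card K := fun w =>
    Subgroup.card_map_of_injective (MulAut.conj (w : G)).injective
  have hKcP : ∀ w, Kc w ≤ P := by
    rintro w _ ⟨x, hx, rfl⟩
    exact D.le_normP (D.W₁_le w.2) (hKP hx)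
  have hKcU : ∀ w, UInv U (Kc w) := by
    rintro w v hv _ ⟨x, hx, rfl⟩
    have hv' : (w : G)⁻¹ * v * w ∈ U := by
      have := D.conjU (W₁.inv_mem w.2) hv
      rwa [inv_inv] at this
    refine ⟨_, hKU _ hv' x hx, ?_⟩
    simp [mul_assoc]
  have hKcmin : ∀ (w : W₁) (M : Subgroup G), M ≤ Kc w → UInv U M → M = ⊥ ∨ M = Kc w := by
    intro w M hM hMU
    refine or_iff_not_imp_left.2 fun hM1 => ?_
    set M' := M.map (MulAut.conj ((w : G)⁻¹)).toMonoidHom with hM'
    have h1 : M' ≤ K := by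
      rintro _ ⟨x, hx, rfl⟩
      obtain ⟨y, hy, rfl⟩ := hM hx
      simpa [mul_assoc] using hy
    have h2 : UInv U M' := by
      rintro v hv _ ⟨x, hx, rfl⟩
      refine ⟨_, hMU _ (D.conjU w.2 hv) x hx, ?_⟩
      simp [mul_assoc]
    have h3 := hmin' M' h1 h2 fun e => hM1 ((Subgroup.map_eq_bot_iff_of_injective M
      (MulAut.conj ((w : G)⁻¹)).injective).1 e)
    refine Subgroup.eq_of_le_of_card_ge hM ?_
    rw [hKcard w, ← h3, hM', Subgroup.card_map_of_injective (MulAut.conj ((w : G)⁻¹)).injective]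
  have hind : ∀ s : Finset W₁, UInv U (s.sup Kc) ∧ s.sup Kc ≤ P ∧
      ∃ m, Nat.card ↥(s.sup Kc) = Nat.card K ^ m := by
    intro s
    induction s using Finset.induction_on with
    | empty =>
      refine ⟨fun v _ x hx => ?_, by simp, 0, by simp⟩
      simp only [Finset.sup_empty, Subgroup.mem_bot] at hx ⊢
      simp [hx]
    | insert w s _ ih =>
      obtain ⟨hU', hP', m, hm⟩ := ih
      rw [Finset.sup_insert]
      refine ⟨uInv_of_map_le fun v hv => ?_, sup_le (hKcP w) hP', ?_⟩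
      · rw [Subgroup.map_sup]
        exact sup_le_sup ((hKcU w).map_le hv) (hU'.map_le hv)
      rcases hKcmin w (Kc w ⊓ s.sup Kc) inf_le_left
        (fun v hv x hx => ⟨hKcU w v hv x hx.1, hU' v hv x hx.2⟩) with h | h
      · have hn : s.sup Kc ≤ Subgroup.normalizer (Kc w : Set G) := fun x hx =>
          Subgroup.centralizer_le_normalizer _ (Subgroup.mem_centralizer_iff.2 fun y hy =>
            D.P_comm y (hKcP w hy) x (hP' hx))
        have hcm := SolvBasic.card_sup_mul_card_inf hn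
        rw [h, Subgroup.card_bot, mul_one, hKcard, hm, ← pow_succ'] at hcm
        exact ⟨_, hcm⟩
      · exact ⟨m, by rw [sup_eq_right.2 (inf_eq_left.1 h)]; exact hm⟩
  haveI := Fintype.ofFinite W₁
  obtain ⟨hTU, hTP, m, hm⟩ := hind Finset.univ
  set T := Finset.univ.sup Kc with hT
  have hTle : ∀ w, Kc w ≤ T := fun w => Finset.le_sup (f := Kc) (Finset.mem_univ w)
  have hTW : ∀ a ∈ W₁, ∀ x ∈ T, a * x * a⁻¹ ∈ T := by
    intro a ha x hx
    have : T ≤ T.comap (MulAut.conj a).toMonoidHom := by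
      refine Finset.sup_le fun w _ => ?_
      rintro _ ⟨y, hy, rfl⟩
      refine hTle (⟨a, ha⟩ * w) ⟨y, hy, ?_⟩
      simp [mul_assoc]
    exact this hx
  have hT1 : T ≠ ⊥ := fun e => hK1 (le_bot_iff.1 fun x hx => e.le (hTle 1 ⟨x, hx, by simp⟩))
  have hTtop := eq_top_of_invariant D hTP hTU hTW hT1
  obtain ⟨d, -, hd⟩ := (Nat.dvd_prime_pow D.p_prime).1 (D.P_card ▸ Subgroup.card_dvd_of_le hKP)
  rw [hTtop, D.P_card, hd, ← pow_mul] at hm
  have hdq : d ∣ Nat.card W₁ := ⟨m, Nat.pow_right_injective D.p_prime.two_le hm⟩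
  rcases (Nat.dvd_prime D.q_prime).1 hdq with rfl | rfl
  · refine ⟨K, hKP, by rw [hd, pow_one], fun w hw => hKcU ⟨w, hw⟩, fun M hM => ?_⟩
    rw [← hTtop]
    exact Finset.sup_le fun w _ => hM w w.2
  · exact absurd (Subgroup.eq_of_le_of_card_ge hKP (by rw [hd, D.P_card])) hKne

/-- Outside the irreducible case `U` has exponent dividing `p - 1`. -/
theorem pow_eq_one_of_not_irred (hir : ¬ Irred P U) : ∀ a ∈ U, a ^ (Nat.card W₂ - 1) = 1 := by
  intro a ha
  obtain ⟨K, hKP, hKc, hKU, hgen⟩ := exists_line D hir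
  refine eq_one_of_centralizes D hC (U.pow_mem ha _) fun x hx => ?_
  have hle : P ≤ Subgroup.centralizer ({a ^ (Nat.card W₂ - 1)} : Set G) := hgen _ fun w hw y hy =>
    Subgroup.mem_centralizer_singleton_iff.2 (pow_pred_comm D.p_prime
      (by rw [Subgroup.card_map_of_injective (MulAut.conj w).injective, hKc]) (hKU w hw a ha) hy).symm
  exact (Subgroup.mem_centralizer_singleton_iff.1 (hle hx)).symm

/-- Outside the irreducible case `u ≤ ((p - 1) / 2) ^ q`: `U` embeds in the scalars of odd order on the lines. -/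
theorem card_le_of_not_irred (hir : ¬ Irred P U) :
    Nat.card U ≤ ((Nat.card W₂ - 1) / 2) ^ Nat.card W₁ := by
  classical
  set p := Nat.card W₂ with hp
  haveI : Fact p.Prime := ⟨D.p_prime⟩
  obtain ⟨K, hKP, hKc, hKU, hgen⟩ := exists_line D hir
  obtain ⟨z, hz, hz1⟩ := (Subgroup.bot_or_exists_ne_one K).resolve_left fun e => by
    rw [e, Subgroup.card_bot] at hKc
    exact D.p_prime.ne_one hKc.symm
  have hgenK : ∀ y ∈ K, ∃ k : ℕ, z ^ k = y := fun y hy => by
    obtain ⟨k, hk⟩ := mem_powers_iff_mem_zpowers.mpr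
      (mem_zpowers_of_prime_card (g := (⟨z, hz⟩ : K)) (g' := ⟨y, hy⟩) hKc (fun e => hz1 (congrArg Subtype.val e)))
    exact ⟨k, congrArg Subtype.val hk⟩
  have hscal : ∀ (a : U) (w : W₁), ∃ k : ℕ, (a : G) * ((w : G) * z * (w : G)⁻¹) * (a : G)⁻¹ = ((w : G) * z * (w : G)⁻¹) ^ k := by
    intro a w
    obtain ⟨y, hy, e⟩ := hKU w w.2 a a.2 _ (show (w : G) * z * (w : G)⁻¹ ∈ _ from ⟨z, hz, rfl⟩)
    obtain ⟨k, hk⟩ := hgenK y hy
    exact ⟨k, e.symm.trans (show (w : G) * y * (w : G)⁻¹ = _ by rw [conj_pow, hk])⟩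
  choose k hk using hscal
  have hzP : ∀ w : W₁, (w : G) * z * (w : G)⁻¹ ∈ P := fun w => D.le_normP (D.W₁_le w.2) (hKP hz)
  have hz1' : ∀ w : W₁, (w : G) * z * (w : G)⁻¹ ≠ 1 := fun w e => hz1 (conj_eq_one_iff.1 e)
  set m := (p - 1) / 2 with hm
  have hp3 : 3 ≤ p := D.three_le_p
  have hm0 : 0 < m := by omega
  have hkm : ∀ a w, (k a w : ZMod p) ^ m = 1 := by
    intro a w
    set x := (w : G) * z * (w : G)⁻¹ with hx
    have hpow : ∀ n : ℕ, (a : G) ^ n * x * ((a : G) ^ n)⁻¹ = x ^ (k a w ^ n) := by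
      intro n
      induction n with
      | zero => simp
      | succ n ih =>
        calc (a : G) ^ (n + 1) * x * ((a : G) ^ (n + 1))⁻¹
            = (a : G) * ((a : G) ^ n * x * ((a : G) ^ n)⁻¹) * (a : G)⁻¹ := by rw [pow_succ']; group
          _ = ((a : G) * x * (a : G)⁻¹) ^ (k a w ^ n) := by rw [ih]; exact conj_pow.symm
          _ = x ^ (k a w ^ (n + 1)) := by rw [hk a w, ← pow_mul, pow_succ']
    have hodd : Odd (orderOf (a : G)) := D.odd.of_dvd_nat (orderOf_dvd_natCard (a : G))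
    have hdvd : orderOf (a : G) ∣ m := by
      have h1 : orderOf (a : G) ∣ p - 1 := orderOf_dvd_of_pow_eq_one (pow_eq_one_of_not_irred D hC hir a a.2)
      have h2 : p - 1 = 2 * m := by
        obtain ⟨i, hi⟩ := D.odd.of_dvd_nat (Subgroup.card_subgroup_dvd_card W₂)
        rw [← hp] at hi
        omega
      rw [h2] at h1
      exact (Nat.coprime_two_right.2 hodd).dvd_of_dvd_mul_left h1
    have h3 := hpow m
    rw [orderOf_dvd_iff_pow_eq_one.1 hdvd, one_mul, inv_one, mul_one] at h3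
    have h4 : x ^ (k a w ^ m) = x ^ 1 := by rw [pow_one]; exact h3.symm
    rw [pow_eq_pow_iff_modEq, orderOf_eq_p D (hzP w) (hz1' w), ← hp, ← ZMod.natCast_eq_natCast_iff] at h4
    simpa using h4
  let F : U → W₁ → {c : ZMod p // c ^ m = 1} := fun a w => ⟨(k a w : ZMod p), hkm a w⟩
  have hFinj : Function.Injective F := by
    intro a b e
    refine Subtype.ext (inv_mul_eq_one.1 (eq_one_of_centralizes D hC (U.mul_mem (U.inv_mem a.2) b.2) fun x hx => ?_))
    have hle : P ≤ Subgroup.centralizer ({(a : G)⁻¹ * (b : G)} : Set G) := hgen _ fun w hw y hy => by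
      obtain ⟨y', hy', rfl⟩ := hy
      obtain ⟨j, rfl⟩ := hgenK y' hy'
      have e1 : (k a ⟨w, hw⟩ : ZMod p) = k b ⟨w, hw⟩ := congrArg Subtype.val (congrFun e ⟨w, hw⟩)
      have e2 : (a : G) * (w * z * w⁻¹) * (a : G)⁻¹ = (b : G) * (w * z * w⁻¹) * (b : G)⁻¹ := by
        rw [hk a ⟨w, hw⟩, hk b ⟨w, hw⟩, pow_eq_pow_iff_modEq, orderOf_eq_p D (hzP ⟨w, hw⟩) (hz1' ⟨w, hw⟩), ← hp,
          ← ZMod.natCast_eq_natCast_iff]
        exact e1
      have e3 : Commute ((a : G)⁻¹ * (b : G)) (w * z * w⁻¹) := by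
        show (a : G)⁻¹ * (b : G) * (w * z * w⁻¹) = w * z * w⁻¹ * ((a : G)⁻¹ * (b : G))
        calc (a : G)⁻¹ * (b : G) * (w * z * w⁻¹)
            = (a : G)⁻¹ * ((b : G) * (w * z * w⁻¹) * (b : G)⁻¹) * (b : G) := by group
          _ = w * z * w⁻¹ * ((a : G)⁻¹ * (b : G)) := by rw [← e2]; group
      rw [Subgroup.mem_centralizer_singleton_iff]
      show (MulAut.conj w).toMonoidHom (z ^ j) * _ = _
      rw [map_pow]
      exact (e3.pow_right j).eq.symm
    exact (Subgroup.mem_centralizer_singleton_iff.1 (hle hx)).symm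
  haveI := Fintype.ofFinite W₁
  have hroots : Nat.card {c : ZMod p // c ^ m = 1} ≤ m := by
    rw [Nat.card_eq_fintype_card, Fintype.card_subtype]
    refine le_trans (Finset.card_le_card (t := (Polynomial.nthRoots m (1 : ZMod p)).toFinset) fun c hc => ?_)
      (le_trans (Multiset.toFinset_card_le _) (Polynomial.card_nthRoots _ _))
    rw [Multiset.mem_toFinset, Polynomial.mem_nthRoots hm0]
    exact (Finset.mem_filter.1 hc).2
  calc Nat.card U ≤ Nat.card (W₁ → {c : ZMod p // c ^ m = 1}) := Nat.card_le_card_of_injective F hFinj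
    _ = Nat.card {c : ZMod p // c ^ m = 1} ^ Nat.card W₁ := Nat.card_fun
    _ ≤ m ^ Nat.card W₁ := Nat.pow_le_pow_left hroots _

/-- The two shapes. -/
theorem shape :
    ((∀ v ∈ U, v ≠ 1 → ∀ x ∈ P, v * x = x * v → x = 1) ∧ IsCyclic U ∧
        Nat.card U ∣ (Nat.card W₂ ^ Nat.card W₁ - 1) / (Nat.card W₂ - 1)) ∨
      ((∀ a ∈ U, a ^ (Nat.card W₂ - 1) = 1) ∧ Nat.card U ≤ ((Nat.card W₂ - 1) / 2) ^ Nat.card W₁) := by
  by_cases hir : Irred P U
  · refine Or.inl ⟨fpf_of_irred D hC hir, isCyclic_of_fpf D (fpf_of_irred D hC hir), ?_⟩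
    refine Nat.dvd_div_of_mul_dvd ?_
    rw [mul_comm]
    exact card_mul_dvd D hC hir
  · exact Or.inr ⟨pow_eq_one_of_not_irred D hC hir, card_le_of_not_irred D hC hir⟩

/-- If `U` has exponent dividing `p - 1` then `P` is reducible. -/
theorem not_irred_of_exponent (hexp : ∀ a ∈ U, a ^ (Nat.card W₂ - 1) = 1) : ¬ Irred P U := by
  intro hir
  set p := Nat.card W₂ with hp
  set q := Nat.card W₁ with hq
  have hN : Nat.card U ∣ ∑ i ∈ Finset.range q, p ^ i := by
    rw [Nat.geomSum_eq D.p_prime.two_le]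
    refine Nat.dvd_div_of_mul_dvd ?_
    rw [mul_comm]
    exact card_mul_dvd D hC hir
  refine U_ne_bot D ((Subgroup.eq_bot_iff_forall _).2 fun a ha => ?_)
  have h1 : orderOf a ∣ p - 1 := orderOf_dvd_of_pow_eq_one (hexp a ha)
  have h2 := (Subgroup.orderOf_dvd_natCard U ha).trans hN
  have hp1 : ((p : ℕ) : ZMod (orderOf a)) = 1 := by
    have := (ZMod.natCast_eq_zero_iff (p - 1) (orderOf a)).2 h1
    rw [Nat.cast_sub D.p_prime.one_le, sub_eq_zero, Nat.cast_one] at this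
    exact this
  rw [← ZMod.natCast_eq_zero_iff, Nat.cast_sum] at h2
  simp only [Nat.cast_pow, hp1, one_pow, Finset.sum_const, Finset.card_range, nsmul_eq_mul, mul_one] at h2
  exact orderOf_eq_one_iff.1 (Nat.eq_one_of_dvd_coprimes D.coprime_U
    ((ZMod.natCast_eq_zero_iff q (orderOf a)).1 h2) (Subgroup.orderOf_dvd_natCard U ha))

end Cfsg.Agent.OddChar.P14
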