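/-
Peterfalvi section 14: generic characters of `P` with trivial stabiliser in `U`.
-/
import Cfsg.Agent.Lib.OddChar.P14.Shape

set_option autoImplicit false
set_option linter.unusedSectionVars false
set_option linter.unusedVariables false
set_option linter.deprecated false
set_option linter.style.haveILetI false

namespace Cfsg.Agent.OddChar.P14

open scoped IsMulCommutative
open Cfsg.Agent.Char Cfsg.Agent.Char.CyclicTI Cfsg.Agent.OddChar.P13

universe u

variable {G : Type u} [Group G] [Finite G] {S P U W₁ W₂ : Subgroup G}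

/-- The non-trivial linear characters of an abelian group. -/
theorem card_hom_ne_one {A : Type u} [Group A] [Finite A] [IsMulCommutative A] :
    Nat.card {f : A →* ℂˣ // f ≠ 1} = Nat.card A - 1 := by
  classical
  haveI := finite_dual A
  haveI := Fintype.ofFinite (A →* ℂˣ)
  rw [← card_hom (H := A), Nat.card_eq_fintype_card, Nat.card_eq_fintype_card,
    Fintype.card_subtype_compl, Fintype.card_subtype_eq]

variable (D : P13.Side S P U W₁ W₂) (hC : P13.cpart P U = ⊥)
include D hC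

theorem hall_eq : P13.hall P U = P := by rw [P13.hall, hC, sup_bot_eq]

/-- More non-trivial characters than conjugates of fixed characters: one of them is generic. -/
theorem exists_generic_of_card {ι : Type u} [Finite ι] (f : ι → (P13.hall P U →* ℂˣ))
    (hf : Function.Injective f) (hne : ∀ i, f i ≠ 1)
    (hcard : Nat.card U * (Nat.card W₂ - 1) < Nat.card ι) : ∃ i, D.Generic (f i) := by
  classical
  haveI : IsMulCommutative W₂ := isMulCommutative2 D.selfN
  haveI := finite_dual W₂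
  by_contra hcon
  push Not at hcon
  let F : U × {ψ : W₂ →* ℂˣ // ψ ≠ 1} → (P13.hall P U →* ℂˣ) := fun z =>
    cj (P13.hall P U) (z.1 : G) (D.phi z.2.1)
  have hrange : ∀ i, ∃ z, F z = f i := by
    intro i
    have hg := hcon i
    simp only [Side.Generic, not_and] at hg
    have hex : ∃ z : P13.hall P U, (z : G) ∈ P ∧ f i z ≠ 1 := by
      by_contra h
      push Not at h
      exact hne i (MonoidHom.ext fun z => h z ((hall_eq D hC).le z.2))
    have h2 := hg hex
    push Not at h2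
    obtain ⟨s, hs, ψ, e⟩ := h2
    have hψ : ψ ≠ 1 := by
      rintro rfl
      rw [D.phi_one, cj_map_one] at e
      exact hne i e.symm
    obtain ⟨u, hu, w, hw, x, hx, rfl, e2⟩ := D.cj_phi_decomp ψ hs
    have hu' : w⁻¹ * u * w ∈ U := by
      have := D.conjU (W₁.inv_mem hw) hu
      rwa [inv_inv] at this
    have hw' := D.mem_norm (D.W₁_le hw)
    refine ⟨(⟨_, hu'⟩, ⟨ψ, hψ⟩), ?_⟩
    show cj (P13.hall P U) (w⁻¹ * u * w) (D.phi ψ) = f i
    rw [← e, e2, ← cj_mul (D.mem_norm (D.U_le hu)) hw', show u * w = w * (w⁻¹ * u * w) by group,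
      cj_mul hw' (D.mem_norm (D.U_le hu')), D.phi_fixed ψ w hw]
  choose z hz using hrange
  have h := Nat.card_le_card_of_injective z fun i j e => hf (by rw [← hz i, ← hz j, e])
  rw [Nat.card_prod, card_hom_ne_one] at h
  omega

/-- A generic character fixed by no non-identity element of `U` has stabiliser `P`. -/
theorem fixCount_of_free {θ : P13.hall P U →* ℂˣ} (hθ : D.Generic θ)
    (hfree : ∀ v ∈ U, cj (P13.hall P U) v θ = θ → v = 1) :
    fixCount (P13.hall P U) S θ θ = Nat.card (P13.hall P U) := by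
  refine fixCount_self D.hall_le fun s hs => ⟨fun h => ?_, fun h => D.cj_hall θ h⟩
  obtain ⟨x, hx, v, hv, rfl⟩ := D.mem_PU.mp (D.generic_stab hθ hs h)
  rw [cj_mul (D.mem_norm (D.P_le hx)) (D.mem_norm (D.U_le hv)), D.cj_hall θ (D.P_le_hall hx)] at h
  rw [hfree v hv h, mul_one]
  exact D.P_le_hall hx

/-- Fixed point free action with `u < (p ^ q - 1) / (p - 1)`: a free generic character. -/
theorem exists_free_fpf (hfpf : ∀ v ∈ U, v ≠ 1 → ∀ x ∈ P, v * x = x * v → x = 1)
    (hu : Nat.card U * (Nat.card W₂ - 1) < Nat.card W₂ ^ Nat.card W₁ - 1) :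
    ∃ θ : P13.hall P U →* ℂˣ, D.Generic θ ∧
      fixCount (P13.hall P U) S θ θ = Nat.card (P13.hall P U) := by
  classical
  haveI : IsMulCommutative (P13.hall P U) := ⟨⟨fun a b => Subtype.ext (D.hall_comm a a.2 b b.2)⟩⟩
  haveI := finite_dual (P13.hall P U)
  obtain ⟨⟨θ, hθ1⟩, hθ⟩ := exists_generic_of_card D hC
    (Subtype.val : {f : P13.hall P U →* ℂˣ // f ≠ 1} → _) Subtype.val_injective (fun i => i.2)
    (by rw [card_hom_ne_one, hall_eq D hC, D.P_card]; exact hu)
  refine ⟨θ, hθ, fixCount_of_free D hC hθ fun v hv h => ?_⟩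
  by_contra hv1
  refine hθ1 (MonoidHom.ext fun z => ?_)
  have hv' := D.mem_norm (D.U_le hv)
  have hinj : Function.Injective (fun z : P13.hall P U => cjHom (P13.hall P U) hv' z * z⁻¹) := by
    intro a b e
    have e' : v * (a : G) * v⁻¹ * (a : G)⁻¹ = v * (b : G) * v⁻¹ * (b : G)⁻¹ := congrArg Subtype.val e
    have hd : v * ((b : G)⁻¹ * a) * v⁻¹ = (b : G)⁻¹ * a := by
      have e3 : v * (a : G) * v⁻¹ = v * (b : G) * v⁻¹ * ((b : G)⁻¹ * a) := by
        rw [← mul_assoc, ← e', inv_mul_cancel_right]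
      calc v * ((b : G)⁻¹ * a) * v⁻¹ = (v * (b : G) * v⁻¹)⁻¹ * (v * (a : G) * v⁻¹) := by group
        _ = (b : G)⁻¹ * a := by rw [e3, inv_mul_cancel_left]
    have h1 := hfpf v hv hv1 _ ((hall_eq D hC).le ((P13.hall P U).mul_mem ((P13.hall P U).inv_mem b.2) a.2))
      (mul_inv_eq_iff_eq_mul.1 hd)
    exact Subtype.ext (inv_mul_eq_one.1 h1).symm
  obtain ⟨y, rfl⟩ := (Finite.injective_iff_surjective.1 hinj) z
  simp only [map_mul, map_inv, MonoidHom.one_apply, inv_one, mul_one]
  rw [mul_inv_eq_one]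
  exact (cj_apply hv' θ y).symm.trans (DFunLike.congr_fun h y)

/-- Exponent dividing `p - 1` with `(p - 1) u < (p - 1) ^ q`: a free generic character. -/
theorem exists_free_exp (hexp : ∀ a ∈ U, a ^ (Nat.card W₂ - 1) = 1)
    (hu : (Nat.card W₂ - 1) * Nat.card U < (Nat.card W₂ - 1) ^ Nat.card W₁) :
    ∃ θ : P13.hall P U →* ℂˣ, D.Generic θ ∧
      fixCount (P13.hall P U) S θ θ = Nat.card (P13.hall P U) := by
  classical
  obtain ⟨K, hKP, hKc, hKU, hgen⟩ := exists_line D (not_irred_of_exponent D hC hexp)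
  haveI : IsMulCommutative (P13.hall P U) := ⟨⟨fun a b => Subtype.ext (D.hall_comm a a.2 b b.2)⟩⟩
  haveI := finite_dual (P13.hall P U)
  haveI := Fintype.ofFinite W₁
  let Kc : W₁ → Subgroup G := fun w => K.map (MulAut.conj (w : G)).toMonoidHom
  have hKch : ∀ w, Kc w ≤ P13.hall P U := by
    rintro w _ ⟨x, hx, rfl⟩
    exact D.P_le_hall (D.le_normP (D.W₁_le w.2) (hKP hx))
  have hcard : ∀ w, Nat.card (Kc w) = Nat.card W₂ := fun w => by
    rw [Subgroup.card_map_of_injective (MulAut.conj (w : G)).injective, hKc]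
  haveI hKab : ∀ w, IsMulCommutative (Kc w) := fun w =>
    ⟨⟨fun a b => Subtype.ext (D.hall_comm a (hKch w a.2) b (hKch w b.2))⟩⟩
  haveI : ∀ w, Finite (Kc w →* ℂˣ) := fun w => finite_dual (Kc w)
  let R : (P13.hall P U →* ℂˣ) → ((w : W₁) → (Kc w →* ℂˣ)) := fun χ w =>
    χ.comp (Subgroup.inclusion (hKch w))
  have hRinj : Function.Injective R := by
    intro χ χ' e
    refine MonoidHom.ext fun z => ?_
    let M : Subgroup G :=
      { carrier := {x | ∃ hx : x ∈ P13.hall P U, χ ⟨x, hx⟩ = χ' ⟨x, hx⟩}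
        one_mem' := ⟨one_mem _, (map_one χ).trans (map_one χ').symm⟩
        mul_mem' := by
          rintro a b ⟨ha, ea⟩ ⟨hb, eb⟩
          refine ⟨mul_mem ha hb, ?_⟩
          rw [show (⟨a * b, _⟩ : P13.hall P U) = ⟨a, ha⟩ * ⟨b, hb⟩ from rfl, map_mul, map_mul, ea, eb]
        inv_mem' := by
          rintro a ⟨ha, ea⟩
          refine ⟨inv_mem ha, ?_⟩
          rw [show (⟨a⁻¹, _⟩ : P13.hall P U) = (⟨a, ha⟩)⁻¹ from rfl, map_inv, map_inv, ea] }
    obtain ⟨_, hz⟩ := hgen M (fun w hw x hx =>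
      ⟨hKch ⟨w, hw⟩ hx, DFunLike.congr_fun (congrFun e ⟨w, hw⟩) ⟨x, hx⟩⟩) ((hall_eq D hC).le z.2)
    exact hz
  have hRsurj : Function.Surjective R := by
    refine ((Nat.bijective_iff_injective_and_card R).2 ⟨hRinj, ?_⟩).2
    rw [card_hom, hall_eq D hC, D.P_card, Nat.card_pi]
    simp only [card_hom, hcard, Finset.prod_const, Finset.card_univ, ← Nat.card_eq_fintype_card]
  choose L hL using hRsurj
  let f : ((w : W₁) → {f : Kc w →* ℂˣ // f ≠ 1}) → (P13.hall P U →* ℂˣ) := fun g => L fun w => (g w).1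
  have hfinj : Function.Injective f := fun g g' e => funext fun w => Subtype.ext (by
    have := congrFun (congrArg R e) w
    simp only [f, hL] at this
    exact this)
  have hfne : ∀ g, f g ≠ 1 := fun g e => (g 1).2 (by
    have := congrFun (congrArg R e) (1 : W₁)
    simp only [f, hL] at this
    exact this.trans (MonoidHom.ext fun z => rfl))
  have hιcard : Nat.card U * (Nat.card W₂ - 1) < Nat.card ((w : W₁) → {f : Kc w →* ℂˣ // f ≠ 1}) := by
    rw [Nat.card_pi]
    simp only [card_hom_ne_one, hcard, Finset.prod_const, Finset.card_univ, ← Nat.card_eq_fintype_card]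
    rw [mul_comm]
    exact hu
  obtain ⟨g, hg⟩ := exists_generic_of_card D hC f hfinj hfne hιcard
  refine ⟨f g, hg, fixCount_of_free D hC hg fun v hv h => eq_one_of_centralizes D hC hv fun x hx => ?_⟩
  have hle : P ≤ Subgroup.centralizer ({v} : Set G) := hgen _ fun w hw => by
    set X := Kc ⟨w, hw⟩ with hX
    haveI : Fact (Nat.card W₂).Prime := ⟨D.p_prime⟩
    obtain ⟨z, hz⟩ : ∃ z : X, (g ⟨w, hw⟩).1 z ≠ 1 := by
      by_contra hh
      push Not at hh
      exact (g ⟨w, hw⟩).2 (MonoidHom.ext hh)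
    have hz1 : z ≠ 1 := fun e => hz (by rw [e, map_one])
    have hgenz : ∀ y : X, ∃ k : ℕ, z ^ k = y := fun y =>
      mem_powers_iff_mem_zpowers.mpr (mem_zpowers_of_prime_card (g := z) (g' := y) (hcard _) hz1)
    have hvz : v * (z : G) * v⁻¹ ∈ X := hKU w hw v hv z z.2
    obtain ⟨k, hk⟩ := hgenz ⟨_, hvz⟩
    have e1 : f g ⟨_, hKch _ z.2⟩ = (g ⟨w, hw⟩).1 z := DFunLike.congr_fun (congrFun (hL fun w => (g w).1) ⟨w, hw⟩) z
    have e2 : f g ⟨_, hKch _ hvz⟩ = (g ⟨w, hw⟩).1 z := by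
      rw [← e1]
      exact (cj_apply' (D.mem_norm (D.U_le hv)) (f g) ⟨_, hKch _ z.2⟩ ⟨_, hKch _ hvz⟩ rfl).symm.trans
        (DFunLike.congr_fun h _)
    have e3 : f g ⟨_, hKch _ hvz⟩ = (g ⟨w, hw⟩).1 z ^ k := by
      rw [← map_pow, hk]
      exact DFunLike.congr_fun (congrFun (hL fun w => (g w).1) ⟨w, hw⟩) ⟨_, hvz⟩
    have hzp : z ^ Nat.card W₂ = 1 := by rw [← hcard ⟨w, hw⟩]; exact pow_card_eq_one'
    have hord : orderOf ((g ⟨w, hw⟩).1 z) = Nat.card W₂ :=
      orderOf_eq_prime (by rw [← map_pow, hzp, map_one]) hz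
    have hk1 : k ≡ 1 [MOD Nat.card W₂] := by
      rw [← hord, ← pow_eq_pow_iff_modEq, pow_one, ← e3, e2]
    have hzv : v * (z : G) * v⁻¹ = z := by
      have h' : z ^ k = z := by rw [pow_eq_pow_mod k hzp, hk1, ← pow_eq_pow_mod 1 hzp, pow_one]
      exact (congrArg Subtype.val hk).symm.trans (congrArg Subtype.val h')
    intro y hy
    obtain ⟨j, hj⟩ := hgenz ⟨y, hy⟩
    have hy' : y = (z : G) ^ j := (congrArg Subtype.val hj).symm
    rw [hy', Subgroup.mem_centralizer_singleton_iff]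
    exact ((show Commute v (z : G) from mul_inv_eq_iff_eq_mul.1 hzv).pow_right j).eq.symm
  exact (Subgroup.mem_centralizer_singleton_iff.1 (hle hx)).symm

end Cfsg.Agent.OddChar.P14
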