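/-
Peterfalvi section 14: the orders of `U` and `V` for a pair with `q < p`.
-/
import Cfsg.Agent.Lib.OddChar.P13.Ineq
import Cfsg.Agent.Lib.OddChar.P14.ShapeFree
import Cfsg.Agent.Lib.OddChar.P14.Arith

set_option autoImplicit false
set_option linter.unusedSectionVars false
set_option linter.style.haveILetI false

namespace Cfsg.Agent.OddChar.P14

open scoped IsMulCommutative
open Cfsg.Agent.OddChar.P13

universe u

variable {G : Type u} [Group G] [Finite G] {S T P U Q V W₁ W₂ : Subgroup G}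

/-! ## One side -/

theorem relIndex_eq_card (hC : P13.cpart P U = ⊥) : (P13.cpart P U).relIndex U = Nat.card U := by
  rw [hC, Subgroup.relIndex_bot_left]

variable (D : P13.Side S P U W₁ W₂) (hC : P13.cpart P U = ⊥)
include D hC

theorem card_mod_q : Nat.card U % Nat.card W₁ = 1 := by
  rw [← relIndex_eq_card hC]; exact D.u_mod

theorem card_large : 2 * Nat.card W₁ + 1 ≤ Nat.card U := by
  have hodd : Odd (Nat.card U) := D.odd.of_dvd_nat (Subgroup.card_subgroup_dvd_card U)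
  refine (Arith.one_or_large hodd (D.odd.of_dvd_nat (Subgroup.card_subgroup_dvd_card W₁))
    (card_mod_q D hC)).resolve_left fun e => ?_
  exact U_ne_bot D (Subgroup.eq_bot_of_card_eq _ e)

theorem card_bound : Nat.card U * (Nat.card W₂ - 1) ≤ Nat.card W₂ ^ Nat.card W₁ - 1 := by
  rw [← relIndex_eq_card hC]; exact D.u_bound

/-- `u / p ^ q ≤ 1 / (p - 1)`. -/
theorem ratio_le : (Nat.card U : ℝ) * ((Nat.card W₂ : ℝ) - 1) ≤ (Nat.card W₂ : ℝ) ^ Nat.card W₁ := by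
  have h := card_bound D hC
  have h2 := D.three_le_p
  have h' : ((Nat.card U * (Nat.card W₂ - 1) : ℕ) : ℝ) ≤ ((Nat.card W₂ ^ Nat.card W₁ : ℕ) : ℝ) := by
    exact_mod_cast h.trans (Nat.sub_le _ _)
  rw [Nat.cast_mul, Nat.cast_sub (by omega), Nat.cast_one, Nat.cast_pow] at h'
  exact h'

/-- A lower bound for `1 - 1 / u - u / p ^ q`. -/
theorem frac_ge {m : ℕ} (hm : 1 ≤ m) (hu : m ≤ Nat.card U) :
    1 - 1 / (m : ℝ) - 1 / ((Nat.card W₂ : ℝ) - 1) ≤
      1 - 1 / (Nat.card U : ℝ) - (Nat.card U : ℝ) / (Nat.card W₂ : ℝ) ^ Nat.card W₁ := by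
  have hp : (3 : ℝ) ≤ (Nat.card W₂ : ℝ) := by exact_mod_cast D.three_le_p
  have hm' : (0 : ℝ) < (m : ℝ) := by exact_mod_cast hm
  have h1 : 1 / (Nat.card U : ℝ) ≤ 1 / (m : ℝ) :=
    one_div_le_one_div_of_le hm' (by exact_mod_cast hu)
  have h2 : (Nat.card U : ℝ) / (Nat.card W₂ : ℝ) ^ Nat.card W₁ ≤ 1 / ((Nat.card W₂ : ℝ) - 1) := by
    rw [div_le_div_iff₀ (by positivity) (by linarith), one_mul]
    exact ratio_le D hC
  linarith

omit hC in
theorem exponent_imp_card_dvd [IsCyclic U] (hexp : ∀ a ∈ U, a ^ (Nat.card W₂ - 1) = 1) :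
    Nat.card U ∣ Nat.card W₂ - 1 := by
  rw [← IsCyclic.exponent_eq_card]
  exact Monoid.exponent_dvd_of_forall_pow_eq_one fun x => Subtype.ext (by simpa using hexp x x.2)

variable (E : P13.Side T Q V W₂ W₁) (hC' : P13.cpart Q V = ⊥)
include E hC'

/-- The inequality from a free generic character, with denominators cleared. -/
theorem ineq (hfree : ∃ θ : P13.hall P U →* ℂˣ, D.Generic θ ∧
      fixCount (P13.hall P U) S θ θ = Nat.card (P13.hall P U)) :
    (1 - 1 / (Nat.card V : ℝ) - (Nat.card V : ℝ) / (Nat.card W₁ : ℝ) ^ Nat.card W₂) *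
        ((Nat.card W₂ : ℝ) ^ Nat.card W₁ - 1) ≤
      (Nat.card W₂ : ℝ) * ((Nat.card W₁ : ℝ) * Nat.card U) := by
  classical
  haveI := Fintype.ofFinite G
  obtain ⟨θ, hθ, hfix⟩ := hfree
  obtain ⟨η, F⟩ := P13.exists_fam D.selfN D.odd
  have h := D.ineq_of_free E F hC hC' hθ hfix
  rw [Nat.cast_pow, Nat.cast_pow] at h
  have hp : (3 : ℝ) ≤ (Nat.card W₂ : ℝ) := by exact_mod_cast D.three_le_p
  have hX : (0 : ℝ) < (Nat.card W₂ : ℝ) ^ Nat.card W₁ - 1 := by
    have : (1 : ℝ) < (Nat.card W₂ : ℝ) ^ Nat.card W₁ := one_lt_pow₀ (by linarith) D.q_prime.ne_zero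
    linarith
  rw [one_div_mul_eq_div, div_le_div_iff₀ (by linarith) hX] at h
  linarith

omit hC hC' in
theorem five_le (hlt : Nat.card W₁ < Nat.card W₂) : 5 ≤ Nat.card W₂ := by
  obtain ⟨t, ht⟩ := D.odd.of_dvd_nat (Subgroup.card_subgroup_dvd_card W₁)
  obtain ⟨s, hs⟩ := D.odd.of_dvd_nat (Subgroup.card_subgroup_dvd_card W₂)
  have := D.three_le_q
  omega

omit hC hC' in
theorem q_cases (hlt : Nat.card W₁ < Nat.card W₂) :
    (5 ≤ Nat.card W₁ ∧ 7 ≤ Nat.card W₂) ∨ (Nat.card W₁ = 3 ∧ 11 ≤ Nat.card W₂) ∨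
      (Nat.card W₁ = 3 ∧ Nat.card W₂ = 7) ∨ (Nat.card W₁ = 3 ∧ Nat.card W₂ = 5) := by
  obtain ⟨t, ht⟩ := D.odd.of_dvd_nat (Subgroup.card_subgroup_dvd_card W₁)
  obtain ⟨s, hs⟩ := D.odd.of_dvd_nat (Subgroup.card_subgroup_dvd_card W₂)
  have hq3 := D.three_le_q
  have h9 : Nat.card W₂ ≠ 9 := fun e => by
    have := D.p_prime
    rw [e] at this
    norm_num at this
  omega

omit D E hC hC' in
theorem two_mul_sq_le_two_pow : ∀ n, 7 ≤ n → 2 * (n * n) ≤ 2 ^ n := by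
  intro n hn
  induction n, hn using Nat.le_induction with
  | base => norm_num
  | succ n hn ih => rw [pow_succ]; nlinarith

/-- `V` acts fixed point freely and has full order. -/
theorem orders_right (hlt : Nat.card W₁ < Nat.card W₂) :
    (∀ v ∈ V, v ≠ 1 → ∀ x ∈ Q, v * x = x * v → x = 1) ∧ IsCyclic V ∧
      Nat.card V * (Nat.card W₁ - 1) = Nat.card W₁ ^ Nat.card W₂ - 1 := by
  have hq3 := D.three_le_q
  have hp5 := five_le D E hlt
  have hv := card_large E hC'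
  have hu := card_large D hC
  have hf := frac_ge D hC (m := 2 * Nat.card W₁ + 1) (by omega) hu
  rcases shape E hC' with ⟨hfpf, hcyc, hdvd⟩ | ⟨hexp, hle⟩
  swap
  · -- the exponent case is impossible
    exfalso
    rcases q_cases D E hlt with ⟨hq5, hp7⟩ | ⟨hq, -⟩ | ⟨hq, -⟩ | ⟨hq, -⟩
    rotate_left
    all_goals (try (rw [hq] at hle; norm_num at hle; omega))
    have hpow : 2 * (Nat.card W₂ * Nat.card W₁) ≤ 2 ^ Nat.card W₂ :=
      (Nat.mul_le_mul_left 2 (Nat.mul_le_mul_left _ hlt.le)).trans (two_mul_sq_le_two_pow _ hp7)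
    have hlarge : Nat.card W₁ - 1 < 2 ^ Nat.card W₂ := by
      have := Nat.lt_two_pow_self (n := Nat.card W₂)
      omega
    have hv2 : Nat.card V * 2 ^ Nat.card W₂ ≤ (Nat.card W₁ - 1) ^ Nat.card W₂ := by
      refine le_trans (Nat.mul_le_mul_right _ hle) ?_
      rw [← mul_pow]
      exact Nat.pow_le_pow_left (Nat.div_mul_le_self _ _) _
    have hfree := exists_free_exp E hC' hexp (by
      calc (Nat.card W₁ - 1) * Nat.card V < 2 ^ Nat.card W₂ * Nat.card V :=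
            (Nat.mul_lt_mul_right Nat.card_pos).2 hlarge
        _ ≤ _ := by rwa [mul_comm])
    have h := ineq E hC' D hC hfree
    have hv3 : Nat.card V * 2 ^ Nat.card W₂ < Nat.card W₁ ^ Nat.card W₂ :=
      lt_of_le_of_lt hv2 (Nat.pow_lt_pow_left (by omega) (by omega))
    have hv3' : (Nat.card V : ℝ) * (2 : ℝ) ^ Nat.card W₂ ≤ (Nat.card W₁ : ℝ) ^ Nat.card W₂ - 1 := by
      have : ((Nat.card V * 2 ^ Nat.card W₂ + 1 : ℕ) : ℝ) ≤ ((Nat.card W₁ ^ Nat.card W₂ : ℕ) : ℝ) := by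
        exact_mod_cast hv3
      push_cast at this
      linarith
    have hpow' : 2 * ((Nat.card W₂ : ℝ) * (Nat.card W₁ : ℝ)) ≤ (2 : ℝ) ^ Nat.card W₂ := by exact_mod_cast hpow
    have hf' : (0.74 : ℝ) ≤ 1 - 1 / (Nat.card U : ℝ) - (Nat.card U : ℝ) / (Nat.card W₂ : ℝ) ^ Nat.card W₁ := by
      refine le_trans ?_ hf
      have h1 : 1 / ((2 * Nat.card W₁ + 1 : ℕ) : ℝ) ≤ 1 / 11 :=
        one_div_le_one_div_of_le (by norm_num) (by exact_mod_cast (by omega : 11 ≤ 2 * Nat.card W₁ + 1))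
      have h2 : 1 / ((Nat.card W₂ : ℝ) - 1) ≤ 1 / 6 :=
        one_div_le_one_div_of_le (by norm_num) (by
          have : (7 : ℝ) ≤ (Nat.card W₂ : ℝ) := by exact_mod_cast hp7
          linarith)
      linarith
    set f := 1 - 1 / (Nat.card U : ℝ) - (Nat.card U : ℝ) / (Nat.card W₂ : ℝ) ^ Nat.card W₁
    have hv0 : (0 : ℝ) < (Nat.card V : ℝ) := Nat.cast_pos.mpr Nat.card_pos
    have hX : (0 : ℝ) < (Nat.card W₁ : ℝ) ^ Nat.card W₂ - 1 :=
      lt_of_lt_of_le (by positivity) hv3'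
    nlinarith [mul_le_mul_of_nonneg_right hf' hX.le, mul_le_mul_of_nonneg_left hpow' hv0.le]
  -- the fixed point free case
  obtain ⟨j, hj⟩ : ∃ j, Nat.card V * j * (Nat.card W₁ - 1) = Nat.card W₁ ^ Nat.card W₂ - 1 := by
    obtain ⟨j, hj⟩ := hdvd
    refine ⟨j, ?_⟩
    rw [← hj, Nat.div_mul_cancel]
    simpa using Nat.sub_dvd_pow_sub_pow (Nat.card W₁) 1 (Nat.card W₂)
  rcases eq_or_ne j 1 with rfl | hj1
  · exact ⟨hfpf, hcyc, by simpa using hj⟩
  exfalso
  have hN := Arith.eq_geom (p := Nat.card W₁) (q := Nat.card W₂) (by omega) hj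
  have hNp : (∑ i ∈ Finset.range (Nat.card W₂), Nat.card W₁ ^ i) % Nat.card W₂ = 1 :=
    (Arith.geom_mod_exp D.p_prime (by omega)).2 fun h => absurd (Nat.le_of_dvd (by omega) h) (by omega)
  have hNo : Odd (∑ i ∈ Finset.range (Nat.card W₂), Nat.card W₁ ^ i) := by
    rw [Nat.odd_iff, Finset.sum_nat_mod]
    have h2 : ∀ i, Nat.card W₁ ^ i % 2 = 1 := fun i =>
      Nat.odd_iff.1 ((D.odd.of_dvd_nat (Subgroup.card_subgroup_dvd_card W₁)).pow)
    simp only [h2, Finset.sum_const, Finset.card_range, smul_eq_mul, mul_one]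
    exact Nat.odd_iff.1 (D.odd.of_dvd_nat (Subgroup.card_subgroup_dvd_card W₂))
  rw [← hN] at hNp hNo
  have hjmod : j % Nat.card W₂ = 1 := Arith.mod_one_of_mul (card_mod_q E hC') hNp
  have hjl : 2 * Nat.card W₂ + 1 ≤ j := (Arith.one_or_large (Nat.odd_mul.1 hNo).2
    (D.odd.of_dvd_nat (Subgroup.card_subgroup_dvd_card W₂)) hjmod).resolve_left hj1
  have hfree := exists_free_fpf E hC' hfpf (by
    rw [← hj]
    have h1 : 0 < Nat.card W₁ - 1 := by omega
    exact (Nat.mul_lt_mul_right h1).2 (lt_mul_of_one_lt_right Nat.card_pos (by omega)))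
  have h := ineq E hC' D hC hfree
  set f := 1 - 1 / (Nat.card U : ℝ) - (Nat.card U : ℝ) / (Nat.card W₂ : ℝ) ^ Nat.card W₁ with hfdef
  have hj' : (Nat.card V : ℝ) * (j : ℝ) * ((Nat.card W₁ : ℝ) - 1) = (Nat.card W₁ : ℝ) ^ Nat.card W₂ - 1 := by
    have := congrArg (fun n : ℕ => (n : ℝ)) hj
    simp only [Nat.cast_mul] at this
    rwa [Nat.cast_sub (by omega), Nat.cast_sub (Nat.one_le_pow _ _ (by omega)), Nat.cast_one, Nat.cast_pow] at this
  have hv0 : (0 : ℝ) < (Nat.card V : ℝ) := Nat.cast_pos.mpr Nat.card_pos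
  -- `f j (q - 1) ≤ p q`
  have key : f * ((j : ℝ) * ((Nat.card W₁ : ℝ) - 1)) ≤ (Nat.card W₁ : ℝ) * (Nat.card W₂ : ℝ) := by
    rw [← hj'] at h
    nlinarith [h, hv0]
  have hjl' : 2 * (Nat.card W₂ : ℝ) + 1 ≤ (j : ℝ) := by exact_mod_cast hjl
  rcases q_cases D E hlt with ⟨hq5, hp7⟩ | ⟨hq, hp11⟩ | ⟨hq, hp7⟩ | ⟨hq, hp5'⟩
  · have hq5' : (5 : ℝ) ≤ (Nat.card W₁ : ℝ) := by exact_mod_cast hq5
    have hp7' : (7 : ℝ) ≤ (Nat.card W₂ : ℝ) := by exact_mod_cast hp7
    have hf' : (0.74 : ℝ) ≤ f := by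
      refine le_trans ?_ hf
      have h1 : 1 / ((2 * Nat.card W₁ + 1 : ℕ) : ℝ) ≤ 1 / 11 :=
        one_div_le_one_div_of_le (by norm_num) (by exact_mod_cast (by omega : 11 ≤ 2 * Nat.card W₁ + 1))
      have h2 : 1 / ((Nat.card W₂ : ℝ) - 1) ≤ 1 / 6 := one_div_le_one_div_of_le (by norm_num) (by linarith)
      linarith
    have h3 : 0.74 * ((2 * (Nat.card W₂ : ℝ) + 1) * ((Nat.card W₁ : ℝ) - 1)) ≤
        f * ((j : ℝ) * ((Nat.card W₁ : ℝ) - 1)) := mul_le_mul hf' (mul_le_mul_of_nonneg_right hjl' (by linarith))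
        (mul_nonneg (by linarith) (by linarith)) (by linarith)
    nlinarith
  · have hp11' : (11 : ℝ) ≤ (Nat.card W₂ : ℝ) := by exact_mod_cast hp11
    have hf' : (0.757 : ℝ) ≤ f := by
      refine le_trans ?_ hf
      have h1 : 1 / ((2 * Nat.card W₁ + 1 : ℕ) : ℝ) = 1 / 7 := by rw [hq]; norm_num
      have h2 : 1 / ((Nat.card W₂ : ℝ) - 1) ≤ 1 / 10 := one_div_le_one_div_of_le (by norm_num) (by linarith)
      linarith
    rw [hq] at key
    norm_num at key
    nlinarith [mul_le_mul hf' hjl' (by positivity) (by linarith)]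
  · rw [hp7, hq] at hN
    norm_num [Finset.sum_range_succ] at hN
    have hpr : Nat.Prime 1093 := by norm_num
    rcases hpr.eq_one_or_self_of_dvd j ⟨Nat.card V, by rw [← hN, mul_comm]⟩ with h' | h'
    · exact hj1 h'
    · rw [h'] at hN
      omega
  · rw [hp5', hq] at hN
    norm_num [Finset.sum_range_succ] at hN
    have hv11 : 11 ≤ Nat.card V := by omega
    have hj11 : j = 11 := by
      have : j ≤ 11 := by
        by_contra hh
        nlinarith [Nat.mul_le_mul hv11 (show 12 ≤ j by omega)]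
      omega
    rcases shape D hC with ⟨-, -, hdvd'⟩ | ⟨hexp', -⟩
    · rw [hp5', hq] at hdvd'
      norm_num at hdvd'
      have hpr : Nat.Prime 31 := by norm_num
      have hu31 : Nat.card U = 31 := (hpr.eq_one_or_self_of_dvd _ hdvd').resolve_left (by omega)
      rw [hj11, hq] at key
      rw [hfdef, hp5', hu31, hq] at key
      norm_num at key
    · refine U_ne_bot D ((Subgroup.eq_bot_iff_forall _).2 fun a ha => orderOf_eq_one_iff.1 ?_)
      have h4 := orderOf_dvd_of_pow_eq_one (hexp' a ha)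
      rw [hp5'] at h4
      obtain ⟨t, ht⟩ := D.odd.of_dvd_nat (orderOf_dvd_natCard a)
      have := Nat.le_of_dvd (by norm_num) h4
      obtain ⟨c, hc⟩ := h4
      interval_cases hoa : orderOf a <;> omega

/-- The orders of `U` and `V`. -/
theorem orders (hlt : Nat.card W₁ < Nat.card W₂)
    (hexp : (∀ a ∈ U, a ^ (Nat.card W₂ - 1) = 1) → IsCyclic U) :
    (∀ u ∈ U, u ≠ 1 → ∀ x ∈ P, u * x = x * u → x = 1) ∧
      (∀ v ∈ V, v ≠ 1 → ∀ x ∈ Q, v * x = x * v → x = 1) ∧ IsCyclic U ∧ IsCyclic V ∧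
      Nat.card V * (Nat.card W₁ - 1) = Nat.card W₁ ^ Nat.card W₂ - 1 ∧
      ∃ j, Nat.card U * j * (Nat.card W₂ - 1) = Nat.card W₂ ^ Nat.card W₁ - 1 ∧
        (j = 1 ∨ (j = Nat.card W₁ ∧ Nat.card W₁ ∣ Nat.card W₂ - 1)) ∧
        Nat.card U % Nat.card W₁ = 1 ∧ Nat.card V % Nat.card W₂ = 1 := by
  obtain ⟨hVfpf, hVcyc, hv⟩ := orders_right D hC E hC' hlt
  have hq3 := D.three_le_q
  have hp5 := five_le D E hlt
  have hvN : Nat.card V = ∑ i ∈ Finset.range (Nat.card W₂), Nat.card W₁ ^ i := by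
    simpa using Arith.eq_geom (u := Nat.card V) (j := 1) (by omega) (by simpa using hv)
  have hvge : Nat.card W₁ ^ (Nat.card W₂ - 1) + 1 ≤ Nat.card V := hvN ▸ Arith.geom_ge (by omega)
  set g := 1 - 1 / (Nat.card V : ℝ) - (Nat.card V : ℝ) / (Nat.card W₁ : ℝ) ^ Nat.card W₂ with hgdef
  have hg82 : 1 - 1 / (82 : ℝ) - 1 / ((Nat.card W₁ : ℝ) - 1) ≤ g := by
    refine frac_ge E hC' (m := 82) (by norm_num) ?_
    have : 3 ^ 4 ≤ Nat.card W₁ ^ (Nat.card W₂ - 1) :=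
      (Nat.pow_le_pow_left hq3 4).trans (Nat.pow_le_pow_right (by omega) (by omega))
    omega
  have hg3 : (0.487 : ℝ) ≤ g := by
    refine le_trans ?_ hg82
    have : 1 / ((Nat.card W₁ : ℝ) - 1) ≤ 1 / 2 := one_div_le_one_div_of_le (by norm_num) (by
      have : (3 : ℝ) ≤ (Nat.card W₁ : ℝ) := by exact_mod_cast hq3
      linarith)
    linarith
  have hg5 : 5 ≤ Nat.card W₁ → (0.737 : ℝ) ≤ g := fun hq5 => by
    refine le_trans ?_ hg82
    have : 1 / ((Nat.card W₁ : ℝ) - 1) ≤ 1 / 4 := one_div_le_one_div_of_le (by norm_num) (by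
      have : (5 : ℝ) ≤ (Nat.card W₁ : ℝ) := by exact_mod_cast hq5
      linarith)
    linarith
  have hg11 : Nat.card W₁ = 3 → 11 ≤ Nat.card W₂ → (0.4999 : ℝ) ≤ g := fun hq hp11 => by
    have h310 : 3 ^ 10 ≤ Nat.card V := by
      rw [hq] at hvge
      have := (Nat.pow_le_pow_right (by norm_num : 1 ≤ 3) (show 10 ≤ Nat.card W₂ - 1 by omega))
      omega
    refine le_trans ?_ (frac_ge E hC' (m := 3 ^ 10) (by norm_num) h310)
    rw [hq]
    norm_num
  have hp0 : (5 : ℝ) ≤ (Nat.card W₂ : ℝ) := by exact_mod_cast hp5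
  have hq0 : (3 : ℝ) ≤ (Nat.card W₁ : ℝ) := by exact_mod_cast hq3
  have hvmod := card_mod_q E hC'
  rcases shape D hC with ⟨hfpf, hcyc, hdvd⟩ | ⟨hexp', -⟩
  swap
  · -- the exponent case is impossible
    exfalso
    haveI := hexp hexp'
    have hdvd := exponent_imp_card_dvd D hexp'
    have h2u : 2 * Nat.card U ≤ Nat.card W₂ - 1 := by
      obtain ⟨c, hc⟩ := hdvd
      obtain ⟨t, ht⟩ := D.odd.of_dvd_nat (Subgroup.card_subgroup_dvd_card U)
      obtain ⟨s, hs⟩ := D.odd.of_dvd_nat (Subgroup.card_subgroup_dvd_card W₂)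
      have hc2 : 2 ≤ c := by
        rcases Nat.lt_or_ge c 2 with h | h
        · interval_cases c <;> omega
        · exact h
      rw [hc, mul_comm 2]
      exact Nat.mul_le_mul_left _ hc2
    have hfree := exists_free_exp D hC hexp' (by
      have h1 : 0 < Nat.card W₂ - 1 := by omega
      calc (Nat.card W₂ - 1) * Nat.card U < (Nat.card W₂ - 1) * (Nat.card W₂ - 1) :=
            (Nat.mul_lt_mul_left h1).2 (by have := Nat.card_pos (α := U); omega)
        _ = (Nat.card W₂ - 1) ^ 2 := by ring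
        _ ≤ _ := Nat.pow_le_pow_right h1 (by omega))
    have h := ineq D hC E hC' hfree
    have h2u' : 2 * (Nat.card U : ℝ) ≤ (Nat.card W₂ : ℝ) - 1 := by
      have : ((2 * Nat.card U + 1 : ℕ) : ℝ) ≤ (Nat.card W₂ : ℝ) := by exact_mod_cast (by omega : 2 * Nat.card U + 1 ≤ Nat.card W₂)
      push_cast at this
      linarith
    have hgeom : ((Nat.card W₂ : ℝ) - 1) * (Nat.card W₂ : ℝ) ^ (Nat.card W₁ - 1) ≤
        (Nat.card W₂ : ℝ) ^ Nat.card W₁ - 1 := by
      have hmem : Nat.card W₁ - 1 ∈ Finset.range (Nat.card W₁) := Finset.mem_range.2 (by omega)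
      rw [← geom_sum_mul (Nat.card W₂ : ℝ) (Nat.card W₁), mul_comm _ ((Nat.card W₂ : ℝ) - 1)]
      exact mul_le_mul_of_nonneg_left
        (Finset.single_le_sum (f := fun i => (Nat.card W₂ : ℝ) ^ i) (fun i _ => by positivity) hmem) (by linarith)
    -- `2 g p ^ (q - 1) ≤ p q`
    have key : 2 * g * (Nat.card W₂ : ℝ) ^ (Nat.card W₁ - 1) ≤ (Nat.card W₂ : ℝ) * (Nat.card W₁ : ℝ) := by
      have h3 : g * (((Nat.card W₂ : ℝ) - 1) * (Nat.card W₂ : ℝ) ^ (Nat.card W₁ - 1)) ≤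
          (Nat.card W₂ : ℝ) * ((Nat.card W₁ : ℝ) * (((Nat.card W₂ : ℝ) - 1) / 2)) := by
        refine le_trans (mul_le_mul_of_nonneg_left hgeom (by linarith)) (le_trans h ?_)
        gcongr
        linarith
      nlinarith [h3]
    rcases q_cases D E hlt with ⟨hq5, hp7⟩ | ⟨hq, -⟩ | ⟨hq, -⟩ | ⟨hq, -⟩
    · have h4 : (Nat.card W₂ : ℝ) ^ 4 ≤ (Nat.card W₂ : ℝ) ^ (Nat.card W₁ - 1) :=
        pow_le_pow_right₀ (by linarith) (by omega)
      have hqp : (Nat.card W₁ : ℝ) ≤ (Nat.card W₂ : ℝ) := by exact_mod_cast hlt.le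
      have h5 := hg5 hq5
      nlinarith [mul_le_mul_of_nonneg_left h4 (by linarith : (0 : ℝ) ≤ g),
        mul_le_mul_of_nonneg_right h5 (by positivity : (0 : ℝ) ≤ (Nat.card W₂ : ℝ) ^ 4),
        mul_le_mul_of_nonneg_left hqp (by linarith : (0 : ℝ) ≤ (Nat.card W₂ : ℝ)),
        mul_le_mul_of_nonneg_left (by nlinarith : (25 : ℝ) ≤ (Nat.card W₂ : ℝ) ^ 2)
          (sq_nonneg (Nat.card W₂ : ℝ))]
    all_goals
      rw [hq] at key
      norm_num at key
      nlinarith [mul_le_mul_of_nonneg_right hg3 (sq_nonneg (Nat.card W₂ : ℝ))]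
  -- the fixed point free case
  refine ⟨hfpf, hVfpf, hcyc, hVcyc, hv, ?_⟩
  obtain ⟨j, hj⟩ : ∃ j, Nat.card U * j * (Nat.card W₂ - 1) = Nat.card W₂ ^ Nat.card W₁ - 1 := by
    obtain ⟨j, hj⟩ := hdvd
    refine ⟨j, ?_⟩
    rw [← hj, Nat.div_mul_cancel]
    simpa using Nat.sub_dvd_pow_sub_pow (Nat.card W₂) 1 (Nat.card W₁)
  have humod := card_mod_q D hC
  refine ⟨j, hj, ?_, humod, hvmod⟩
  by_contra hcon
  push Not at hcon
  obtain ⟨hj1, hjq⟩ := hcon
  have hN := Arith.eq_geom (p := Nat.card W₂) (q := Nat.card W₁) (by omega) hj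
  have hjo : Odd j := by
    have : Odd (∑ i ∈ Finset.range (Nat.card W₁), Nat.card W₂ ^ i) := by
      rw [Nat.odd_iff, Finset.sum_nat_mod]
      have h2 : ∀ i, Nat.card W₂ ^ i % 2 = 1 := fun i =>
        Nat.odd_iff.1 ((D.odd.of_dvd_nat (Subgroup.card_subgroup_dvd_card W₂)).pow)
      simp only [h2, Finset.sum_const, Finset.card_range, smul_eq_mul, mul_one]
      exact Nat.odd_iff.1 (D.odd.of_dvd_nat (Subgroup.card_subgroup_dvd_card W₁))
    rw [← hN] at this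
    exact (Nat.odd_mul.1 this).2
  have hfree := exists_free_fpf D hC hfpf (by
    rw [← hj]
    have h1 : 0 < Nat.card W₂ - 1 := by omega
    exact (Nat.mul_lt_mul_right h1).2
      (lt_mul_of_one_lt_right Nat.card_pos (by obtain ⟨t, ht⟩ := hjo; omega)))
  have h := ineq D hC E hC' hfree
  have hj' : (Nat.card U : ℝ) * (j : ℝ) * ((Nat.card W₂ : ℝ) - 1) = (Nat.card W₂ : ℝ) ^ Nat.card W₁ - 1 := by
    have := congrArg (fun n : ℕ => (n : ℝ)) hj
    simp only [Nat.cast_mul] at this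
    rwa [Nat.cast_sub (by omega), Nat.cast_sub (Nat.one_le_pow _ _ (by omega)), Nat.cast_one, Nat.cast_pow] at this
  have key : g * ((j : ℝ) * ((Nat.card W₂ : ℝ) - 1)) ≤ (Nat.card W₂ : ℝ) * (Nat.card W₁ : ℝ) := by
    rw [← hj'] at h
    have hu0 : (0 : ℝ) < (Nat.card U : ℝ) := Nat.cast_pos.mpr Nat.card_pos
    nlinarith [h, hu0]
  by_cases hqd : Nat.card W₁ ∣ Nat.card W₂ - 1
  · -- `j = q i` with `i ≥ 3`
    have hNq : Nat.card W₁ ∣ Nat.card U * j := hN ▸ (Arith.geom_mod_exp D.q_prime (by omega)).1 hqd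
    obtain ⟨i, rfl⟩ : Nat.card W₁ ∣ j := by
      rcases D.q_prime.dvd_mul.1 hNq with h' | h'
      · rw [Nat.dvd_iff_mod_eq_zero, humod] at h'; omega
      · exact h'
    have hi : 3 ≤ i := by
      obtain ⟨t, ht⟩ := (Nat.odd_mul.1 hjo).2
      rcases eq_or_ne i 1 with rfl | hne
      · exact absurd hqd (hjq (mul_one _))
      · omega
    have hi' : (3 : ℝ) ≤ (i : ℝ) := by exact_mod_cast hi
    push_cast at key
    have h3 : 0.487 * (((Nat.card W₁ : ℝ) * 3) * ((Nat.card W₂ : ℝ) - 1)) ≤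
        g * (((Nat.card W₁ : ℝ) * (i : ℝ)) * ((Nat.card W₂ : ℝ) - 1)) := mul_le_mul hg3
          (mul_le_mul_of_nonneg_right (mul_le_mul_of_nonneg_left hi' (by linarith)) (by linarith))
          (mul_nonneg (mul_nonneg (by linarith) (by norm_num)) (by linarith)) (by linarith)
    nlinarith
  · -- `j ≡ 1 [MOD q]`
    have hNq : (∑ i ∈ Finset.range (Nat.card W₁), Nat.card W₂ ^ i) % Nat.card W₁ = 1 :=
      (Arith.geom_mod_exp D.q_prime (by omega)).2 hqd
    rw [← hN] at hNq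
    have hjl : 2 * Nat.card W₁ + 1 ≤ j := (Arith.one_or_large hjo
      (D.odd.of_dvd_nat (Subgroup.card_subgroup_dvd_card W₁)) (Arith.mod_one_of_mul humod hNq)).resolve_left hj1
    have hjl' : 2 * (Nat.card W₁ : ℝ) + 1 ≤ (j : ℝ) := by exact_mod_cast hjl
    rcases q_cases D E hlt with ⟨hq5, -⟩ | ⟨hq, hp11⟩ | ⟨hq, hp7⟩ | ⟨hq, hp5'⟩
    · have h5 := hg5 hq5
      have h3 : 0.737 * ((2 * (Nat.card W₁ : ℝ) + 1) * ((Nat.card W₂ : ℝ) - 1)) ≤
          g * ((j : ℝ) * ((Nat.card W₂ : ℝ) - 1)) := mul_le_mul h5 (mul_le_mul_of_nonneg_right hjl' (by linarith))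
          (mul_nonneg (by linarith) (by linarith)) (by linarith)
      nlinarith
    · have h5 := hg11 hq hp11
      have hp11' : (11 : ℝ) ≤ (Nat.card W₂ : ℝ) := by exact_mod_cast hp11
      have h3 : 0.4999 * ((2 * (Nat.card W₁ : ℝ) + 1) * ((Nat.card W₂ : ℝ) - 1)) ≤
          g * ((j : ℝ) * ((Nat.card W₂ : ℝ) - 1)) := mul_le_mul h5 (mul_le_mul_of_nonneg_right hjl' (by linarith))
          (mul_nonneg (by linarith) (by linarith)) (by linarith)
      rw [hq] at h3 key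
      norm_num at h3 key
      nlinarith
    · rw [hp7, hq] at hqd
      exact hqd (by norm_num)
    · rw [hp5', hq] at hN
      norm_num [Finset.sum_range_succ] at hN
      have hpr : Nat.Prime 31 := by norm_num
      rcases hpr.eq_one_or_self_of_dvd j ⟨Nat.card U, by rw [← hN, mul_comm]⟩ with h' | h'
      · exact hj1 h'
      · rw [h'] at hN
        have := card_large D hC
        omega

end Cfsg.Agent.OddChar.P14
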