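/-
Peterfalvi section 14: the structure of a pair with `q < p`.
-/
import Cfsg.Agent.Lib.OddChar.P14.Bound
import Cfsg.Agent.Lib.OddChar.P14.LGroup
import Cfsg.Agent.Lib.OddChar.P14.Orders
import Cfsg.Agent.Lib.OddChar.P14.Exponent
import Cfsg.Agent.Lib.OddChar.Assembly

set_option autoImplicit false
set_option linter.unusedSectionVars false
set_option linter.unusedVariables false
set_option linter.style.haveILetI false

namespace Cfsg.Agent.OddChar.P14

open scoped commutatorElement
open Cfsg.Agent.Char Cfsg.Agent.Char.CyclicTI Cfsg.Agent.OddChar.P13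

universe u

variable {G : Type u} [Group G]

/-- The orders of a geometric sum and of `p - 1` are coprime when `q` does not divide the sum. -/
theorem coprime_geom {p q u : ℕ} (hp : 2 ≤ p) (hq : q.Prime) (hu : u * (p - 1) = p ^ q - 1)
    (hu1 : u % q = 1) : ((p ^ q - 1) / (p - 1)).Coprime (p - 1) := by
  rw [← hu, Nat.mul_div_cancel _ (by omega)]
  have hN : u = ∑ i ∈ Finset.range q, p ^ i := by
    simpa using Arith.eq_geom (u := u) (j := 1) hp (by simpa using hu)
  refine Nat.coprime_of_dvd fun r hr hru hrp => ?_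
  haveI := Fact.mk hr
  have h1 : (p : ZMod r) = 1 := by
    have h2 : ((p - 1 : ℕ) : ZMod r) = 0 := (ZMod.natCast_eq_zero_iff _ _).2 hrp
    rw [Nat.cast_sub (by omega), Nat.cast_one, sub_eq_zero] at h2
    exact h2
  have h3 : (q : ZMod r) = 0 := by
    have h4 : (u : ZMod r) = 0 := (ZMod.natCast_eq_zero_iff _ _).2 hru
    rw [hN, Nat.cast_sum] at h4
    simpa [h1] using h4
  have h5 : r = q := (Nat.prime_dvd_prime_iff_eq hr hq).1 ((ZMod.natCast_eq_zero_iff _ _).1 h3)
  subst h5
  rw [Nat.dvd_iff_mod_eq_zero, hu1] at hru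
  exact one_ne_zero hru

variable [Finite G] {S T W₁ W₂ U V : Subgroup G} (hG : Cfsg.IsMinSimpleOddOrder G)
  (hV : NoTypeV G) (hIV : NoTypeIV G) (h3 : TypeThreeFacts G) (hpr : PairPrimes G)
  (hfr : TypeOneFrobenius G) (hpf : PairFacts G) (hpn : PairNormalizer G)
  (hC : PairCentralizerTrivial G)
include hG hV hIV h3 hpr hfr hpf hpn hC

/-- What the bound uses of the member `T`. -/
theorem otherSide (h : IsPairP G S T W₁ W₂ U V) [Fintype G] : OtherSide T V W₁ W₂ := by
  classical
  obtain ⟨hq, hp⟩ := pair_prime hG h hpf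
  rcases (hpf T S W₂ W₁ V U h.symm).1 with hII | hIII
  · right
    obtain ⟨M, hMc, -, hM, hNM, hVM, halt⟩ := exists_L hG h.symm hfr hpf hpn hII
    rcases halt with ⟨hbot, hsup⟩ | ⟨y, hy, hbot, hsup⟩
    · obtain ⟨hc, -, hcop⟩ := alt_one_card hG h.symm hpf hII hM hVM hbot hsup
      refine ⟨M, Nat.card W₂, hM, hc, Nat.le_mul_of_pos_left _ hq.pos, ?_, hVM⟩
      rw [mul_comm]; exact hcop.symm
    · obtain ⟨hc, -, hcop⟩ := alt_two_card hG h.symm hpf hII hM hVM hy hbot hsup
      refine ⟨M, Nat.card W₂ * Nat.card W₁, hM, hc, le_of_eq (mul_comm _ _), ?_, hVM⟩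
      rw [mul_comm]; exact hcop.symm
  · left
    refine ⟨fun x y hx hy => reg_not_tilde_III hG h.coatom_right h.right hIII h3 hq hp
      h.left.selfNormalizing x y hx hy, typeIII_probes hG h.coatom_right h.right hIII⟩

/-- The structure of a pair with `q < p`. -/
theorem pairStructure : Assembly.PairStructure G := by
  intro S T W₁ W₂ U V h hlt
  classical
  haveI : Fintype G := Fintype.ofFinite G
  have D := P13.side_of_pair hG hV hIV h3 hpr h
  have E := P13.side_of_pair' hG hV hIV h3 hpr h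
  have hC1 : cpart (Cfsg.fittingHallOf S) U = ⊥ := hC S T W₁ W₂ U V h
  have hC2 : cpart (Cfsg.fittingHallOf T) V = ⊥ := hC T S W₂ W₁ V U h.symm
  obtain ⟨-, hII', hel, hcard, -, -⟩ := hpf S T W₁ W₂ U V h
  have hII := hII' hlt
  obtain ⟨-, -, helT, -, -, -⟩ := hpf T S W₂ W₁ V U h.symm
  obtain ⟨L, hLc, hLI, hL, hNL, hUH, halt⟩ := exists_L hG h hfr hpf hpn hII
  set P := Cfsg.fittingHallOf S with hPdef
  set H := Cfsg.fittingHallOf L with hHdef
  set q := Nat.card W₁ with hqdef
  set p := Nat.card W₂ with hpdef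
  have hqo : Odd q := hG.1.of_dvd_nat (Subgroup.card_subgroup_dvd_card W₁)
  have hpo : Odd p := hG.1.of_dvd_nat (Subgroup.card_subgroup_dvd_card W₂)
  have hp1 : q + 1 ≤ p - 1 := by
    obtain ⟨a, ha⟩ := hqo
    obtain ⟨b, hb⟩ := hpo
    omega
  -- the first alternative is impossible
  rcases halt with ⟨hbot, hsup⟩ | ⟨y, hy, hbot, hsup⟩
  · exfalso
    obtain ⟨hLcard, -, hcop⟩ := alt_one_card hG h hpf hII hL hUH hbot hsup
    haveI : Fintype L := Fintype.ofFinite L
    obtain ⟨ι, _, d, i₀, w, Φ, B⟩ := exists_block hG hL (e := q) rfl hLcard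
    obtain ⟨η, F⟩ := exists_fam D.selfN D.odd
    have hVL : ∀ (x : W₁) (y : W₂), x ≠ 1 → y ≠ 1 → (x : G) * y ∉ tilde L :=
      fun x y _ _ => reg_not_tilde hG hL D.selfN hcop.symm x y
    obtain ⟨b, c, g⟩ := B.exists_grid F D.selfN D.odd hVL D.q_prime D.p_prime
    have hb : b = 0 := by
      by_contra hb0
      have h1 := B.bessel F D.selfN D.odd g (κ := Fin 0) Fin.elim0 (fun i => i.elim0) (fun i => i.elim0)
      have hb1 : (1 : ℝ) ≤ (b : ℝ) ^ 2 := by
        exact_mod_cast (one_le_sq_iff_one_le_abs b).mpr (Int.one_le_abs hb0)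
      rw [Finset.univ_eq_empty, Finset.sum_empty, ← hqdef, ← hpdef] at h1
      have h2 : (q : ℝ) + 2 ≤ (p : ℝ) := by
        have : q + 2 ≤ p := by omega
        exact_mod_cast this
      have hq1 : (1 : ℝ) ≤ q := by exact_mod_cast D.q_prime.one_lt.le
      have hp1' : (1 : ℝ) ≤ p := by exact_mod_cast D.p_prime.one_lt.le
      nlinarith [mul_nonneg (sub_nonneg.2 hq1) (sq_nonneg (c : ℝ)),
        mul_le_mul_of_nonneg_left hb1 (sub_nonneg.2 hp1'),
        mul_nonneg (mul_nonneg (sub_nonneg.2 hq1) (sub_nonneg.2 hp1')) (sq_nonneg ((b : ℝ) + c - 1))]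
    have h1 := B.side_bound F D.selfN D.odd hVL D hC1
      (fun ψ x hx => gfun_tilde hG hL D hC1 (hcop.symm.coprime_dvd_left (dvd_mul_left _ _)) ψ hx) g
      (hb ▸ Even.zero)
    rw [← hqdef] at h1
    have h2 := B.sum_sq
    refine alt_one_ne hG h hII hNL hUH hsup (le_antisymm ?_ (Nat.le_of_dvd Nat.card_pos (Subgroup.card_dvd_of_le hUH)))
    omega
  obtain ⟨hLcard, hmod, hcop⟩ := alt_two_card hG h hpf hII hL hUH hy hbot hsup
  obtain ⟨a, ha, hao, haH⟩ := alt_two_element hG h hpf hbot hsup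
  obtain ⟨hfpf, hfpf', hUcyc, hVcyc, hv, j, hj, hj', hu1, -⟩ := orders D hC1 E hC2 hlt
    (cyclic_of_exponent hG h.coatom_left h.left hII D.p_prime hLc hLI hfr hUH ha hao haH)
  have hj1 : j ≤ q := by
    rcases hj' with e | ⟨e, -⟩
    · rw [e]; exact D.q_prime.one_lt.le
    · exact e.le
  have hN := Arith.eq_geom (p := p) (q := q) (u := Nat.card U) (j := j) D.p_prime.two_le hj
  have hpu : p ≤ Nat.card U := by
    have h1 := Arith.geom_ge (p := p) (q := q) D.q_prime.two_le
    rw [← hN] at h1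
    have h2 : p * p ≤ p ^ (q - 1) := by
      rw [← pow_two]
      refine Nat.pow_le_pow_right D.p_prime.pos ?_
      have := D.three_le_q
      omega
    by_contra hlt'
    have h3 : Nat.card U * j ≤ p * p := Nat.mul_le_mul (not_le.1 hlt').le (hj1.trans hlt.le)
    omega
  have hoddH : Odd (Nat.card H) := hG.1.of_dvd_nat (Subgroup.card_subgroup_dvd_card H)
  have hnorm : IsCyclic H ∨ Nat.card H = Nat.card U := by
    rcases exists_bound hG D E hC1 hC2 hfpf hfpf' (fittingHallOf_hall hG h.coatom_left)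
        (fittingHallOf_hall hG h.coatom_right) hlt hpu hv h.coatom_right
        (otherSide hG hV hIV h3 hpr hfr hpf hpn hC h) hL rfl hLcard hcop.symm with hb | ⟨hb, t, ht⟩
    · exact Or.inr (Arith.final D.p_prime D.q_prime hpo hqo hlt hj hj' hu1 hv
        (Subgroup.card_dvd_of_le hUH) hmod hoddH hb)
    · left
      have hc : Nat.card ↥(V.map (MulAut.conj t).toMonoidHom) = Nat.card V :=
        Subgroup.card_map_of_injective (MulAut.conj t).injective
      have h1 : Nat.card H = Nat.card V := Arith.same_class D.p_prime D.q_prime hpo hqo hlt hv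
        (hc ▸ Subgroup.card_dvd_of_le ht) hmod hoddH hb
      have h2 : V.map (MulAut.conj t).toMonoidHom = H :=
        Subgroup.eq_of_le_of_card_ge ht (le_of_eq (h1.trans hc.symm))
      rw [← h2]
      exact (V.equivMapOfInjective _ (MulAut.conj t).injective).isCyclic.1 hVcyc
  have hnU := alt_two_normalizer hG h hsup hUH hnorm
  have hup := alt_two_mod hG h hpf hL hUH hbot hsup hnU
  have hj0 : j = 1 := by
    rcases hj' with e | ⟨e, -⟩
    · exact e
    exfalso
    have h1 := Arith.geom_mod_base (p := p) (q := q) D.p_prime.two_le D.q_prime.one_lt.le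
    rw [← hN] at h1
    have h2 := Arith.mod_one_of_mul hup h1
    rw [e, Nat.mod_eq_of_lt hlt] at h2
    exact D.q_prime.ne_one h2
  rw [hj0, mul_one] at hj
  exact ⟨D.q_prime, D.p_prime, hel, hcard, hUcyc, hj, hfpf,
    coprime_geom D.p_prime.two_le D.q_prime hj hu1, D.U_le_normP, helT,
    E.W₁_le.trans E.P_normal, y, hy, hnU⟩

end Cfsg.Agent.OddChar.P14
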