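/-
Peterfalvi section 14: S1544 from the structure of pairs and the field model.
-/
import Cfsg.Agent.Lib.OddChar.Assembly
import Cfsg.Agent.Lib.OddChar.FieldModel

set_option autoImplicit false
set_option linter.unusedSectionVars false
set_option linter.style.haveILetI false

namespace Cfsg.Agent.OddChar.P14

universe u

variable {G : Type u} [Group G] [Finite G]

/-- The full final configuration (S1544) of a pair with `q < p`. -/
theorem finalConfiguration (hst : Assembly.PairStructure G) {S T W₁ W₂ U V : Subgroup G}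
    (h : IsPairP G S T W₁ W₂ U V) (hlt : Nat.card W₁ < Nat.card W₂) :
    (Nat.card W₁).Prime ∧ (Nat.card W₂).Prime ∧ Cfsg.IsElementaryAbelian (Nat.card W₂) (Cfsg.fittingHallOf S) ∧
      Nat.card (Cfsg.fittingHallOf S) = Nat.card W₂ ^ Nat.card W₁ ∧ IsCyclic U ∧
      Nat.card U * (Nat.card W₂ - 1) = Nat.card W₂ ^ Nat.card W₁ - 1 ∧
      (∀ u ∈ U, u ≠ 1 → ∀ x ∈ Cfsg.fittingHallOf S, u * x = x * u → x = 1) ∧
      Nat.Coprime ((Nat.card W₂ ^ Nat.card W₁ - 1) / (Nat.card W₂ - 1)) (Nat.card W₂ - 1) ∧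
      U ≤ Subgroup.normalizer (Cfsg.fittingHallOf S : Set G) ∧
      (Nat.card (Cfsg.fittingHallOf T)).Coprime (Nat.card W₂) ∧
      Cfsg.IsElementaryAbelian (Nat.card W₁) (Cfsg.fittingHallOf T) ∧
      W₂ ≤ Subgroup.normalizer (Cfsg.fittingHallOf T : Set G) ∧
      ∃ y ∈ Cfsg.fittingHallOf T, W₂.map (MulAut.conj y).toMonoidHom ≤ Subgroup.normalizer (U : Set G) ∧
        ∃ (F : Type) (_ : Field F) (_ : Fintype F) (f : G → F) (ψ : G → F),
          Fintype.card F = Nat.card W₂ ^ Nat.card W₁ ∧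
          Set.BijOn f (Cfsg.fittingHallOf S : Set G) Set.univ ∧
          (∀ x ∈ Cfsg.fittingHallOf S, ∀ x' ∈ Cfsg.fittingHallOf S, f (x * x') = f x + f x') ∧
          (∀ u ∈ U, ψ u ≠ 0 ∧ ∀ x ∈ Cfsg.fittingHallOf S, f (u * x * u⁻¹) = ψ u * f x) ∧
          (∀ u ∈ U, ∀ u' ∈ U, ψ (u * u') = ψ u * ψ u') ∧ Set.InjOn ψ (U : Set G) ∧
          (∀ x ∈ Cfsg.fittingHallOf S, x ∈ W₂ ↔ f x ^ Nat.card W₂ = f x) := by
  obtain ⟨hq, hp, hel, hcard, hcyc, hUc, hfree, hcop, hUn, helT, hW2T, y, hy, hyU⟩ :=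
    hst S T W₁ W₂ U V h hlt
  refine ⟨hq, hp, hel, hcard, hcyc, hUc, hfree, hcop, hUn, (P13.coprime_W₁_H h.right).symm, helT, hW2T,
    y, hy, hyU, ?_⟩
  haveI := Fact.mk hp
  haveI := Fact.mk hq
  haveI := hel.1
  haveI := hcyc
  obtain ⟨v, hv, hv1⟩ := (Subgroup.bot_or_exists_ne_one W₂).resolve_left h.left.selfNormalizing.2.1
  have hzp : Subgroup.zpowers v = W₂ := by
    refine Subgroup.eq_of_le_of_card_ge (Subgroup.zpowers_le.2 hv) ?_
    rw [Nat.card_zpowers, (hp.eq_one_or_self_of_dvd _ (Subgroup.orderOf_dvd_natCard W₂ hv)).resolve_left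
      fun e => hv1 (orderOf_eq_one_iff.1 e)]
  obtain ⟨a, ha⟩ := IsCyclic.exists_generator (α := U)
  have hUcomm : ∀ u ∈ U, ∀ u' ∈ U, u * u' = u' * u := by
    intro u hu u' hu'
    obtain ⟨k, hk⟩ := Subgroup.mem_zpowers_iff.1 (ha ⟨u, hu⟩)
    obtain ⟨l, hl⟩ := Subgroup.mem_zpowers_iff.1 (ha ⟨u', hu'⟩)
    exact congrArg Subtype.val (hk ▸ hl ▸ (Commute.zpow_zpow (Commute.refl a) k l).eq :
      (⟨u, hu⟩ : U) * ⟨u', hu'⟩ = ⟨u', hu'⟩ * ⟨u, hu⟩)
  obtain ⟨F, i₁, i₂, f, ψ, hF, hbij, hadd, hact, hmul, hinj, hline⟩ :=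
    exists_field_model (q := Nat.card W₁) hcop U (Cfsg.fittingHallOf S)
      (fun x hx z hz => congrArg Subtype.val (mul_comm' (⟨x, hx⟩ : Cfsg.fittingHallOf S) ⟨z, hz⟩)) hcard hUcomm hUc
      (fun u hu x hx => (Subgroup.mem_normalizer_iff.1 (hUn hu) x).1 hx)
      (fun u hu x hx hux hx1 => by_contra fun hu1 => hx1 (hfree u hu hu1 x hx (mul_inv_eq_iff_eq_mul.1 hux)))
      v (P13.W₂_le_H h.left hv) hv1
  exact ⟨F, i₁, i₂, f, ψ, hF, hbij, hadd, hact, hmul, hinj, fun x hx => hzp ▸ hline x hx⟩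

end Cfsg.Agent.OddChar.P14
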